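import Groth.Agent.Lib.QDepth.Local
import Groth.Agent.H20.PDDepth
import Groth.Agent.Lib.Regular.Serre

/-!
The Auslander–Buchsbaum formula.
-/

set_option autoImplicit false

universe u

open IsLocalRing LocCoh RingTheory.Sequence Pointwise
open Groth.Agent.Lib.Depth Groth.Agent.Lib.Regular.PD

namespace Groth.Agent.H18.AB

section

variable {R : Type u} [CommRing R] [IsLocalRing R] [IsNoetherianRing R]
variable {M : Type u} [AddCommGroup M] [Module R M] [Module.Finite R M]

theorem exists_regular_of_depth_pos (h : 1 ≤ depth R R) (hM : 1 ≤ depth R M) [Nontrivial M] :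
    ∃ x ∈ maximalIdeal R, IsSMulRegular R x ∧ IsSMulRegular M x := by
  have hprod : ((1 : ℕ) : ℕ∞) ≤ idealDepth (maximalIdeal R) (R × M) :=
    SES.le_idealDepth_middle (maximalIdeal R) (f := LinearMap.inl R R M)
      (g := LinearMap.snd R R M) LinearMap.inl_injective Function.Exact.inl_snd
      LinearMap.snd_surjective (by simpa using! h) (by simpa using! hM)
  obtain ⟨x, hx, hreg, -⟩ := Basic.exists_isSMulRegular_of_succ_le (n := 0)
    (Basic.smul_top_ne_top (Ideal.IsPrime.ne_top' (I := maximalIdeal R))) hprod
  exact ⟨x, hx, hreg.of_injective (LinearMap.inl R R M) LinearMap.inl_injective,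
    hreg.of_injective (LinearMap.inr R R M) LinearMap.inr_injective⟩

theorem one_le_depth_of_regular [Nontrivial M] {x : R} (hx : x ∈ maximalIdeal R)
    (hreg : IsSMulRegular M x) : 1 ≤ depth R M := by
  rw [← Nat.cast_one]
  exact Basic.length_le_idealDepth (rs := [x]) ((isWeaklyRegular_singleton_iff M x).mpr hreg)
    (by simpa using hx)

theorem depth_eq_zero_of_free (h : depth R R = 0) [Nontrivial M] [Module.Free R M] :
    depth R M = 0 := by
  by_contra hne
  obtain ⟨x, hx, hreg, -⟩ := Basic.exists_isSMulRegular_of_succ_le (n := 0)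
    (Basic.smul_top_ne_top (Ideal.IsPrime.ne_top' (I := maximalIdeal R)))
    (show ((0 + 1 : ℕ) : ℕ∞) ≤ depth R M by simpa using Order.one_le_iff_ne_zero.mpr hne)
  have hRx : ¬ IsSMulRegular R x := fun hR => by
    have := one_le_depth_of_regular hx hR
    rw [h] at this
    simp at this
  obtain ⟨i⟩ := (Module.Free.chooseBasis R M).index_nonempty
  refine hRx (hreg.of_injective (LinearMap.toSpanSingleton R M (Module.Free.chooseBasis R M i))
    fun a b hab => ?_)
  have := congrArg (fun w => (Module.Free.chooseBasis R M).repr w i) hab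
  simpa using this

end

/-- Auslander–Buchsbaum, as an equivalence for all bounds. -/
theorem pdle_iff (d : ℕ) : ∀ (R : Type u) [CommRing R] [IsLocalRing R] [IsNoetherianRing R],
    depth R R = d → ∀ (M : Type u) [AddCommGroup M] [Module R M] [Module.Finite R M] [Nontrivial M],
      (∃ n, PDle R M n) → ∀ j : ℕ, depth R M = j →
        j ≤ d ∧ ∀ c : ℕ, PDle R M c ↔ d ≤ j + c := by
  induction d with
  | zero =>
    intro R _ _ _ hR M _ _ _ _ hn j hj
    obtain ⟨n, hn⟩ := hn
    obtain ⟨-, z, hz⟩ := (isAssociatedPrime_iff_exists_injective_linearMap _ _).mp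
      ((Assoc.depth_eq_zero_iff (R := R) R).mp hR)
    have hz0 : z 1 ≠ 0 := fun h => one_ne_zero (hz (by rw [h, map_zero]))
    have hann : ∀ r ∈ maximalIdeal R, r * z 1 = 0 := fun r hr => by
      rw [← smul_eq_mul, ← map_smul, Algebra.smul_def, mul_one, Ideal.Quotient.algebraMap_eq,
        Ideal.Quotient.eq_zero_iff_mem.mpr hr, map_zero]
    have hfree : Module.Free R M := Groth.Agent.Lib.Regular.Serre.free_of_socle hz0 hann n M hn
    have hj0 : j = 0 := by
      have := depth_eq_zero_of_free (M := M) hR
      rw [hj] at this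
      exact_mod_cast this
    exact ⟨hj0.le, fun c => ⟨fun _ => Nat.zero_le _,
      fun _ => pdle_mono (pdle_zero_iff.mpr Module.Projective.of_free) (Nat.zero_le c)⟩⟩
  | succ d ih =>
    intro R _ _ _ hR M _ _ _ _ hn
    have hR1 : 1 ≤ depth R R := by rw [hR]; simp
    -- reduction modulo an element regular on the ring and the module
    have pos : ∀ (N : Type u) [AddCommGroup N] [Module R N] [Module.Finite R N] [Nontrivial N],
        (∃ n, PDle R N n) → ∀ j : ℕ, depth R N = (j + 1 : ℕ) →
          j + 1 ≤ d + 1 ∧ ∀ c : ℕ, PDle R N c ↔ d + 1 ≤ j + 1 + c := by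
      intro N _ _ _ _ hn j hj
      obtain ⟨n, hn⟩ := hn
      obtain ⟨x, hx, hxR, hxN⟩ := exists_regular_of_depth_pos hR1 (M := N) (by rw [hj]; simp)
      have : Nontrivial (R ⧸ Ideal.span {x}) := Ideal.Quotient.nontrivial_iff.mpr
        (by rw [Ne, Ideal.span_singleton_eq_top]; exact hx)
      have : IsLocalRing (R ⧸ Ideal.span {x}) :=
        IsLocalRing.of_surjective' (Ideal.Quotient.mk _) Ideal.Quotient.mk_surjective
      have hRx : depth (R ⧸ Ideal.span {x}) (R ⧸ Ideal.span {x}) = d := by
        rw [← CM.depth_quotient_eq]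
        have h1 := SES.idealDepth_quotSMulTop (maximalIdeal R) (M := R) hx hxR
        rw [show idealDepth (maximalIdeal R) R = depth R R from rfl, hR, Nat.cast_succ] at h1
        rw [Basic.depth_congr (Submodule.quotEquivOfEq (Ideal.span {x}) (x • ⊤) (by
          rw [← Submodule.ideal_span_singleton_smul, smul_eq_mul, Ideal.mul_top]))]
        exact (ENat.add_left_injective_of_ne_top ENat.one_ne_top) h1
      have : Module.Finite (R ⧸ Ideal.span {x}) (QuotSMulTop x N) :=
        Module.Finite.of_restrictScalars_finite R _ _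
      have : Nontrivial (QuotSMulTop x N) := nontrivial_quotSMulTop_of_mem_maximalIdeal N hx
      have hNx : depth (R ⧸ Ideal.span {x}) (QuotSMulTop x N) = j := by
        rw [← Basic.depth_eq_of_surjective (R := R) (S := R ⧸ Ideal.span {x}) Ideal.Quotient.mk_surjective]
        have h1 := SES.idealDepth_quotSMulTop (maximalIdeal R) hx hxN
        rw [show idealDepth (maximalIdeal R) N = depth R N from rfl, hj, Nat.cast_succ] at h1
        exact (ENat.add_left_injective_of_ne_top ENat.one_ne_top) h1
      obtain ⟨hle, hiff⟩ := ih _ hRx (QuotSMulTop x N) ⟨n, pdle_red hxR n hxN hn⟩ j hNx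
      refine ⟨by omega, fun c => ⟨fun h => ?_, fun h => pdle_of_red hxR hx c hxN ((hiff c).mpr (by omega))⟩⟩
      have := (hiff c).mp (pdle_red hxR c hxN h)
      omega
    intro j hj
    cases j with
    | succ j => exact pos M hn j hj
    | zero =>
      obtain ⟨n, hn⟩ := hn
      obtain ⟨x, hx, hxR, -⟩ := exists_regular_of_depth_pos hR1 hR1 (M := R)
      obtain ⟨k, f, hf⟩ := exists_free_cover (R := R) M
      have hnotfree : ¬ Module.Projective R M := fun hp => by
        have : Module.Free R M := Module.free_of_flat_of_isLocalRing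
        let b := Module.Free.chooseBasis R M
        have hreg : IsSMulRegular M x := (IsSMulRegular.finsupp hxR).of_injective
          b.repr.toLinearMap b.repr.injective
        have := one_le_depth_of_regular hx hreg
        rw [hj] at this
        simp at this
      have hK : Nontrivial (LinearMap.ker f) := by
        rw [Submodule.nontrivial_iff_ne_bot]
        intro hbot
        exact hnotfree (Module.Projective.of_equiv
          (LinearEquiv.ofBijective f ⟨LinearMap.ker_eq_bot.mp hbot, hf⟩))
      have hKdepth : depth R (LinearMap.ker f) = (0 + 1 : ℕ) := by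
        have hle : 1 ≤ depth R (LinearMap.ker f) := one_le_depth_of_regular hx
          (IsSMulRegular.submodule _ _ (IsSMulRegular.pi fun _ : Fin k => hxR))
        refine le_antisymm (not_lt.mp fun hlt => ?_) (by simpa using hle)
        have h2 : ((1 + 1 : ℕ) : ℕ∞) ≤ idealDepth (maximalIdeal R) (LinearMap.ker f) := by
          simpa [one_add_one_eq_two, depth] using ENat.add_one_le_iff (by simp) |>.mpr hlt
        have h1 : ((1 : ℕ) : ℕ∞) ≤ idealDepth (maximalIdeal R) (Fin k → R) :=
          Groth.Agent.Lib.QDepth.le_idealDepth_pi _ (by simpa using! hR1) k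
        have h3 := SES.le_idealDepth_right (maximalIdeal R) (f := (LinearMap.ker f).subtype) (g := f)
          (Submodule.injective_subtype _) (LinearMap.exact_subtype_ker_map f) hf h1 h2
        rw [show idealDepth (maximalIdeal R) M = depth R M from rfl, hj] at h3
        simp at h3
      have hexK : ∃ n, PDle R (LinearMap.ker f) n := by
        cases n with
        | zero => exact absurd (pdle_zero_iff.mp hn) hnotfree
        | succ n => exact ⟨n, (pdle_succ_iff hf n).mp hn⟩
      obtain ⟨-, hiff⟩ := pos (LinearMap.ker f) hexK 0 hKdepth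
      refine ⟨Nat.zero_le _, fun c => ?_⟩
      cases c with
      | zero => exact ⟨fun h => absurd (pdle_zero_iff.mp h) hnotfree, fun h => absurd h (by omega)⟩
      | succ c => rw [pdle_succ_iff hf c, hiff c]; omega

/-- Auslander–Buchsbaum. -/
theorem depth_eq (R : Type u) [CommRing R] [IsLocalRing R] [IsNoetherianRing R]
    (M : Type u) [AddCommGroup M] [Module R M] [Module.Finite R M] [Nontrivial M] (e : ℕ)
    (he : CategoryTheory.projectiveDimension (ModuleCat.of R M) = e) :
    depth R R = e + depth R M := by
  obtain ⟨d, hd⟩ := ENat.ne_top_iff_exists.mp (Assoc.depth_ne_top (R := R) R)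
  obtain ⟨j, hj⟩ := ENat.ne_top_iff_exists.mp (Assoc.depth_ne_top (R := R) M)
  have hpd : ∀ c : ℕ, PDle R M c ↔ e ≤ c := fun c => by
    rw [Groth.Agent.H20.PDDepth.pdle_iff_projectiveDimension_le, he]
    exact_mod_cast Iff.rfl
  obtain ⟨hjd, hiff⟩ := pdle_iff d R hd.symm M ⟨e, (hpd e).mpr le_rfl⟩ j hj.symm
  rw [← hd, ← hj]
  have h1 := (hiff e).mp ((hpd e).mpr le_rfl)
  have h2 := (hpd (d - j)).mp ((hiff (d - j)).mpr (by omega))
  exact_mod_cast (show d = e + j by omega)

end Groth.Agent.H18.AB
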