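import Groth.Agent.H18.Catenary
import Groth.Agent.H20.CMDim
import Groth.Agent.Lib.Depth.CM
import Groth.Agent.Lib.Excellent.Transport
import Mathlib.RingTheory.RegularLocalRing.Polynomial
import Mathlib.RingTheory.KrullDimension.Polynomial
import Mathlib.RingTheory.Regular.Flat

/-!
Polynomial rings over Cohen–Macaulay rings are Cohen–Macaulay; Cohen–Macaulay rings are catenary.
-/

set_option autoImplicit false

universe u

open LocCoh IsLocalRing RingTheory.Sequence Polynomial
open Groth.Agent.Lib.Depth

namespace Groth.Agent.H18.CMPoly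

/-- A monic polynomial is regular modulo the extension of any ideal of coefficients. -/
theorem isSMulRegular_quotient_monic {A : Type u} [CommRing A] (J : Ideal A) {y : A[X]}
    (hy : y.Monic) : IsSMulRegular (A[X] ⧸ (J.map C) • (⊤ : Submodule A[X] A[X])) y := by
  rw [isSMulRegular_iff_right_eq_zero_of_smul]
  intro q hq
  obtain ⟨f, rfl⟩ := Submodule.Quotient.mk_surjective _ q
  rw [← Submodule.Quotient.mk_smul, Submodule.Quotient.mk_eq_zero, smul_eq_mul, Ideal.mul_top,
    ← Ideal.mk_ker (I := J), ← Polynomial.ker_mapRingHom, RingHom.mem_ker, smul_eq_mul,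
    map_mul] at hq
  rw [Submodule.Quotient.mk_eq_zero, smul_eq_mul, Ideal.mul_top, ← Ideal.mk_ker (I := J),
    ← Polynomial.ker_mapRingHom, RingHom.mem_ker]
  exact (hy.map (Ideal.Quotient.mk J)).mul_right_eq_zero_iff.1 hq

theorem isMaximal_of_ne {A : Type u} [CommRing A] [IsLocalRing A] (P : Ideal A[X]) [P.IsPrime]
    (h : P.comap C = maximalIdeal A) (hne : P ≠ (maximalIdeal A).map C) : P.IsMaximal := by
  let φ : A[X] →+* (ResidueField A)[X] := mapRingHom (residue A)
  have hφ : Function.Surjective φ := Polynomial.map_surjective _ residue_surjective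
  have hker : RingHom.ker φ = (maximalIdeal A).map C := by
    rw [Polynomial.ker_mapRingHom, ker_residue]
  have hle : RingHom.ker φ ≤ P := hker ▸ h ▸ Ideal.map_comap_le
  have hP : P = (P.map φ).comap φ := by
    rw [Ideal.comap_map_of_surjective φ hφ]
    exact (sup_eq_left.2 hle).symm
  have : (P.map φ).IsPrime := Ideal.map_isPrime_of_surjective hφ hle
  have hbot : P.map φ ≠ ⊥ := fun hb => hne (by
    rw [hP, hb, ← hker]
    rfl)
  have := Ideal.IsPrime.isMaximal this hbot
  rw [hP]
  exact Ideal.comap_isMaximal_of_surjective φ hφ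

/-- Localizations of `A[X]` over the closed point of a Cohen–Macaulay local ring `A`. -/
theorem isCohenMacaulayLocalRing_atPrime (A : Type u) [CommRing A] [IsCohenMacaulayLocalRing A]
    (P : Ideal A[X]) [P.IsPrime] (h : P.comap C = maximalIdeal A) :
    IsCohenMacaulayLocalRing (Localization.AtPrime P) := by
  obtain ⟨d, hd⟩ := ENat.ne_top_iff_exists.mp (Assoc.depth_ne_top (R := A) A)
  have hdim : (maximalIdeal A).height = d := by
    rw [← WithBot.coe_inj, maximalIdeal_height_eq_ringKrullDim, CM.ringKrullDim_eq_depth, ← hd]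
  obtain ⟨rs, hlen, hmem, hreg⟩ :=
    (Basic.le_idealDepth_iff_of_ne_top (Basic.smul_top_ne_top Ideal.IsPrime.ne_top') d).mp hd.le
  have hC : ∀ {a : A}, a ∈ maximalIdeal A → C a ∈ P := fun ha => by rwa [← h, Ideal.mem_comap] at ha
  obtain ⟨L, hLP, hLreg, hLht⟩ : ∃ L : List A[X], (∀ r ∈ L, r ∈ P) ∧ IsWeaklyRegular A[X] L ∧
      P.height ≤ (L.length : ℕ∞) := by
    have hflat : IsWeaklyRegular A[X] (rs.map (algebraMap A A[X])) := hreg.of_flat
    have hmem' : ∀ r ∈ rs.map (algebraMap A A[X]), r ∈ P := fun r hr => by
      obtain ⟨a, ha, rfl⟩ := List.mem_map.mp hr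
      exact hC (hmem a ha)
    by_cases hP : P = (maximalIdeal A).map C
    · refine ⟨_, hmem', hflat, ?_⟩
      rw [hP, height_map_C, hdim, List.length_map, hlen]
    · have := isMaximal_of_ne P h hP
      have : (P.comap C).IsMaximal := h ▸ maximalIdeal.isMaximal A
      obtain ⟨y, hmonic, hy⟩ := Polynomial.exists_monic_span_sup_map_eq A P this (by
        rw [h]
        exact fun he => hP he)
      refine ⟨rs.map (algebraMap A A[X]) ++ [y], ?_, ?_, ?_⟩
      · intro r hr
        rcases List.mem_append.mp hr with hr | hr
        · exact hmem' r hr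
        · rw [List.mem_singleton.mp hr, hy]
          exact Ideal.mem_sup_right (Ideal.mem_span_singleton_self y)
      · rw [isWeaklyRegular_append_iff, isWeaklyRegular_singleton_iff, ← Ideal.map_ofList]
        exact ⟨hflat, isSMulRegular_quotient_monic _ hmonic⟩
      · have : P.LiesOver (maximalIdeal A) := ⟨h.symm⟩
        rw [height_eq_height_add_one (maximalIdeal A) P, hdim, List.length_append, List.length_map,
          hlen, List.length_singleton]
        simp
  rw [CM.isCohenMacaulayLocalRing_iff, IsLocalization.AtPrime.ringKrullDim_eq_height P,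
    WithBot.coe_le_coe]
  refine hLht.trans ?_
  rw [← List.length_map (algebraMap A[X] (Localization.AtPrime P))]
  refine Basic.length_le_idealDepth
    (hLreg.of_isLocalizedModule (Localization.AtPrime P) P.primeCompl
      (Algebra.linearMap A[X] (Localization.AtPrime P))) fun r hr => ?_
  obtain ⟨a, ha, rfl⟩ := List.mem_map.mp hr
  exact (IsLocalization.AtPrime.to_map_mem_maximal_iff (Localization.AtPrime P) P a).mpr (hLP a ha)

/-- Polynomial rings over Cohen–Macaulay rings are Cohen–Macaulay. -/
theorem polynomial (R : Type u) [CommRing R] [IsCohenMacaulayRing R] :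
    IsCohenMacaulayRing R[X] := by
  refine { isCohenMacaulayLocalRing_localization := fun p hp => ?_ }
  let q := p.comap C
  let S := (Localization.AtPrime q)[X]
  let pc := Submonoid.map Polynomial.C.toMonoidHom q.primeCompl
  let : Algebra R[X] S := Polynomial.algebra R (Localization.AtPrime q)
  have : IsLocalization pc S := Polynomial.isLocalization _ _
  let pS := p.map (algebraMap R[X] S)
  have disj : Disjoint (pc : Set R[X]) (p : Set R[X]) := by
    simpa [pc, q] using! Set.disjoint_image_left.mpr
      (Set.disjoint_compl_left_iff_subset.mpr (fun _ a ↦ a))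
  have : pS.IsPrime := IsLocalization.isPrime_of_isPrime_disjoint pc _ _ ‹_› disj
  have : IsLocalization.AtPrime (Localization.AtPrime pS) p := by
    convert IsLocalization.isLocalization_isLocalization_atPrime_isLocalization pc
      (Localization.AtPrime pS) pS
    exact (IsLocalization.under_map_of_isPrime_disjoint pc _ ‹_› disj).symm
  have : IsCohenMacaulayLocalRing (Localization.AtPrime q) :=
    IsCohenMacaulayRing.isCohenMacaulayLocalRing_localization q
  have eq : Ideal.comap C pS = maximalIdeal (Localization.AtPrime q) := by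
    rw [← IsLocalization.map_under q.primeCompl _ (Ideal.comap C pS),
      ← IsLocalization.map_under q.primeCompl _ (maximalIdeal (Localization.AtPrime q))]
    simp only [Ideal.comap_comap, S, pS]
    rw [← Polynomial.algebraMap_eq (R := Localization.AtPrime q),
      ← IsScalarTower.algebraMap_eq R (Localization.AtPrime q) (Localization.AtPrime q)[X],
      IsScalarTower.algebraMap_eq R R[X] (Localization.AtPrime q)[X], ← Ideal.comap_comap,
      ← Ideal.under_def R[X], IsLocalization.under_map_of_isPrime_disjoint pc _ ‹_› disj]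
    simp [q, IsLocalization.AtPrime.under_maximalIdeal (Localization.AtPrime q) q]
  have := isCohenMacaulayLocalRing_atPrime _ pS eq
  exact Groth.Agent.Lib.Excellent.Transport.isCohenMacaulayLocalRing_of_ringEquiv
    (R := Localization.AtPrime pS)
    (IsLocalization.algEquiv p.primeCompl (Localization.AtPrime pS) (Localization.AtPrime p)).toRingEquiv

theorem mvPolynomial (R : Type u) [CommRing R] [IsCohenMacaulayRing R] (n : ℕ) :
    IsCohenMacaulayRing (MvPolynomial (Fin n) R) := by
  induction n with
  | zero =>
    exact Groth.Agent.Lib.Excellent.Transport.isoInvariant_isCohenMacaulayRing _ _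
      (MvPolynomial.isEmptyRingEquiv R (Fin 0)).symm ‹_›
  | succ n ih =>
    exact Groth.Agent.Lib.Excellent.Transport.isoInvariant_isCohenMacaulayRing _ _
      (MvPolynomial.finSuccEquiv R n).toRingEquiv.symm (polynomial (MvPolynomial (Fin n) R))

/-- Cohen–Macaulay local rings are catenary. -/
theorem isCatenary_of_local (A : Type u) [CommRing A] [IsCohenMacaulayLocalRing A] :
    CAlg.IsCatenary A := by
  have hsupp : Module.support A A = Set.univ := by simp [Module.support_eq_zeroLocus, Module.annihilator_eq_bot.mpr]
  have key := fun (s : LTSeries (PrimeSpectrum A))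
      (hs : ∀ i : Fin s.length, s (Fin.castSucc i) ⋖ s (Fin.succ i)) =>
    H20.CMDim.height_last_eq (CM.isCohenMacaulayModule_self (R := A)) hsupp s hs (Fin.last _)
  refine ⟨fun p q _ => ⟨q.asIdeal.height.toNat, fun s _ hl => ?_⟩, fun s t hh hl hs ht => ?_⟩
  · have hq : q.asIdeal.height ≠ ⊤ := Ideal.height_ne_top q.2.ne_top
    rw [← Nat.cast_le (α := ℕ∞), ENat.natCast_toNat hq,
      PrimeSpectrum.height_eq_orderHeight]
    exact Order.length_le_height hl.le
  · have h1 := key s hs
    have h2 := key t ht
    change s.last.asIdeal.height = _ at h1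
    change t.last.asIdeal.height = _ at h2
    rw [hl, hh, h2] at h1
    have hne : t.head.asIdeal.height ≠ ⊤ := Ideal.height_ne_top t.head.2.ne_top
    exact Nat.cast_inj.mp (WithTop.add_left_cancel hne h1).symm

/-- Cohen–Macaulay rings are universally catenary. -/
theorem isUniversallyCatenary (R : Type u) [CommRing R] [IsCohenMacaulayRing R] :
    CAlg.IsUniversallyCatenary R := by
  refine ⟨inferInstance, fun S _ _ hS => ?_⟩
  obtain ⟨n, f, hf⟩ := Algebra.FiniteType.iff_quotient_mvPolynomial''.mp hS
  have := mvPolynomial R n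
  refine Catenary.isCatenary_of_emb (Catenary.isConvexEmb_of_surjective f.toRingHom hf) ?_
  exact Catenary.isCatenary_of_localization_maximal _ fun m _ =>
    @isCatenary_of_local _ _ (IsCohenMacaulayRing.isCohenMacaulayLocalRing_localization m)

end Groth.Agent.H18.CMPoly
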