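import Groth.Agent.Lib.Unram.NormalFormalFibres
import Groth.Agent.Lib.Unram.OneBranch
import Groth.Agent.Lib.Henselian.FormallyCatenary
import Groth.Agent.H18.FEquidim.Cpl
import Groth.Agent.S4754
import Groth.Agent.S13598

/-!
# Geometrically normal formal fibres and catenary rings
-/

universe u

open IsLocalRing
open Groth.Agent.Lib

namespace Groth.Agent.H18.BranchCatenary

theorem card_minimalPrimes_quotient {R : Type u} [CommRing R] (I : Ideal R) :
    ENat.card (minimalPrimes (R ⧸ I)) = ENat.card I.minimalPrimes := by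
  rw [H18.FEquidim.Basic.minimalPrimes_quotient I, ENat.card_coe_set_eq, ENat.card_coe_set_eq,
    Set.InjOn.encard_image]
  exact (Ideal.comap_injective_of_surjective _ Ideal.Quotient.mk_surjective).injOn

theorem card_minimalPrimes_congr {R S : Type u} [CommRing R] [CommRing S] (e : R ≃+* S) :
    ENat.card (minimalPrimes R) = ENat.card (minimalPrimes S) := by
  have h := Ideal.comap_minimalPrimes_eq_of_surjective (f := e.toRingHom) e.surjective ⊥
  rw [Ideal.comap_bot_of_injective e.toRingHom e.injective] at h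
  change ENat.card (⊥ : Ideal R).minimalPrimes = ENat.card (⊥ : Ideal S).minimalPrimes
  rw [h, ENat.card_coe_set_eq, ENat.card_coe_set_eq, Set.InjOn.encard_image]
  exact (Ideal.comap_injective_of_surjective _ e.surjective).injOn

/-- A local ring with one branch and geometrically normal formal fibres is formally catenary. -/
theorem isFormallyCatenary_of_isUnibranch (A : Type u) [CommRing A] [IsLocalRing A] [IsNoetherianRing A]
    (hA : EGA4.HasGeomNormalFormalFibres A) (hu : CAlg2.IsUnibranch A) : EGA4.IsFormallyCatenary A := by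
  have h := (Unram.NormalFormalFibres.numBranches_completion_eq A hA).1
  rw [(Unram.OneBranch.numBranches_eq_one_iff (A := A)).mpr hu, Unram.CompletionBranch.numBranches_completion A] at h
  obtain ⟨hs⟩ := ENat.card_eq_one_iff_unique.mp h
  have heq : EGA4.IsFormallyEquidim A := by
    refine H18.FEquidim.Basic.isEquidim_iff.mpr fun p hp q hq => ?_
    have e : (⟨p, hp⟩ : minimalPrimes (AdicCompletion (maximalIdeal A) A)) = ⟨q, hq⟩ :=
      (hs.eq_default _).trans (hs.eq_default _).symm
    obtain rfl : p = q := congrArg Subtype.val e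
    rfl
  intro p _
  exact (H18.FEquidim.Cpl.isFormallyEquidim_quotient_iff heq p).mp H18.FEquidim.Cpl.isEquidim_of_isDomain

variable (A S : Type u) [CommRing A] [IsLocalRing A] [IsNoetherianRing A] [CommRing S] [IsLocalRing S]
  [Algebra A S] [IsLocalHom (algebraMap A S)] [Hensel.IsHenselization A S]

/-- The henselization is formally catenary when completion does not change the branches. -/
theorem isFormallyCatenary_henselization (hA : EGA4.HasGeomNormalFormalFibres A) :
    EGA4.IsFormallyCatenary S := by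
  have := Henselian.Permanence.isNoetherianRing A S
  intro p _
  let p₀ := p.comap (algebraMap A S)
  let J₀ := p₀.map (algebraMap A S)
  let C := EGA4.Cpl S
  have : Module.Flat S C := AdicCompletion.flat_of_isNoetherian _
  have hloc : IsLocalHom (algebraMap S C) := H18.FEquidim.Cpl.isLocalHom_cpl
  let I₀ := J₀.map (algebraMap S C)
  have hJm : J₀ ≤ maximalIdeal S := Ideal.map_comap_le.trans (le_maximalIdeal Ideal.IsPrime.ne_top')
  have hp₀m : p₀ ≤ maximalIdeal A := le_maximalIdeal Ideal.IsPrime.ne_top'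
  have : Nontrivial (A ⧸ p₀) := Ideal.Quotient.nontrivial_iff.mpr Ideal.IsPrime.ne_top'
  have : Nontrivial (S ⧸ J₀) := Ideal.Quotient.nontrivial_iff.mpr fun h =>
    (maximalIdeal.isMaximal S).ne_top (top_le_iff.mp (h ▸ hJm))
  have : IsLocalRing (A ⧸ p₀) := .of_surjective' _ Ideal.Quotient.mk_surjective
  have : IsLocalRing (S ⧸ J₀) := .of_surjective' _ Ideal.Quotient.mk_surjective
  have : IsLocalHom (algebraMap (A ⧸ p₀) (S ⧸ J₀)) := ⟨fun a ha => by
    obtain ⟨a, rfl⟩ := Ideal.Quotient.mk_surjective a
    have : IsLocalHom (Ideal.Quotient.mk J₀) := IsLocalHom.of_surjective _ Ideal.Quotient.mk_surjective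
    have h1 : IsUnit (Ideal.Quotient.mk J₀ (algebraMap A S a)) := ha
    exact (isUnit_of_map_unit _ _ (isUnit_of_map_unit _ _ h1)).map _⟩
  have := Groth.Agent.S13598.result (A := A) (S := S) p₀ hp₀m
  -- the number of branches
  have hA' : EGA4.HasGeomNormalFormalFibres (A ⧸ p₀) := Groth.Agent.S4754.result A hA p₀
  obtain ⟨e₀⟩ := Henselian.FormallyCatenary.exists_quotient_equiv A S p₀
  have hcard : ENat.card I₀.minimalPrimes = ENat.card J₀.minimalPrimes := by
    rw [← card_minimalPrimes_quotient, ← card_minimalPrimes_quotient J₀,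
      Unram.BranchHenselian.card_minimalPrimes_henselization (A ⧸ p₀) (S ⧸ J₀),
      ← (Unram.NormalFormalFibres.numBranches_completion_eq (A ⧸ p₀) hA').1,
      Unram.CompletionBranch.numBranches_completion (A ⧸ p₀)]
    exact (card_minimalPrimes_congr e₀).symm
  have key : ∀ q ∈ J₀.minimalPrimes, ∀ P ∈ (q.map (algebraMap S C)).minimalPrimes,
      P ∈ I₀.minimalPrimes := by
    intro q hq P hP
    have := hq.1.1
    refine ⟨⟨hP.1.1, (Ideal.map_mono hq.1.2).trans hP.1.2⟩, fun Q hQ hQP => ?_⟩
    have hPq := Henselian.FormallyCatenary.comap_eq_of_minimal hP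
    have hQq : Q.comap (algebraMap S C) = q := by
      have := hQ.1
      have hle : Q.comap (algebraMap S C) ≤ q := (Ideal.comap_mono hQP).trans hPq.le
      exact le_antisymm hle (hq.2 ⟨Ideal.IsPrime.comap _, Ideal.map_le_iff_le_comap.mp hQ.2⟩ hle)
    exact hP.2 ⟨hQ.1, Ideal.map_le_iff_le_comap.mpr hQq.ge⟩ hQP
  have hmem : ∀ P ∈ I₀.minimalPrimes, P.comap (algebraMap S C) ∈ J₀.minimalPrimes := by
    intro P hP
    have := hP.1.1
    obtain ⟨q, hq, hqP⟩ := Ideal.exists_minimalPrimes_le (Ideal.map_le_iff_le_comap.mp hP.1.2)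
    have := hq.1.1
    have : P.LiesOver (P.comap (algebraMap S C)) := ⟨rfl⟩
    obtain ⟨P', hP'le, hP'p, hP'⟩ := Ideal.exists_ideal_le_liesOver_of_le P hqP
    have hPP' : P ≤ P' := hP.2 ⟨hP'p, Ideal.map_le_iff_le_comap.mpr
      (hq.1.2.trans hP'.over.le)⟩ hP'le
    rw [le_antisymm hPP' hP'le]
    rw [show P'.comap (algebraMap S C) = q from hP'.over.symm]; exact hq
  let F : I₀.minimalPrimes → J₀.minimalPrimes := fun P => ⟨P.1.comap (algebraMap S C), hmem P.1 P.2⟩
  have hsurj : Function.Surjective F := fun q => by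
    have := q.2.1.1
    have hne : q.1.map (algebraMap S C) ≤ maximalIdeal C := by
      refine (Ideal.map_mono (le_maximalIdeal q.2.1.1.ne_top)).trans ?_
      exact ((local_hom_TFAE (algebraMap S C)).out 0 2).mp hloc
    obtain ⟨P, hP, -⟩ := Ideal.exists_minimalPrimes_le hne
    exact ⟨⟨P, key q.1 q.2 P hP⟩, Subtype.ext (Henselian.FormallyCatenary.comap_eq_of_minimal hP)⟩
  have : Finite I₀.minimalPrimes :=
    (I₀.finite_minimalPrimes_of_isNoetherianRing C).to_subtype
  have : Finite J₀.minimalPrimes :=
    (J₀.finite_minimalPrimes_of_isNoetherianRing S).to_subtype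
  have hinj : Function.Injective F := by
    have hc : Nat.card I₀.minimalPrimes = Nat.card J₀.minimalPrimes := congrArg ENat.toNat hcard
    exact ((Nat.bijective_iff_surjective_and_card F).mpr ⟨hsurj, hc⟩).1
  have hp : p ∈ J₀.minimalPrimes := by
    refine ⟨⟨inferInstance, Ideal.map_comap_le⟩, fun q hq hqp => ?_⟩
    have := hq.1
    exact (Henselian.Permanence.eq_of_le_of_comap_eq A S hqp
      (le_antisymm (Ideal.comap_mono hqp) (Ideal.map_le_iff_le_comap.mp hq.2))).ge
  obtain ⟨e⟩ := Henselian.HenselCompletion.exists_cplQuotEquiv S p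
  refine Henselian.FormallyCatenary.isEquidim_congr e.symm
    ((H18.FEquidim.Basic.isEquidim_quotient_iff _).mpr fun P hP P' hP' => ?_)
  have e' : F ⟨P, key p hp P hP⟩ = F ⟨P', key p hp P' hP'⟩ := Subtype.ext
    ((Henselian.FormallyCatenary.comap_eq_of_minimal hP).trans
      (Henselian.FormallyCatenary.comap_eq_of_minimal hP').symm)
  obtain rfl : P = P' := congrArg Subtype.val (hinj e')
  rfl

end Groth.Agent.H18.BranchCatenary
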