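import Groth.Agent.H18.Hartshorne
import Groth.Prelude.Def_Found
import Mathlib.Order.KrullDimension

/-!
Catenary local rings: the dimension function `dim A/p`; equidimensionality under depth two.
-/

set_option autoImplicit false

universe u

open LocCoh IsLocalRing RingTheory.Sequence
open Groth.Agent.Lib.Depth

namespace Groth.Agent.H18.CatDim

theorem ringKrullDim_quotient_eq_coheight {A : Type u} [CommRing A] (p : PrimeSpectrum A) :
    ringKrullDim (A ⧸ p.asIdeal) = (Order.coheight p : WithBot ℕ∞) := by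
  rw [ringKrullDim_quotient, Order.coheight_eq_krullDim_Ici]
  apply Order.krullDim_eq_of_orderIso
  exact OrderIso.setCongr _ _ (by ext x; rfl)

section

variable {A : Type u} [CommRing A] [IsLocalRing A] [IsNoetherianRing A]

theorem coheight_ne_top (p : PrimeSpectrum A) : Order.coheight p ≠ ⊤ := by
  intro h
  have h1 : (Order.coheight p : WithBot ℕ∞) ≤ ringKrullDim A := Order.coheight_le_krullDim p
  rw [h] at h1
  exact (lt_of_le_of_lt h1 ringKrullDim_lt_top).ne rfl

/-- A chain of maximal length above `p` is saturated and ends at the closed point. -/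
theorem exists_saturated (p : PrimeSpectrum A) : ∃ s : LTSeries (PrimeSpectrum A),
    s.head = p ∧ s.last = closedPoint A ∧ (s.length : ℕ∞) = Order.coheight p ∧
      ∀ i : Fin s.length, s (Fin.castSucc i) ⋖ s (Fin.succ i) := by
  obtain ⟨n, hn⟩ := ENat.ne_top_iff_exists.mp (coheight_ne_top p)
  obtain ⟨s, hs, hlen⟩ := Order.exists_series_of_le_coheight p hn.le
  refine ⟨s, hs, ?_, by rw [hlen, hn], fun i => ⟨s.step i, fun c h1 h2 => ?_⟩⟩
  · by_contra hne
    have hlt : s.last < closedPoint A :=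
      lt_of_le_of_ne (show s.last.asIdeal ≤ maximalIdeal A from le_maximalIdeal s.last.2.ne_top) hne
    have := Order.length_le_coheight (p := s.snoc _ hlt) (x := p) (by rw [RelSeries.head_snoc, hs])
    rw [RelSeries.snoc_length, hlen, ← hn, Nat.cast_le] at this
    omega
  · have := Order.length_le_coheight (p := s.insertNth i c h1 h2) (x := p) (by
      rw [RelSeries.head]
      refine le_of_eq (hs.symm.trans ?_)
      change s.toFun 0 = Fin.insertNth (α := fun _ => PrimeSpectrum A) i.castSucc.succ c s.toFun 0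
      rw [← Fin.succAbove_ne_zero_zero (Fin.succ_ne_zero i.castSucc), Fin.insertNth_apply_succAbove])
    rw [RelSeries.insertNth_length, hlen, ← hn, Nat.cast_le] at this
    omega

theorem coheight_eq_add_one (hc : CAlg.IsCatenary A) {p q : PrimeSpectrum A} (h : p ⋖ q) :
    Order.coheight p = Order.coheight q + 1 := by
  obtain ⟨s, hs1, hs2, hs3, hs4⟩ := exists_saturated p
  obtain ⟨t, ht1, ht2, ht3, ht4⟩ := exists_saturated q
  let t' : LTSeries (PrimeSpectrum A) := LTSeries.mk (t.length + 1) (Fin.cons p t.toFun)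
    (Fin.strictMono_iff_lt_succ.mpr fun i => by
      refine Fin.cases ?_ (fun j => ?_) i
      · simp only [Fin.castSucc_zero, Fin.cons_zero, Fin.cons_succ]
        rw [show t.toFun 0 = q from ht1]
        exact h.lt
      · simp only [← Fin.succ_castSucc, Fin.cons_succ]
        exact t.step j)
  have := hc.2 s t' hs1 (by
      rw [hs2, ← ht2, RelSeries.last, RelSeries.last]
      change _ = (Fin.cons p t.toFun : Fin (t.length + 2) → PrimeSpectrum A) (Fin.last (t.length + 1))
      rw [← Fin.succ_last, Fin.cons_succ]) hs4 fun i => by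
    change (Fin.cons p t.toFun : Fin (t.length + 2) → PrimeSpectrum A) i.castSucc ⋖
      (Fin.cons p t.toFun : Fin (t.length + 2) → PrimeSpectrum A) i.succ
    refine Fin.cases ?_ (fun j => ?_) i
    · change p ⋖ t.toFun 0
      rw [show t.toFun 0 = q from ht1]
      exact h
    · simp only [← Fin.succ_castSucc, Fin.cons_succ]
      exact ht4 j
  rw [← hs3, ← ht3, this]
  push_cast [t', LTSeries.mk]
  ring

theorem isCatenary_iff : CAlg.IsCatenary A ↔ ∀ p q : PrimeSpectrum A, p < q →
    ringKrullDim (A ⧸ q.asIdeal) < ringKrullDim (A ⧸ p.asIdeal) ∧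
      (p ⋖ q → ringKrullDim (A ⧸ p.asIdeal) = ringKrullDim (A ⧸ q.asIdeal) + 1) := by
  constructor
  · intro hc p q hpq
    rw [ringKrullDim_quotient_eq_coheight, ringKrullDim_quotient_eq_coheight]
    refine ⟨WithBot.coe_lt_coe.mpr (Order.coheight_strictAnti hpq (coheight_ne_top q).lt_top),
      fun h => ?_⟩
    rw [coheight_eq_add_one hc h, WithBot.coe_add, WithBot.coe_one]
  · intro h
    have key : ∀ s : LTSeries (PrimeSpectrum A),
        (∀ i : Fin s.length, s (Fin.castSucc i) ⋖ s (Fin.succ i)) →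
          Order.coheight s.head = Order.coheight s.last + s.length := by
      intro s hs
      have : ∀ i : Fin (s.length + 1),
          Order.coheight s.head = Order.coheight (s i) + (i : ℕ) := by
        intro i
        induction i using Fin.induction with
        | zero => simp [RelSeries.head]
        | succ i ih =>
          have h1 := (h _ _ (hs i).lt).2 (hs i)
          rw [ringKrullDim_quotient_eq_coheight, ringKrullDim_quotient_eq_coheight,
            ← WithBot.coe_one, ← WithBot.coe_add, WithBot.coe_inj] at h1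
          rw [ih, h1]
          simp [add_assoc, add_comm (1 : ℕ∞)]
      simpa [RelSeries.last] using this (Fin.last _)
    refine ⟨fun p q _ => ⟨(Order.coheight p).toNat, fun s hh _ => ?_⟩, fun s t hh hl hs ht => ?_⟩
    · rw [← Nat.cast_le (α := ℕ∞), ENat.natCast_toNat (coheight_ne_top p)]
      exact Order.length_le_coheight hh.ge
    · have h1 := key s hs
      rw [hh, hl, key t ht] at h1
      exact Nat.cast_inj.mp (WithTop.add_left_cancel (coheight_ne_top t.last) h1).symm

end

/-- Depth at most one when two ideals with zero product cut out the closed point. -/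
theorem depth_le_one_of_mul {A : Type u} [CommRing A] [IsLocalRing A] [IsNoetherianRing A]
    (a b : Ideal A) (hab : a * b = ⊥) (ha : a ≠ ⊥) (hb : b ≠ ⊥) (ha' : a ≠ ⊤) (hb' : b ≠ ⊤)
    (hrad : (a ⊔ b).radical = maximalIdeal A) : depth A A ≤ 1 := by
  by_contra hd
  refine hd (Hartshorne.depth_le_one a b ?_ ha hb ha' hb' hrad)
  have h1 : ((1 : ℕ) : ℕ∞) ≤ idealDepth (a ⊔ b) A := by
    rw [← Ext.idealDepth_radical_eq (I := a ⊔ b) (M := A) (J := maximalIdeal A)
      (by rw [hrad]; exact (maximalIdeal.isMaximal A).isPrime.radical)]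
    exact le_of_lt (by simpa [depth] using not_le.mp hd)
  have htop : (a ⊔ b) ≠ ⊤ := fun h => Ideal.IsPrime.ne_top' (I := maximalIdeal A)
    (by rw [← hrad, h, Ideal.radical_top])
  obtain ⟨f, hf, hreg, -⟩ := Basic.exists_isSMulRegular_of_succ_le (n := 0)
    (Basic.smul_top_ne_top htop) h1
  rw [eq_bot_iff]
  rintro x ⟨hxa, hxb⟩
  obtain ⟨a1, ha1, b1, hb1, hf'⟩ := Submodule.mem_sup.mp hf
  have h1 : a1 * x ∈ a * b := Ideal.mul_mem_mul ha1 hxb
  have h2 : x * b1 ∈ a * b := Ideal.mul_mem_mul hxa hb1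
  rw [hab, Ideal.mem_bot] at h1 h2
  refine hreg (show f * x = f * 0 from ?_)
  rw [mul_zero, ← hf', add_mul, h1, mul_comm b1, h2, add_zero]

/-- A prime minimal over two ideals with nilpotent product, containing points off each of them,
has height at most one if the ring has depth two in codimension two. -/
theorem height_le_one {R : Type u} [CommRing R] [IsNoetherianRing R] (a b : Ideal R)
    (hnil : a * b ≤ nilradical R) (P : Ideal R) (hP : P ∈ (a ⊔ b).minimalPrimes)
    (q1 q2 : Ideal R) [q1.IsPrime] [q2.IsPrime] (h1 : q1 ≤ P) (h2 : q2 ≤ P)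
    (ha : ¬ a ≤ q2) (hb : ¬ b ≤ q1)
    (hdepth : 2 ≤ P.height → haveI := hP.1.1
      2 ≤ depth (Localization.AtPrime P) (Localization.AtPrime P)) :
    P.height ≤ 1 := by
  have := hP.1.1
  by_contra hc
  have hd := hdepth (by
    have := ENat.add_one_le_iff (m := 1) ENat.one_ne_top |>.mpr (not_le.mp hc)
    simpa [one_add_one_eq_two] using this)
  obtain ⟨N, hN⟩ := IsNoetherianRing.isNilpotent_nilradical R
  let f := algebraMap R (Localization.AtPrime P)
  have hne : ∀ (c q : Ideal R), q.IsPrime → q ≤ P → ¬ c ≤ q → (c ^ (N + 1)).map f ≠ ⊥ := by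
    intro c q hq hqP hcq hbot
    refine hcq (hq.le_of_pow_le (n := N + 1) fun x hx => ?_)
    have h0 : f x = 0 := (Submodule.eq_bot_iff _).mp hbot _ (Ideal.mem_map_of_mem f hx)
    obtain ⟨⟨u, hu⟩, hu0⟩ := (IsLocalization.map_eq_zero_iff P.primeCompl _ x).mp h0
    exact (hq.mem_or_mem (show u * x ∈ q from hu0 ▸ q.zero_mem)).resolve_left fun h => hu (hqP h)
  have hlt : ∀ c : Ideal R, c ≤ P → (c ^ (N + 1)).map f ≠ ⊤ := fun c hcP => by
    have hle : (c ^ (N + 1)).map f ≤ maximalIdeal (Localization.AtPrime P) :=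
      Ideal.map_le_iff_le_comap.mpr fun x hx =>
        (IsLocalization.AtPrime.to_map_mem_maximal_iff _ P x).mpr
          (hcP (Ideal.pow_le_self (Nat.succ_ne_zero N) hx))
    exact ne_top_of_le_ne_top Ideal.IsPrime.ne_top' hle
  have := depth_le_one_of_mul ((a ^ (N + 1)).map f) ((b ^ (N + 1)).map f)
    (by
      rw [← Ideal.map_mul, ← mul_pow]
      have : (a * b) ^ (N + 1) = ⊥ := eq_bot_iff.mpr
        ((Ideal.pow_right_mono hnil _).trans (by rw [pow_succ, hN]; simp))
      rw [this, Ideal.map_bot])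
    (hne a q2 ‹_› h2 ha) (hne b q1 ‹_› h1 hb) (hlt a (le_sup_left.trans hP.1.2))
    (hlt b (le_sup_right.trans hP.1.2)) (by
      rw [← Ideal.map_sup, Ideal.radical_eq_sInf]
      refine le_antisymm (sInf_le ⟨Ideal.map_le_iff_le_comap.mpr fun x hx =>
        (IsLocalization.AtPrime.to_map_mem_maximal_iff _ P x).mpr ?_,
        (maximalIdeal.isMaximal _).isPrime⟩) (le_sInf ?_)
      · exact (sup_le ((Ideal.pow_le_self (Nat.succ_ne_zero N)).trans le_sup_left)
          ((Ideal.pow_le_self (Nat.succ_ne_zero N)).trans le_sup_right)).trans hP.1.2 hx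
      rintro Q ⟨hQ, hQp⟩
      have hQle : Q.comap f ≤ P := fun x hx => by
        by_contra hxP
        exact hQp.ne_top (Q.eq_top_of_isUnit_mem hx
          (IsLocalization.map_units (Localization.AtPrime P) (⟨x, hxP⟩ : P.primeCompl)))
      have hle := Ideal.map_le_iff_le_comap.mp hQ
      have hPQ : P ≤ Q.comap f := hP.2 ⟨hQp.comap f, sup_le
        ((hQp.comap f).le_of_pow_le (le_sup_left.trans hle))
        ((hQp.comap f).le_of_pow_le (le_sup_right.trans hle))⟩ hQle
      intro w hw
      obtain ⟨x, s, rfl⟩ := IsLocalization.exists_mk'_eq P.primeCompl w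
      rw [IsLocalization.AtPrime.mk'_mem_maximal_iff (Localization.AtPrime P) P] at hw
      exact (IsLocalization.mk'_mem_iff).mpr (hPQ hw))
  exact absurd (hd.trans this) (by norm_num)

/-- Catenary local rings with depth two in codimension two are equidimensional. -/
theorem equidim {A : Type u} [CommRing A] [IsLocalRing A] [IsNoetherianRing A]
    (hc : CAlg.IsCatenary A)
    (h : ∀ p : PrimeSpectrum A, (2 : ℕ∞) ≤ p.asIdeal.height →
      (2 : ℕ∞) ≤ depth (Localization.AtPrime p.asIdeal) (Localization.AtPrime p.asIdeal))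
    (p : Ideal A) (hp : p ∈ minimalPrimes A) : ringKrullDim (A ⧸ p) = ringKrullDim A := by
  classical
  have hfin := minimalPrimes.finite_of_isNoetherianRing A
  by_contra hne
  let all := hfin.toFinset
  let S1 := all.filter fun q => ringKrullDim (A ⧸ q) = ringKrullDim (A ⧸ p)
  let S2 := all.filter fun q => ¬ ringKrullDim (A ⧸ q) = ringKrullDim (A ⧸ p)
  have hmem : ∀ {q}, q ∈ all ↔ q ∈ minimalPrimes A := hfin.mem_toFinset
  have hS2 : S2.Nonempty := by
    by_contra hS
    rw [Finset.not_nonempty_iff_eq_empty, Finset.filter_eq_empty_iff] at hS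
    refine hne (le_antisymm (ringKrullDim_quotient_le p) ?_)
    obtain ⟨s, hs⟩ : ∃ s : LTSeries (PrimeSpectrum A), (s.length : WithBot ℕ∞) = ringKrullDim A := by
      have : FiniteDimensionalOrder (PrimeSpectrum A) := inferInstance
      exact ⟨LTSeries.longestOf _, (Order.krullDim_eq_length_of_finiteDimensionalOrder).symm⟩
    obtain ⟨q, hq, hqs⟩ := Ideal.exists_minimalPrimes_le (I := ⊥) (J := s.head.asIdeal) bot_le
    have := hS (hmem.mpr hq)
    rw [not_not] at this
    rw [← this, ← hs]
    have hqp := hq.1.1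
    rw [ringKrullDim_quotient_eq_coheight ⟨q, hqp⟩]
    have h2 : (s.length : ℕ∞) ≤ Order.coheight (⟨q, hqp⟩ : PrimeSpectrum A) :=
      (Order.length_le_coheight (p := s) le_rfl).trans (Order.coheight_anti hqs)
    exact WithBot.coe_le_coe.mpr h2
  let a : Ideal A := S1.inf id
  let b : Ideal A := S2.inf id
  have hnil : a * b ≤ nilradical A := fun x hx => by
    rw [nilradical, ← Ideal.sInf_minimalPrimes, Ideal.mem_sInf]
    intro q hq
    by_cases he : ringKrullDim (A ⧸ q) = ringKrullDim (A ⧸ p)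
    · exact (Finset.inf_le (f := id) (Finset.mem_filter.mpr ⟨hmem.mpr hq, he⟩) : a ≤ q)
        (Ideal.mul_le_left hx)
    · exact (Finset.inf_le (f := id) (Finset.mem_filter.mpr ⟨hmem.mpr hq, he⟩) : b ≤ q)
        (Ideal.mul_le_right hx)
  have hp1 : p ∈ S1 := Finset.mem_filter.mpr ⟨hmem.mpr hp, rfl⟩
  obtain ⟨q', hq'⟩ := hS2
  have hq'p := (hmem.mp (Finset.mem_filter.mp hq').1).1.1
  have hab : a ⊔ b ≤ maximalIdeal A :=
    sup_le ((Finset.inf_le (f := id) hp1).trans (le_maximalIdeal hp.1.1.ne_top))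
      ((Finset.inf_le (f := id) hq').trans (le_maximalIdeal hq'p.ne_top))
  obtain ⟨P, hP, -⟩ := Ideal.exists_minimalPrimes_le hab
  have hPp := hP.1.1
  obtain ⟨q1, hq1, hq1P⟩ := (hPp.inf_le' (f := id)).mp (show S1.inf id ≤ P from le_sup_left.trans hP.1.2)
  obtain ⟨q2, hq2, hq2P⟩ := (hPp.inf_le' (f := id)).mp (show S2.inf id ≤ P from le_sup_right.trans hP.1.2)
  simp only [id] at hq1P hq2P
  have m1 := hmem.mp (Finset.mem_filter.mp hq1).1
  have m2 := hmem.mp (Finset.mem_filter.mp hq2).1
  have i1 := m1.1.1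
  have i2 := m2.1.1
  have hne' : ∀ {x y : Ideal A}, x ∈ S1 → y ∈ S2 → x ≠ y := fun {x y} hx hy he =>
    (Finset.mem_filter.mp hy).2 (he ▸ (Finset.mem_filter.mp hx).2)
  have ha : ¬ a ≤ q2 := fun hle => by
    obtain ⟨z, hz, hzq⟩ := (i2.inf_le' (f := id)).mp hle
    have mz := hmem.mp (Finset.mem_filter.mp hz).1
    exact hne' hz hq2 (le_antisymm hzq (m2.2 mz.1 hzq))
  have hb : ¬ b ≤ q1 := fun hle => by
    obtain ⟨z, hz, hzq⟩ := (i1.inf_le' (f := id)).mp hle
    have mz := hmem.mp (Finset.mem_filter.mp hz).1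
    exact hne' hq1 hz (le_antisymm (m1.2 mz.1 hzq) hzq)
  have hht := height_le_one a b hnil P hP q1 q2 hq1P hq2P ha hb fun hh => h ⟨P, hPp⟩ hh
  have hcov : ∀ {q : Ideal A} [q.IsPrime], q ≤ P → q ≠ P →
      (⟨q, ‹_›⟩ : PrimeSpectrum A) ⋖ ⟨P, hPp⟩ := by
    intro q _ hle hne
    refine ⟨lt_of_le_of_ne hle fun h => hne (congrArg PrimeSpectrum.asIdeal h), fun c hqc hcP => ?_⟩
    have e1 := Ideal.height_add_one_le_of_lt_of_isPrime (show c.asIdeal < P from hcP)
    have e2 := Ideal.height_add_one_le_of_lt_of_isPrime (show q < c.asIdeal from hqc)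
    have h6 : (1 : ℕ∞) + 1 ≤ 1 := (add_le_add le_add_self le_rfl).trans
      (((add_le_add e2 le_rfl).trans e1).trans hht)
    exact absurd h6 (by norm_num)
  have hq1ne : q1 ≠ P := fun he => hne' hq1 hq2 (le_antisymm (m1.2 m2.1 (he ▸ hq2P)) (he ▸ hq2P))
  have hq2ne : q2 ≠ P := fun he => hne' hq1 hq2 (le_antisymm (he ▸ hq1P) (m2.2 m1.1 (he ▸ hq1P)))
  have c1 := coheight_eq_add_one hc (hcov hq1P hq1ne)
  have c2 := coheight_eq_add_one hc (hcov hq2P hq2ne)
  refine (Finset.mem_filter.mp hq2).2 ?_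
  rw [← (Finset.mem_filter.mp hq1).2, ringKrullDim_quotient_eq_coheight ⟨q1, i1⟩,
    ringKrullDim_quotient_eq_coheight ⟨q2, i2⟩, c1, c2]

end Groth.Agent.H18.CatDim
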