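import Groth.Agent.Lib.TopDim.Catenary
import Groth.Prelude.Def_Found
import Mathlib.AlgebraicGeometry.Stalk
import Mathlib.AlgebraicGeometry.AffineScheme
import Mathlib.AlgebraicGeometry.Properties

/-!
# Catenary schemes and catenary rings
-/

universe u

open Order TopologicalSpace AlgebraicGeometry CategoryTheory

namespace Groth.Agent.H18.CatSpace

open Groth.Agent.Lib.TopDim.Catenary

/-- The catenary condition for a poset, in terms of chains with given end points. -/
def Cat (P : Type*) [PartialOrder P] : Prop :=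
  (∀ p q : P, p ≤ q → ∃ n : ℕ, ∀ s : LTSeries P, s.head = p → s.last = q → s.length ≤ n) ∧
  ∀ s t : LTSeries P, s.head = t.head → s.last = t.last → Saturated s → Saturated t →
    s.length = t.length

theorem cat_iff {P : Type*} [PartialOrder P] :
    Cat P ↔ ∀ a b : P, a ≤ b → IsCatOn a b := by
  constructor
  · intro h a b hab
    obtain ⟨n, hn⟩ := h.1 a b hab
    have hle : cd a b ≤ n := cd_le_iff.mpr fun s h₁ h₂ => by
      rcases eq_or_lt_of_le h₂ with he | hlt
      · exact_mod_cast hn s h₁ he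
      · have := hn (s.snoc b hlt) (by rw [RelSeries.head_snoc]; exact h₁) (RelSeries.last_snoc _ _ _)
        simp at this
        exact_mod_cast (show s.length ≤ n by omega)
    have hne : cd a b ≠ ⊤ := ne_top_of_le_ne_top (ENat.natCast_ne_top n) hle
    refine ⟨hne, fun s h₁ h₂ hs => ?_⟩
    obtain ⟨t, ht₁, ht₂, hts, htl⟩ := exists_saturated hab hne
    rw [h.2 s t (h₁.trans ht₁.symm) (h₂.trans ht₂.symm) hs hts, htl]
  · intro h
    refine ⟨fun p q hpq => ⟨(cd p q).toNat, fun s h₁ h₂ => ?_⟩, fun s t hh hl hs ht => ?_⟩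
    · rw [← Nat.cast_le (α := ℕ∞), ENat.natCast_toNat (h p q hpq).1]
      exact length_le_cd h₁ h₂.le
    · have h1 := (h s.head s.last s.head_le_last).2 s rfl rfl hs
      have h2 := (h t.head t.last t.head_le_last).2 t rfl rfl ht
      rw [hh, hl, ← h2] at h1
      exact_mod_cast h1

theorem isCatenary_iff_cat (A : Type u) [CommRing A] :
    CAlg.IsCatenary A ↔ Cat (PrimeSpectrum A) := Iff.rfl

theorem isCatenarySpace_iff_cat (X : Type u) [TopologicalSpace X] :
    PtTop.IsCatenarySpace X ↔ Cat (IrreducibleCloseds X) :=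
  isCatenarySpace_iff.trans cat_iff.symm

section Anti

variable {P Q : Type*} [PartialOrder P] [PartialOrder Q] (e : P → Q)
  (he : ∀ a b, e a ≤ e b ↔ b ≤ a) (hup : ∀ a q, e a ≤ q → q ∈ Set.range e)

include he in
theorem lt_iff (a b : P) : e a < e b ↔ b < a := by
  rw [lt_iff_le_not_ge, lt_iff_le_not_ge, he, he]

include he in
theorem injective : Function.Injective e := fun a b h =>
  le_antisymm ((he _ _).mp h.ge) ((he _ _).mp h.le)

include he hup in
theorem covBy_iff (a b : P) : e a ⋖ e b ↔ b ⋖ a := by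
  constructor
  · intro h
    refine ⟨(lt_iff e he a b).mp h.lt, fun c hc hc' => h.2 ((lt_iff e he a c).mpr hc') ((lt_iff e he c b).mpr hc)⟩
  · intro h
    refine ⟨(lt_iff e he a b).mpr h.lt, fun c hc hc' => ?_⟩
    obtain ⟨c, rfl⟩ := hup a c hc.le
    exact h.2 ((lt_iff e he c b).mp hc') ((lt_iff e he a c).mp hc)

include he in
theorem exists_map (s : LTSeries P) :
    ∃ t : LTSeries Q, t.length = s.length ∧ t.head = e s.last ∧ t.last = e s.head ∧
      ((∀ a b, b ⋖ a → e a ⋖ e b) → Saturated s → Saturated t) := by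
  refine ⟨LTSeries.mk s.length (fun i => e (s i.rev)) fun i j hij =>
    (lt_iff e he _ _).mpr (s.strictMono (Fin.rev_lt_rev.mpr hij)), rfl, ?_, ?_, ?_⟩
  · show e (s (Fin.rev 0)) = _
    rw [Fin.rev_zero]; rfl
  · show e (s (Fin.rev (Fin.last _))) = _
    rw [Fin.rev_last]; rfl
  · intro hc hs i
    have := hc _ _ (hs (Fin.rev (⟨i.1, i.2⟩ : Fin s.length)))
    rw [← Fin.rev_succ, ← Fin.rev_castSucc] at this
    exact this

include he hup in
theorem exists_lift (t : LTSeries Q) (a : P) (ha : e a ≤ t.head) :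
    ∃ s : LTSeries P, s.length = t.length ∧ t.head = e s.last ∧ t.last = e s.head ∧
      (Saturated t → Saturated s) := by
  have hmem : ∀ i, ∃ p, e p = t i := fun i =>
    hup a _ (ha.trans (t.monotone (Fin.zero_le i)))
  choose p hp using hmem
  refine ⟨LTSeries.mk t.length (fun i => p i.rev) fun i j hij =>
    (lt_iff e he _ _).mp (by rw [hp, hp]; exact t.strictMono (Fin.rev_lt_rev.mpr hij)), rfl, ?_, ?_, ?_⟩
  · show t.head = e (p (Fin.rev (Fin.last _)))
    rw [hp, Fin.rev_last]; rfl
  · show t.last = e (p (Fin.rev 0))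
    rw [hp, Fin.rev_zero]; rfl
  · intro hs i
    show p (Fin.rev i.castSucc) ⋖ p (Fin.rev i.succ)
    rw [← covBy_iff e he hup, hp, hp]
    have := hs (Fin.rev (⟨i.1, i.2⟩ : Fin t.length))
    rw [← Fin.rev_succ, ← Fin.rev_castSucc] at this
    exact this

include he hup in
theorem cat_of_cat (h : Cat Q) : Cat P := by
  refine ⟨fun p q hpq => ?_, fun s t hh hl hs ht => ?_⟩
  · obtain ⟨n, hn⟩ := h.1 (e q) (e p) ((he _ _).mpr hpq)
    refine ⟨n, fun s h₁ h₂ => ?_⟩
    obtain ⟨s', e1, e2, e3, -⟩ := exists_map e he s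
    exact e1 ▸ hn s' (e2.trans (congrArg e h₂)) (e3.trans (congrArg e h₁))
  · obtain ⟨s', e1, e2, e3, e4⟩ := exists_map e he s
    obtain ⟨t', f1, f2, f3, f4⟩ := exists_map e he t
    rw [← e1, ← f1]
    exact h.2 s' t' (e2.trans ((congrArg e hl).trans f2.symm))
      (e3.trans ((congrArg e hh).trans f3.symm))
      (e4 (fun a b hab => (covBy_iff e he hup a b).mpr hab) hs)
      (f4 (fun a b hab => (covBy_iff e he hup a b).mpr hab) ht)

end Anti

/-- A poset is catenary when it is covered by upper sets that are catenary. -/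
theorem cat_of_cover {Q : Type*} [PartialOrder Q]
    (h : ∀ q : Q, ∃ (P : Type u) (_ : PartialOrder P) (e : P → Q), (∀ a b, e a ≤ e b ↔ b ≤ a) ∧
      (∀ a x, e a ≤ x → x ∈ Set.range e) ∧ Cat P ∧ q ∈ Set.range e) : Cat Q := by
  refine ⟨fun p q hpq => ?_, fun s t hh hl hs ht => ?_⟩
  · obtain ⟨P, _, e, he, hup, hc, a, rfl⟩ := h p
    obtain ⟨b, rfl⟩ := hup a q hpq
    obtain ⟨n, hn⟩ := hc.1 b a ((he _ _).mp hpq)
    refine ⟨n, fun s h₁ h₂ => ?_⟩
    obtain ⟨s', e1, e2, e3, -⟩ := exists_lift e he hup s a h₁.ge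
    exact e1 ▸ hn s' (injective e he (e3.symm.trans h₂)) (injective e he (e2.symm.trans h₁))
  · obtain ⟨P, _, e, he, hup, hc, a, ha⟩ := h s.head
    obtain ⟨s', e1, e2, e3, e4⟩ := exists_lift e he hup s a ha.le
    obtain ⟨t', f1, f2, f3, f4⟩ := exists_lift e he hup t a (ha.le.trans hh.le)
    rw [← e1, ← f1]
    exact hc.2 s' t' (injective e he (e3.symm.trans (hl.trans f3)))
      (injective e he (e2.symm.trans (hh.trans f2))) (e4 hs) (f4 ht)

section Spec

variable {X : Type u} [TopologicalSpace X] {A : Type u} [CommRing A]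

/-- The closure of the image of a prime. -/
def toClosed (g : PrimeSpectrum A → X) (p : PrimeSpectrum A) : IrreducibleCloseds X :=
  ⟨closure {g p}, isIrreducible_singleton.closure, isClosed_closure⟩

theorem toClosed_le_iff (g : PrimeSpectrum A → X) (hg : Topology.IsInducing g) (a b : PrimeSpectrum A) :
    toClosed g a ≤ toClosed g b ↔ b ≤ a := by
  rw [PrimeSpectrum.le_iff_specializes, ← hg.specializes_iff, specializes_iff_closure_subset]
  rfl

theorem toClosed_up [QuasiSober X] (g : PrimeSpectrum A → X)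
    (hgen : ∀ a y, y ⤳ g a → y ∈ Set.range g) (a : PrimeSpectrum A) (Z : IrreducibleCloseds X)
    (h : toClosed g a ≤ Z) : Z ∈ Set.range (toClosed g) := by
  have hgp := Z.isIrreducible.isGenericPoint_genericPoint_closure
  rw [Z.isClosed.closure_eq] at hgp
  obtain ⟨b, hb⟩ := hgen a Z.isIrreducible.genericPoint
    (hgp.specializes (h (subset_closure rfl)))
  refine ⟨b, IrreducibleCloseds.ext ?_⟩
  show closure {g b} = _
  rw [hb]
  exact hgp.def

theorem isCatenary_of_isCatenarySpace [QuasiSober X] (g : PrimeSpectrum A → X)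
    (hg : Topology.IsInducing g) (hgen : ∀ a y, y ⤳ g a → y ∈ Set.range g)
    (h : PtTop.IsCatenarySpace X) : CAlg.IsCatenary A :=
  cat_of_cat (toClosed g) (toClosed_le_iff g hg) (toClosed_up g hgen)
    ((isCatenarySpace_iff_cat X).mp h)

theorem isCatenarySpace_of_cover [QuasiSober X]
    (h : ∀ x : X, ∃ (A : Type u) (_ : CommRing A) (g : PrimeSpectrum A → X), Topology.IsInducing g ∧
      (∀ a y, y ⤳ g a → y ∈ Set.range g) ∧ CAlg.IsCatenary A ∧ x ∈ Set.range g) :
    PtTop.IsCatenarySpace X := by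
  rw [isCatenarySpace_iff_cat]
  refine cat_of_cover fun Z => ?_
  obtain ⟨A, _, g, hg, hgen, hA, a, ha⟩ := h Z.isIrreducible.genericPoint
  refine ⟨PrimeSpectrum A, inferInstance, toClosed g, toClosed_le_iff g hg, toClosed_up g hgen, hA,
    toClosed_up g hgen a Z ?_⟩
  intro x hx
  have hgp := Z.isIrreducible.isGenericPoint_genericPoint_closure
  rw [Z.isClosed.closure_eq] at hgp
  change x ∈ closure {g a} at hx
  rw [ha, hgp.def] at hx
  exact hx

end Spec

section Scheme

variable (X : Scheme.{u})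

theorem inducing_fromSpecStalk (x : X) :
    Topology.IsInducing (X.fromSpecStalk x : PrimeSpectrum (X.presheaf.stalk x) → X) :=
  (X.fromSpecStalk x).isEmbedding.isInducing

theorem gen_fromSpecStalk (x : X) (a : PrimeSpectrum (X.presheaf.stalk x)) (y : X)
    (h : y ⤳ X.fromSpecStalk x a) : y ∈ Set.range (X.fromSpecStalk x) := by
  rw [Scheme.range_fromSpecStalk]
  have : X.fromSpecStalk x a ∈ Set.range (X.fromSpecStalk x) := Set.mem_range_self a
  rw [Scheme.range_fromSpecStalk] at this
  exact h.trans this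

theorem mem_range_fromSpecStalk (x : X) : x ∈ Set.range (X.fromSpecStalk x) := by
  rw [Scheme.range_fromSpecStalk]; exact specializes_rfl

variable {U : X.Opens} (hU : IsAffineOpen U)

theorem inducing_fromSpec :
    Topology.IsInducing (hU.fromSpec : PrimeSpectrum Γ(X, U) → X) :=
  hU.fromSpec.isOpenEmbedding.isInducing

theorem gen_fromSpec (a : PrimeSpectrum Γ(X, U)) (y : X) (h : y ⤳ hU.fromSpec a) :
    y ∈ Set.range hU.fromSpec := by
  rw [IsAffineOpen.range_fromSpec]
  have : hU.fromSpec a ∈ Set.range hU.fromSpec := Set.mem_range_self a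
  rw [IsAffineOpen.range_fromSpec] at this
  exact h.mem_open U.2 this

theorem isCatenary_stalk (h : PtTop.IsCatenarySpace X) (x : X) :
    CAlg.IsCatenary (X.presheaf.stalk x) :=
  isCatenary_of_isCatenarySpace _ (inducing_fromSpecStalk X x) (gen_fromSpecStalk X x) h

include hU in
theorem isCatenary_affine (h : PtTop.IsCatenarySpace X) : CAlg.IsCatenary Γ(X, U) :=
  isCatenary_of_isCatenarySpace _ (inducing_fromSpec X hU) (gen_fromSpec X hU) h

theorem isCatenarySpace_of_stalks (h : ∀ x : X, CAlg.IsCatenary (X.presheaf.stalk x)) :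
    PtTop.IsCatenarySpace X :=
  isCatenarySpace_of_cover fun x => ⟨X.presheaf.stalk x, inferInstance, X.fromSpecStalk x,
    inducing_fromSpecStalk X x, gen_fromSpecStalk X x, h x, mem_range_fromSpecStalk X x⟩

theorem isCatenarySpace_of_affine
    (h : ∀ x : X, ∃ U : X.affineOpens, x ∈ (U : X.Opens) ∧ CAlg.IsCatenary Γ(X, U)) :
    PtTop.IsCatenarySpace X :=
  isCatenarySpace_of_cover fun x => by
    obtain ⟨U, hxU, hc⟩ := h x
    have hU : IsAffineOpen (U : X.Opens) := U.2
    exact ⟨Γ(X, U), inferInstance, hU.fromSpec, inducing_fromSpec X hU, gen_fromSpec X hU, hc,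
      hU.range_fromSpec.ge hxU⟩

end Scheme

end Groth.Agent.H18.CatSpace
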