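import Groth.Prelude.Def_Found
import Groth.Agent.Lib.Excellent.Localization
import Mathlib.RingTheory.Localization.BaseChange
import Mathlib.RingTheory.FiniteStability

/-!
Catenarity through convex embeddings of spectra.
-/

set_option autoImplicit false

universe u

open CAlg

namespace Groth.Agent.H18.Catenary

/-- An order embedding of spectra with convex image. -/
def IsConvexEmb {A B : Type u} [CommRing A] [CommRing B]
    (e : PrimeSpectrum B → PrimeSpectrum A) : Prop :=
  (∀ p q, e p ≤ e q ↔ p ≤ q) ∧ ∀ p q x, e p ≤ x → x ≤ e q → ∃ y, e y = x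

variable {A B : Type u} [CommRing A] [CommRing B] {e : PrimeSpectrum B → PrimeSpectrum A}

theorem IsConvexEmb.strictMono (he : IsConvexEmb e) : StrictMono e :=
  strictMono_of_le_iff_le fun p q => (he.1 p q).symm

theorem IsConvexEmb.injective (he : IsConvexEmb e) : Function.Injective e := fun p q h =>
  le_antisymm ((he.1 p q).1 h.le) ((he.1 q p).1 h.ge)

theorem IsConvexEmb.lt_iff (he : IsConvexEmb e) {p q : PrimeSpectrum B} : e p < e q ↔ p < q := by
  simp only [lt_iff_le_not_ge, he.1]

theorem IsConvexEmb.covBy_iff (he : IsConvexEmb e) {p q : PrimeSpectrum B} :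
    e p ⋖ e q ↔ p ⋖ q := by
  constructor
  · intro h
    exact ⟨he.lt_iff.1 h.lt,
      fun z h1 h2 => h.2 (he.strictMono h1) (he.strictMono h2)⟩
  · intro h
    refine ⟨he.strictMono h.lt, fun x h1 h2 => ?_⟩
    obtain ⟨y, rfl⟩ := he.2 p q x h1.le h2.le
    exact h.2 (he.lt_iff.1 h1) (he.lt_iff.1 h2)

theorem isCatenary_of_emb (he : IsConvexEmb e) (h : IsCatenary A) : IsCatenary B := by
  refine ⟨fun p q hpq => ?_, fun s t hh hl hs ht => ?_⟩
  · obtain ⟨n, hn⟩ := h.1 (e p) (e q) (he.strictMono.monotone hpq)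
    exact ⟨n, fun s h1 h2 => hn (s.map e he.strictMono) (by simpa using congrArg e h1)
      (by simpa using congrArg e h2)⟩
  · exact h.2 (s.map e he.strictMono) (t.map e he.strictMono) (by simpa using congrArg e hh)
      (by simpa using congrArg e hl) (fun i => he.covBy_iff.2 (hs i)) (fun i => he.covBy_iff.2 (ht i))

theorem exists_lift (he : IsConvexEmb e) {p q : PrimeSpectrum B} (s : LTSeries (PrimeSpectrum A))
    (hh : s.head = e p) (hl : s.last = e q) :
    ∃ s' : LTSeries (PrimeSpectrum B), s'.length = s.length ∧ s'.head = p ∧ s'.last = q ∧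
      ((∀ i : Fin s.length, s (Fin.castSucc i) ⋖ s (Fin.succ i)) →
        ∀ i : Fin s'.length, s' (Fin.castSucc i) ⋖ s' (Fin.succ i)) := by
  have : ∀ i, ∃ y, e y = s i := fun i => he.2 p q (s i)
    (hh ▸ s.monotone (Fin.zero_le i)) (hl ▸ s.monotone (Fin.le_last i))
  choose y hy using this
  refine ⟨LTSeries.mk s.length y fun i j hij => ?_, rfl, ?_, ?_, fun hcov i => ?_⟩
  · rw [← he.lt_iff, hy, hy]
    exact s.strictMono hij
  · exact he.injective ((hy _).trans hh)
  · exact he.injective ((hy _).trans hl)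
  · rw [← he.covBy_iff]
    change e (y (Fin.castSucc i)) ⋖ e (y (Fin.succ i))
    rw [hy, hy]
    exact hcov i

/-- Catenarity can be checked on convex pieces containing any given comparable pair. -/
theorem isCatenary_of_cover (A : Type u) [CommRing A]
    (h : ∀ p q : PrimeSpectrum A, p ≤ q → ∃ (B : Type u) (_ : CommRing B)
      (e : PrimeSpectrum B → PrimeSpectrum A), IsConvexEmb e ∧ IsCatenary B ∧
        (∃ p', e p' = p) ∧ ∃ q', e q' = q) :
    IsCatenary A := by
  refine ⟨fun p q hpq => ?_, fun s t hh hl hs ht => ?_⟩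
  · obtain ⟨B, _, e, he, hB, ⟨p', rfl⟩, ⟨q', rfl⟩⟩ := h p q hpq
    obtain ⟨n, hn⟩ := hB.1 p' q' ((he.1 _ _).1 hpq)
    refine ⟨n, fun s h1 h2 => ?_⟩
    obtain ⟨s', h3, h4, h5, -⟩ := exists_lift he s h1 h2
    exact h3 ▸ hn s' h4 h5
  · obtain ⟨B, _, e, he, hB, ⟨p', hp⟩, ⟨q', hq⟩⟩ := h s.head s.last s.head_le_last
    obtain ⟨s', h3, h4, h5, h6⟩ := exists_lift he s hp.symm hq.symm
    obtain ⟨t', h3', h4', h5', h6'⟩ := exists_lift he t (hh.symm.trans hp.symm) (hl.symm.trans hq.symm)
    rw [← h3, ← h3']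
    exact hB.2 s' t' (h4.trans h4'.symm) (h5.trans h5'.symm) (h6 hs) (h6' ht)

theorem isConvexEmb_of_surjective (f : A →+* B) (hf : Function.Surjective f) :
    IsConvexEmb (PrimeSpectrum.comap f) := by
  have hr : ∀ x : PrimeSpectrum A, RingHom.ker f ≤ x.asIdeal → ∃ y, PrimeSpectrum.comap f y = x :=
    fun x hx => ⟨⟨x.asIdeal.map f, Ideal.map_isPrime_of_surjective hf hx⟩,
      PrimeSpectrum.ext (by
        change (x.asIdeal.map f).comap f = x.asIdeal
        rw [Ideal.comap_map_of_surjective f hf]
        exact sup_eq_left.2 hx)⟩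
  exact ⟨fun p q => Ideal.comap_le_comap_iff_of_surjective f hf _ _,
    fun p _ x h1 _ => hr x (le_trans (Ideal.comap_mono bot_le) h1)⟩

theorem isConvexEmb_of_isLocalization [Algebra A B] (S : Submonoid A) [IsLocalization S B] :
    IsConvexEmb (PrimeSpectrum.comap (algebraMap A B)) := by
  refine ⟨fun p q => ⟨fun h => ?_, fun h => Ideal.comap_mono h⟩, fun p q x _ h2 => ?_⟩
  · change p.asIdeal ≤ q.asIdeal
    rw [← IsLocalization.map_under S B p.asIdeal, ← IsLocalization.map_under S B q.asIdeal]
    exact Ideal.map_mono h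
  · change x ∈ Set.range _
    rw [PrimeSpectrum.localization_comap_range B S]
    exact ((IsLocalization.isPrime_iff_isPrime_disjoint S B q.asIdeal).1 q.2).2.mono_right h2

theorem isCatenary_of_localization_maximal (A : Type u) [CommRing A]
    (h : ∀ (m : Ideal A) [m.IsMaximal], IsCatenary (Localization.AtPrime m)) : IsCatenary A := by
  refine isCatenary_of_cover A fun p q hpq => ?_
  obtain ⟨m, hm, hqm⟩ := Ideal.exists_le_maximal q.asIdeal q.2.ne_top
  refine ⟨Localization.AtPrime m, inferInstance, PrimeSpectrum.comap (algebraMap A _),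
    isConvexEmb_of_isLocalization m.primeCompl, h m, ?_, ?_⟩ <;>
  · change _ ∈ Set.range _
    rw [PrimeSpectrum.localization_comap_range _ m.primeCompl]
    exact Set.disjoint_left.2 fun x hx hx' => hx (hqm (by first | exact hx' | exact hpq hx'))

open TensorProduct in
attribute [local instance] Algebra.TensorProduct.rightAlgebra in
theorem isUniversallyCatenary_of_localization_maximal (R : Type u) [CommRing R] [IsNoetherianRing R]
    (h : ∀ (m : Ideal R) [m.IsMaximal], IsUniversallyCatenary (Localization.AtPrime m)) :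
    IsUniversallyCatenary R := by
  refine ⟨inferInstance, fun S _ _ hS => isCatenary_of_cover S fun p q hpq => ?_⟩
  obtain ⟨m, hm, hqm⟩ := Ideal.exists_le_maximal (q.asIdeal.comap (algebraMap R S))
    (Ideal.comap_ne_top _ q.2.ne_top)
  let B := Localization.AtPrime m ⊗[R] S
  have : Algebra.FiniteType (Localization.AtPrime m) B := inferInstance
  have : IsLocalization (Algebra.algebraMapSubmonoid S m.primeCompl) B :=
    IsLocalization.tensorRight (A := Localization.AtPrime m) (S := S) m.primeCompl
  refine ⟨B, inferInstance, PrimeSpectrum.comap (algebraMap S B),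
    isConvexEmb_of_isLocalization (Algebra.algebraMapSubmonoid S m.primeCompl),
    (h m).2 B ‹_›, ?_, ?_⟩ <;>
  · change _ ∈ Set.range _
    rw [PrimeSpectrum.localization_comap_range _ (Algebra.algebraMapSubmonoid S m.primeCompl)]
    refine Set.disjoint_left.2 fun x hx hx' => ?_
    obtain ⟨r, hr, rfl⟩ := hx
    exact hr (hqm (by first | exact hx' | exact hpq hx'))

end Groth.Agent.H18.Catenary
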