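import Groth.Agent.Lib.Pure.UI
import Mathlib.RingTheory.AdicCompletion.Functoriality
import Mathlib.RingTheory.Filtration
import Mathlib.RingTheory.Finiteness.Basic

/-!
The completion of a free module inside the product: a universally injective map.
-/

set_option autoImplicit false

universe u

namespace Groth.Agent.H18.CompletionFinsupp

variable {R : Type u} [CommRing R] (I : Ideal R) (α : Type u)

/-- The coordinate map. -/
noncomputable def coords : AdicCompletion I (α →₀ R) →ₗ[R] (α → AdicCompletion I R) :=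
  LinearMap.pi fun a : α => AdicCompletion.map I (Finsupp.lapply a : (α →₀ R) →ₗ[R] R)

theorem mem_smul_top_finsupp (J : Ideal R) (s : α →₀ R) :
    s ∈ (J • ⊤ : Submodule R (α →₀ R)) ↔ ∀ a, s a ∈ J := by
  classical
  constructor
  · intro h
    exact Submodule.smul_induction_on h (p := fun s : α →₀ R => ∀ a, s a ∈ J)
      (fun r hr t _ a => by simpa using J.mul_mem_right (t a) hr)
      (fun x y hx hy a => by simpa using J.add_mem (hx a) (hy a))
  · intro h
    rw [← s.sum_single]
    refine Submodule.sum_mem _ fun a _ => ?_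
    rw [show Finsupp.single a (s a) = s a • Finsupp.single a (1 : R) by simp]
    exact Submodule.smul_mem_smul (h a) trivial

theorem mem_smul_top_pi {n : ℕ} (J : Ideal R) (v : Fin n → R) :
    v ∈ (J • ⊤ : Submodule R (Fin n → R)) ↔ ∀ i, v i ∈ J := by
  classical
  constructor
  · intro h
    exact Submodule.smul_induction_on h (p := fun v : Fin n → R => ∀ i, v i ∈ J)
      (fun r hr t _ i => J.mul_mem_right (t i) hr) (fun x y hx hy i => J.add_mem (hx i) (hy i))
  · intro h
    rw [show v = ∑ i, v i • Pi.single i (1 : R) by ext; simp [Finset.sum_apply, Pi.single_apply]]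
    exact Submodule.sum_mem _ fun i _ => Submodule.smul_mem_smul (h i) trivial

theorem mem_smul_top_self (J : Ideal R) (r : R) : r ∈ (J • ⊤ : Submodule R R) ↔ r ∈ J := by
  simp [Ideal.mul_top]

theorem exists_rep (x : AdicCompletion I (α →₀ R)) (N : ℕ) :
    ∃ s : α →₀ R, x.val N = Submodule.Quotient.mk s ∧
      ∀ a, (coords I α x a).val N = Submodule.Quotient.mk (s a) := by
  obtain ⟨s, hs⟩ := Submodule.Quotient.mk_surjective _ (x.val N)
  refine ⟨s, hs.symm, fun a => ?_⟩
  change (AdicCompletion.map I (Finsupp.lapply a : (α →₀ R) →ₗ[R] R) x).val N = _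
  rw [AdicCompletion.map_val_apply, ← hs]
  rfl

theorem injective_coords : Function.Injective (coords I α) := by
  rw [injective_iff_map_eq_zero]
  intro x hx
  refine AdicCompletion.ext fun N => ?_
  obtain ⟨s, hs, hsa⟩ := exists_rep I α x N
  rw [hs, AdicCompletion.val_zero_apply, Submodule.Quotient.mk_eq_zero, mem_smul_top_finsupp]
  intro a
  have := hsa a
  rw [hx, Pi.zero_apply, AdicCompletion.val_zero_apply, eq_comm, Submodule.Quotient.mk_eq_zero,
    mem_smul_top_self] at this
  exact this

theorem finite_of_coords (x : AdicCompletion I (α →₀ R)) (r : α → R)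
    (hr : ∀ a, coords I α x a = AdicCompletion.of I R (r a)) (N : ℕ) :
    {a | r a ∉ I ^ N}.Finite := by
  obtain ⟨s, -, hsa⟩ := exists_rep I α x N
  refine s.support.finite_toSet.subset fun a ha => ?_
  by_contra hs0
  have := hsa a
  rw [hr a, Finsupp.notMem_support_iff.1 hs0, Submodule.Quotient.mk_zero, AdicCompletion.of_apply,
    Submodule.mkQ_apply, Submodule.Quotient.mk_eq_zero, mem_smul_top_self] at this
  exact ha this

theorem exists_coords (r : α → R) (h : ∀ N, {a | r a ∉ I ^ N}.Finite) :
    ∃ x, ∀ a, coords I α x a = AdicCompletion.of I R (r a) := by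
  classical
  let s : ℕ → α →₀ R := fun N =>
    ∑ a ∈ (h N).toFinset, Finsupp.single a (r a)
  have hs : ∀ N a, r a - s N a ∈ I ^ N := by
    intro N a
    have he : s N a = if a ∈ (h N).toFinset then r a else 0 := by
      simp [s, Finsupp.finsetSum_apply, Finsupp.single_apply]
    rw [he]
    split_ifs with ha
    · simp
    · simpa using ha
  have hc : AdicCompletion.IsAdicCauchy I (α →₀ R) s := by
    intro m n hmn
    rw [SModEq.sub_mem, mem_smul_top_finsupp]
    intro a
    have h1 := (I ^ m).sub_mem (Ideal.pow_le_pow_right hmn (hs n a)) (hs m a)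
    rwa [Finsupp.sub_apply, show s m a - s n a = (r a - s n a) - (r a - s m a) by ring]
  refine ⟨AdicCompletion.mk I (α →₀ R) ⟨s, hc⟩, fun a => AdicCompletion.ext fun N => ?_⟩
  change (AdicCompletion.map I (Finsupp.lapply a : (α →₀ R) →ₗ[R] R) _).val N = _
  rw [AdicCompletion.map_val_apply, AdicCompletion.of_apply, Submodule.mkQ_apply]
  change Submodule.Quotient.mk (s N a) = Submodule.Quotient.mk (r a)
  rw [eq_comm, Submodule.Quotient.eq, mem_smul_top_self]
  exact hs N a

/-- A lift of small vectors along a linear map, small uniformly. -/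
theorem exists_small_lift [IsNoetherianRing R] [IsHausdorff I R] {n m : ℕ}
    (A : (Fin m → R) →ₗ[R] (Fin n → R)) :
    ∃ k, ∀ v ∈ LinearMap.range A, ∃ w, A w = v ∧
      ∀ N, v ∈ (I ^ (N + k) • ⊤ : Submodule R (Fin n → R)) → w ∈ (I ^ N • ⊤ : Submodule R (Fin m → R)) := by
  classical
  obtain ⟨k, hk⟩ := Ideal.exists_pow_inf_eq_pow_smul I (LinearMap.range A)
  refine ⟨k, fun v hv => ?_⟩
  have hAR : ∀ N, v ∈ (I ^ (N + k) • ⊤ : Submodule R (Fin n → R)) →
      ∃ w ∈ (I ^ N • ⊤ : Submodule R (Fin m → R)), A w = v := by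
    intro N hN
    have h1 : v ∈ (I ^ (N + k) • ⊤ ⊓ LinearMap.range A : Submodule R (Fin n → R)) := ⟨hN, hv⟩
    rw [hk (N + k) (Nat.le_add_left k N), Nat.add_sub_cancel] at h1
    have h2 : v ∈ (I ^ N • ⊤ : Submodule R (Fin m → R)).map A := by
      rw [Submodule.map_smul'', Submodule.map_top]
      exact Submodule.smul_mono le_rfl inf_le_right h1
    exact h2
  by_cases h0 : v = 0
  · exact ⟨0, by simp [h0], fun N _ => zero_mem _⟩
  obtain ⟨i, hi⟩ := Function.ne_iff.1 h0
  obtain ⟨K, hK⟩ : ∃ K, v i ∉ I ^ K := by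
    by_contra hall
    simp only [not_exists, not_not] at hall
    refine hi (IsHausdorff.haus (I := I) ‹_› (v i) fun K => ?_)
    rw [SModEq.zero, mem_smul_top_self]
    exact hall K
  let P : ℕ → Prop := fun N => ∃ w ∈ (I ^ N • ⊤ : Submodule R (Fin m → R)), A w = v
  have hP0 : P 0 := by
    obtain ⟨w, hw⟩ := hv
    exact ⟨w, (mem_smul_top_pi _ _).2 fun i => by simp, hw⟩
  obtain ⟨w, hw, hAw⟩ : P (Nat.findGreatest P K) := Nat.findGreatest_spec (Nat.zero_le K) hP0
  refine ⟨w, hAw, fun N hN => ?_⟩
  have hNK : N ≤ K := by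
    by_contra hlt
    refine hK (Ideal.pow_le_pow_right (by omega : K ≤ N + k) ((mem_smul_top_pi (I ^ (N + k)) v).1 hN i))
  exact Submodule.smul_mono_left (Ideal.pow_le_pow_right (Nat.le_findGreatest hNK (hAR N hN))) hw

theorem universallyInjective_coords [IsNoetherianRing R] [IsAdicComplete I R] :
    CAlgX.UniversallyInjective R (coords I α) := by
  classical
  refine (Groth.Agent.Lib.Pure.UI.iff_equational _).2 ⟨injective_coords I α, fun n m x y c hxy => ?_⟩
  let e := AdicCompletion.ofLinearEquiv I R
  have he : ∀ r, e r = AdicCompletion.of I R r := fun r => rfl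
  let rx : Fin n → α → R := fun i a => e.symm (coords I α (x i) a)
  have hrx : ∀ i a, coords I α (x i) a = AdicCompletion.of I R (rx i a) := fun i a => by
    rw [← he, LinearEquiv.apply_symm_apply]
  let A : (Fin m → R) →ₗ[R] (Fin n → R) :=
    LinearMap.pi fun i => ∑ j, c i j • (LinearMap.proj j : (Fin m → R) →ₗ[R] R)
  have hA : ∀ w i, A w i = ∑ j, c i j * w j := fun w i => by simp [A]
  have hmem : ∀ a, (fun i => rx i a) ∈ LinearMap.range A := fun a =>
    ⟨fun j => e.symm (y j a), funext fun i => by
      rw [hA]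
      change _ = e.symm (coords I α (x i) a)
      rw [hxy i]
      simp [Finset.sum_apply, map_sum]⟩
  obtain ⟨k, hk⟩ := exists_small_lift I A
  choose w hw hsmall using fun a => hk _ (hmem a)
  have hfin : ∀ j N, {a | w a j ∉ I ^ N}.Finite := fun j N => by
    refine (Set.finite_iUnion fun i : Fin n =>
      finite_of_coords I α (x i) (rx i) (hrx i) (N + k)).subset fun a ha => ?_
    by_contra hall
    simp only [Set.mem_iUnion, Set.mem_ofPred_eq, not_exists, not_not] at hall
    exact ha ((mem_smul_top_pi _ _).1 (hsmall a N ((mem_smul_top_pi _ _).2 hall)) j)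
  choose z hz using fun j => exists_coords I α (fun a => w a j) (hfin j)
  refine ⟨z, fun i => injective_coords I α (funext fun a => ?_)⟩
  rw [map_sum, Finset.sum_apply, hrx i a, ← congrFun (hw a) i, hA, map_sum]
  refine Finset.sum_congr rfl fun j _ => ?_
  rw [map_smul, Pi.smul_apply, hz j a, ← map_smul, smul_eq_mul]

end Groth.Agent.H18.CompletionFinsupp
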