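import Groth.Agent.H18.RefK0
import Groth.Agent.H15.CokerDet
import Groth.Agent.Lib.RefHull.ExtHull
import Groth.Agent.Lib.CohDelta.IdealMul.DevExt
import Groth.Prelude.Def_TorSh

/-!
# The class of a torsion free module and its determinant modulo codimension two
-/

set_option linter.style.haveILetI false
set_option autoImplicit false

universe u

open CategoryTheory CategoryTheory.Limits AlgebraicGeometry TopologicalSpace Opposite
open Groth.Agent.Lib Groth.Agent.Lib.RefHull Groth.Agent.Lib.RefHull.Generic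
open Groth.Agent.Lib.RefHull.RankOne Groth.Agent.Lib.RefHull.Ord Groth.Agent.Lib.RefHull.Divisor
open Groth.Agent.Lib.Modules.StalkModule Groth.Agent.Lib.Cyc.K0.Cycles
open Groth.Agent.Lib.CohDelta.IdealMul.DevExt

namespace Groth.Agent.H18.DetK0

attribute [local instance] HasFiniteBiproducts.of_hasFiniteProducts

variable {X : Scheme.{u}}

/-- The splitting of a biproduct indexed by `Fin (n + 1)`. -/
theorem cl_biproduct [IsLocallyNoetherian X] {δ : X → ℤ} {a b : ℤ} {M : X.Modules}
    (hM : _root_.Cyc.CohLe δ a M) (n : ℕ) :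
    _root_.Cyc.toK0CohQuot δ a b (⨁ fun _ : Fin n => M) =
      (n : ℤ) • _root_.Cyc.toK0CohQuot δ a b M := by
  have hle : ∀ m, _root_.Cyc.CohLe δ a (⨁ fun _ : Fin m => M) := fun m =>
    ⟨isCoh_biproduct _ fun _ => hM.1, fun x hx => hM.2 x (not_subsingleton_iff_nontrivial.1
      (support_biproduct_subset (fun _ : Fin m => M) (fun _ => le_rfl)
        (not_subsingleton_iff_nontrivial.2 hx)))⟩
  induction n with
  | zero =>
    rw [mk_eq_zero δ a b ⟨(hle 0).1, fun x hx => absurd hx (not_nontrivial_iff_subsingleton.2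
      ⟨fun v w => (exists_stalk_biproduct (fun _ : Fin 0 => M) x).1 (funext fun i => i.elim0)⟩)⟩]
    simp
  | succ n ih =>
    let A : Fin (n + 1) → X.Modules := fun _ => M
    let B : Fin n → X.Modules := fun _ => M
    let g : (⨁ A) ⟶ (⨁ B) := biproduct.lift (f := B) fun i => biproduct.π A i.succ
    let σ : (⨁ B) ⟶ (⨁ A) :=
      biproduct.lift (f := A) (Fin.cases (motive := fun j => (⨁ B) ⟶ A j) 0 fun i => biproduct.π B i)
    have hw : biproduct.ι A 0 ≫ g = 0 := biproduct.hom_ext _ _ fun i => by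
      simp only [g, Category.assoc, biproduct.lift_π, zero_comp]
      exact biproduct.ι_π_ne A (Fin.succ_ne_zero i).symm
    have hσg : σ ≫ g = 𝟙 _ := biproduct.hom_ext _ _ fun i => by
      simp [σ, g]
    let sp : ShortComplex.Splitting (ShortComplex.mk (biproduct.ι A 0) g hw) :=
      { r := biproduct.π A 0
        s := σ
        f_r := biproduct.ι_π_self A 0
        s_g := hσg
        id := biproduct.hom_ext _ _ fun j => by
          induction j using Fin.cases with
          | zero => simp [σ, g]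
          | succ i => simp [σ, g, biproduct.ι_π_ne A (Fin.succ_ne_zero i).symm] }
    rw [mk_rel δ a b sp.shortExact hM (hle (n + 1)) (hle n), ih]
    push_cast
    rw [add_zsmul, one_zsmul, add_comm]

variable [IsIntegral X] [IsLocallyNoetherian X] {δ : X → ℤ} {k : ℤ}

/-- The negative part of an order. -/
noncomputable def neg (a : X.functionField) (y : X) : ℤ := max 0 (- Scheme.ord a y)

set_option maxHeartbeats 3200000 in
/-- The class modulo codimension two in terms of a rank one module with the determinant divisor. -/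
theorem main_gen (hδ : _root_.Cyc.IsDimFun X δ) (hk : δ (genericPoint ↥X) = k) (hX : Pi1.IsNormalScheme X)
    {r : ℕ} {F H : X.Modules} (hF : Coh.IsCoh F) (hinjF : ∀ x, Function.Injective (toGen F x))
    (B : Module.Basis (Fin r) X.functionField (F.presheaf.stalk (genericPoint ↥X)))
    (c : (y : X) → Fin r → F.presheaf.stalk y)
    (hc : ∀ y, Order.coheight y = 1 → LinearIndependent X.functionField (fun i => toGen F y (c y i)))
    (hcg : ∀ y, Order.coheight y = 1 → ∀ v, ∃ a : Fin r → X.presheaf.stalk y, toGen F y v =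
      ∑ j, algebraMap (X.presheaf.stalk y) X.functionField (a j) • toGen F y (c y j))
    (hR : RefHull.IsRef1 H) {v : H.presheaf.stalk (genericPoint ↥X)} (hv : v ≠ 0)
    (hord : ∀ y, Order.coheight y = 1 →
      secOrd H v y = - Scheme.ord (ExtDet.dt B fun i => toGen F y (c y i)) y) :
    _root_.Cyc.toK0CohQuot δ k (k - 2) F - (r : ℤ) • _root_.Cyc.toK0CohQuot δ k (k - 2) (Coh.structureModule X) +
      (_root_.Cyc.toK0CohQuot δ k (k - 2) (Coh.structureModule X) -
        _root_.Cyc.toK0CohQuot δ k (k - 2) H) = 0 := by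
  classical
  haveI := hF.1
  -- the pole bound of the coordinates
  let E : X → ℤ := fun y =>
    if Order.coheight y = 1 then ∑ j, ∑ i, neg (B.repr (toGen F y (c y j)) i) y else 0
  have hE0 : ∀ y, 0 ≤ E y := fun y => by
    simp only [E]
    split_ifs
    · exact Finset.sum_nonneg fun j _ => Finset.sum_nonneg fun i _ => le_max_left _ _
    · exact le_rfl
  have hle : ∀ y, Order.coheight y = 1 → ∀ j i,
      0 ≤ Scheme.ord (B.repr (toGen F y (c y j)) i) y + E y := fun y hy j i => by
    have h1 : neg (B.repr (toGen F y (c y j)) i) y ≤ E y := by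
      simp only [E, if_pos hy]
      refine le_trans ?_ (Finset.single_le_sum (f := fun j => ∑ i, neg (B.repr (toGen F y (c y j)) i) y)
        (fun j _ => Finset.sum_nonneg fun i _ => le_max_left _ _) (Finset.mem_univ j))
      exact Finset.single_le_sum (f := fun i => neg (B.repr (toGen F y (c y j)) i) y)
        (fun i _ => le_max_left _ _) (Finset.mem_univ i)
    have h2 : - Scheme.ord (B.repr (toGen F y (c y j)) i) y ≤ neg (B.repr (toGen F y (c y j)) i) y :=
      le_max_right _ _
    omega
  have hE : DivSheaf.IsDiv E := by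
    intro U hU
    rcases eq_or_ne (U : Set ↥X) ∅ with hUe | hUe
    · exact Set.finite_empty.subset fun y hy => by
        have hyU : y ∈ (U : Set ↥X) := hy.1
        rw [hUe] at hyU
        exact hyU
    have hη : genericPoint ↥X ∈ U :=
      ((genericPoint_spec ↥X).mem_open_set_iff U.isOpen).mpr
        (by simpa using Set.nonempty_iff_ne_empty.mpr hUe)
    haveI := CohBasics.Closure.finite_sections hF hU
    obtain ⟨g, hg⟩ := (Module.finite_def (R := Γ(X, U)) (M := Γ(F, U))).mp inferInstance
    let K : Γ(F, U) → Fin r → X.functionField := fun m i =>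
      B.repr (F.presheaf.germ U _ hη m) i
    let S : Set ↥X := ⋃ m ∈ (g : Set Γ(F, U)), ⋃ i : Fin r,
      {y | y ∈ U ∧ Order.coheight y = 1 ∧ Scheme.ord (K m i) y ≠ 0}
    have hS : S.Finite := g.finite_toSet.biUnion fun m _ => Set.finite_iUnion fun i => by
      by_cases h0 : K m i = 0
      · exact Set.finite_empty.subset fun y hy => absurd (by rw [h0, Scheme.ord_zero]; rfl) hy.2.2
      · exact DivSheaf.finite_ord_ne_zero (hX := hX) h0 hU
    refine hS.subset fun y ⟨hyU, hy, hne⟩ => ?_
    by_contra hyS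
    apply hne
    let P : F.presheaf.stalk y → Prop := fun w =>
      ∀ i, ∃ q, algebraMap (X.presheaf.stalk y) X.functionField q = B.repr (toGen F y w) i
    have hP0 : P 0 := fun i => ⟨0, by simp⟩
    have hPadd : ∀ w w', P w → P w' → P (w + w') := fun w w' h h' i => by
      obtain ⟨q, hq⟩ := h i
      obtain ⟨q', hq'⟩ := h' i
      exact ⟨q + q', by rw [map_add, hq, hq', map_add, map_add, Finsupp.add_apply]⟩
    have hPsmul : ∀ (a : X.presheaf.stalk y) w, P w → P (a • w) := fun a w h i => by
      obtain ⟨q, hq⟩ := h i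
      exact ⟨a * q, by rw [map_mul, hq, toGen_smul, map_smul]; rfl⟩
    have hPgen : ∀ m : Γ(F, U), P (F.presheaf.germ U y hyU m) := by
      intro m
      have hm : m ∈ Submodule.span Γ(X, U) (g : Set Γ(F, U)) := by rw [hg]; trivial
      induction hm using Submodule.span_induction with
      | mem m hm =>
        intro i
        rw [toGen_germ]
        change ∃ q, _ = K m i
        by_cases h0 : K m i = 0
        · exact ⟨0, by rw [h0, map_zero]⟩
        · refine (mem_range_iff hX hy h0).mpr ?_
          by_contra hneg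
          exact hyS (Set.mem_biUnion hm (Set.mem_iUnion.mpr ⟨i, hyU, hy, fun e => hneg e.ge⟩))
      | zero => rw [map_zero]; exact hP0
      | add a b _ _ ha hb => rw [map_add]; exact hPadd _ _ ha hb
      | smul a b _ hb => rw [Mero.germ_smul]; exact hPsmul _ _ hb
    have hPall : ∀ w, P w := fun w => by
      obtain ⟨f, t, hf, e⟩ := StalkLoc.Basic.exists_smul_eq_germ hU hyU w
      obtain ⟨u, hu⟩ := (X.mem_basicOpen f y hyU).mp hf
      have : w = (↑u⁻¹ : X.presheaf.stalk y) • F.presheaf.germ U y hyU t := by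
        rw [← e, ← hu, smul_smul, Units.inv_mul, one_smul]
      rw [this]
      exact hPsmul _ _ (hPgen t)
    simp only [E, if_pos hy]
    refine Finset.sum_eq_zero fun j _ => Finset.sum_eq_zero fun i _ => max_eq_left ?_
    by_cases h0 : B.repr (toGen F y (c y j)) i = 0
    · rw [h0, Scheme.ord_zero]; simp
    · have := (mem_range_iff hX hy h0).mp (hPall (c y j) i)
      omega
  -- the target
  set M := DivSheaf.divSh hX E
  have hM : RefHull.IsRef1 M := DivRef.isRef1 hX hE
  obtain ⟨m, hm, hm'⟩ := DivRef.exists_section hX hE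
  have hinjM : ∀ x, Function.Injective (toGen M x) := toGen_injective_of_isReflexive hM.1 hM.2.1
  have hloc : ∀ y, Order.coheight y = 1 → ∃ (a : M.presheaf.stalk y) (φ : X.functionField)
      (A : Matrix (Fin r) (Fin r) (X.presheaf.stalk y)),
      Submodule.span (X.presheaf.stalk y) {a} = ⊤ ∧ toGen M y a ≠ 0 ∧ φ • toGen M y a = m ∧
        φ ≠ 0 ∧ Scheme.ord φ y = E y ∧
        (∀ i j, algebraMap (X.presheaf.stalk y) X.functionField (A i j) =
          B.repr (toGen F y (c y j)) i * φ) ∧ A.det ≠ 0 ∧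
        Scheme.ord (algebraMap (X.presheaf.stalk y) X.functionField A.det) y =
          Scheme.ord (ExtDet.dt B fun j => toGen F y (c y j)) y + r * E y := by
    intro y hy
    obtain ⟨a, ha, ha0⟩ := exists_generator hX hy hM
    obtain ⟨φ, hφ⟩ := span_of_ne_zero hM.2.2 ha0 m
    have hφ0 : φ ≠ 0 := fun h => hm (by rw [← hφ, h, zero_smul])
    have hφE : Scheme.ord φ y = E y := by rw [← hm' y hy, secOrd_eq hX hy hM.2.2 ha hm hφ]
    have : ∀ i j, ∃ q, algebraMap (X.presheaf.stalk y) X.functionField q =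
        B.repr (toGen F y (c y j)) i * φ := fun i j => by
      by_cases h0 : B.repr (toGen F y (c y j)) i = 0
      · exact ⟨0, by rw [h0, zero_mul, map_zero]⟩
      · refine (mem_range_iff hX hy (mul_ne_zero h0 hφ0)).mpr ?_
        rw [Scheme.ord_mul h0 hφ0, hφE]
        exact hle y hy j i
    choose A hA using this
    let A' : Matrix (Fin r) (Fin r) (X.presheaf.stalk y) := Matrix.of A
    have hdet : algebraMap (X.presheaf.stalk y) X.functionField A'.det =
        φ ^ r * ExtDet.dt B (fun j => toGen F y (c y j)) := by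
      have : (algebraMap (X.presheaf.stalk y) X.functionField).mapMatrix A' =
          φ • (Matrix.of fun j i => B.repr (toGen F y (c y j)) i).transpose := by
        ext i j
        show algebraMap _ _ (A i j) = φ * B.repr (toGen F y (c y j)) i
        rw [hA, mul_comm]
      rw [RingHom.map_det, this, Matrix.det_smul, Fintype.card_fin, Matrix.det_transpose]
      rfl
    have hd0 := ExtDet.dt_ne_zero B (hc y hy)
    have hA0 : A'.det ≠ 0 := fun h => mul_ne_zero (pow_ne_zero r hφ0) hd0 (by
      rw [← hdet, h, map_zero])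
    have hpow : ∀ n : ℕ, Scheme.ord (φ ^ n) y = n * E y := by
      intro n
      induction n with
      | zero => simp [Ord.ord_one]
      | succ n ih =>
        rw [pow_succ, Scheme.ord_mul (pow_ne_zero n hφ0) hφ0, ih, hφE]
        push_cast; ring
    refine ⟨a, φ, A', ha, ha0, hφ, hφ0, hφE, hA, hA0, ?_⟩
    rw [hdet, Scheme.ord_mul (pow_ne_zero r hφ0) hd0, hpow r, add_comm]
  -- the coordinates
  let T : Fin r → (F.presheaf.stalk (genericPoint ↥X) →ₗ[X.functionField]
      M.presheaf.stalk (genericPoint ↥X)) := fun i => (B.coord i).smulRight m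
  have hT : ∀ i (x : X) (w : F.presheaf.stalk x), ∃ t, toGen M x t = T i (toGen F x w) := by
    intro i x w
    refine mem_range_toGen hX hM.1 ((Reflexive.isReflexive_iff_forall hM.1).mp hM.2.1 x) _
      fun y hyx hy => ?_
    have hy1 := dim_eq_one_iff.mp hy
    obtain ⟨a, φ, A, ha, ha0, hφ, hφ0, hφE, hA, hA0, hordA⟩ := hloc y hy1
    obtain ⟨U, hxU, s, rfl⟩ := TopCat.Presheaf.exists_germ_eq F.presheaf w
    have hyU := hyx.mem_open U.isOpen hxU
    obtain ⟨q, hq⟩ := hcg y hy1 (F.presheaf.germ U y hyU s)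
    rw [toGen_germ hyU] at hq
    refine ⟨(∑ j, q j * A i j) • a, ?_⟩
    rw [toGen_smul, toGen_germ hxU, hq, map_sum]
    simp only [map_mul, hA, map_sum, map_smul, T, LinearMap.smulRight_apply, Module.Basis.coord_apply]
    rw [Finset.sum_smul]
    refine Finset.sum_congr rfl fun j _ => ?_
    rw [← hφ, smul_smul, smul_smul]
    congr 1
    ring
  choose f hf using fun i => exists_hom hinjM (T i) (hT i)
  let fam : Fin r → X.Modules := fun _ => M
  let Φ : F ⟶ ⨁ fam := biproduct.lift (f := fam) f
  have hπΦ : ∀ i y (w : F.presheaf.stalk y),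
      stalkMapₗ (biproduct.π fam i) y (stalkMapₗ Φ y w) = stalkMapₗ (f i) y w := fun i y w => by
    rw [← LinearMap.comp_apply, ← stalkMapₗ_comp, biproduct.lift_π]
  have hgenT : ∀ i y (w : F.presheaf.stalk y),
      toGen M y (stalkMapₗ (f i) y w) = B.repr (toGen F y w) i • m := fun i y w =>
    (toGen_stalkMap (f i) y w).trans (LinearMap.congr_fun (hf i) (toGen F y w))
  haveI : Mono Φ := (mono_iff_stalkMapₗ_injective Φ).2 fun y w w' e => by
    refine hinjF y (B.repr.injective (Finsupp.ext fun i => ?_))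
    have h := congrArg (fun z => toGen M y (stalkMapₗ (biproduct.π fam i) y z)) e
    simp only [hπΦ, hgenT] at h
    exact smul_left_injective' hM.2.2 hm h
  set C := cokernel Φ
  have hFk : _root_.Cyc.CohLe δ k F := ⟨hF, fun x _ => RefK0.le_dim hδ hk x⟩
  have hMk : _root_.Cyc.CohLe δ k M := ⟨hM.1, fun x _ => RefK0.le_dim hδ hk x⟩
  have hSk : _root_.Cyc.CohLe δ k (⨁ fam) :=
    ⟨isCoh_biproduct fam fun _ => hM.1, fun x _ => RefK0.le_dim hδ hk x⟩
  have hC : Coh.IsCoh C := CohBasics.Closure.isCoh_cokernel Φ hF.1 hSk.1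
  have hCk : _root_.Cyc.CohLe δ k C := ⟨hC, fun x _ => RefK0.le_dim hδ hk x⟩
  have hπ : ∀ y, Function.Surjective (stalkMapₗ (cokernel.π Φ) y) :=
    fun y => (epi_iff_stalkMapₗ_surjective (cokernel.π Φ)).1 inferInstance y
  have hex : ∀ y (z : (⨁ fam).presheaf.stalk y), stalkMapₗ (cokernel.π Φ) y z = 0 ↔
      ∃ w, stalkMapₗ Φ y w = z := fun y z =>
    ⟨fun hz => (Modif.exact_stalk Φ (cokernel.π Φ) (cokernel.condition Φ)
      (Cyc.Dev.Basic.shortExact_of_mono Φ).exact inferInstance y).1 z hz,
     fun ⟨w, hw⟩ => by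
      rw [← hw, ← LinearMap.comp_apply, ← stalkMapₗ_comp, cokernel.condition, stalkMapₗ_zero]
      rfl⟩
  have hCle : _root_.Cyc.CohLe δ (k - 1) C := by
    refine ⟨hC, fun y hy => ?_⟩
    by_contra hcon
    have hyk : δ y = k := by have := RefK0.le_dim hδ hk y; omega
    obtain rfl : genericPoint ↥X = y :=
      Cyc.DimFun.eq_of_specializes_of_le hδ (spec y) (by rw [hk, hyk])
    obtain ⟨z, hz⟩ := exists_ne (0 : C.presheaf.stalk (genericPoint ↥X))
    obtain ⟨z, rfl⟩ := hπ _ z
    choose a ha using fun i => span_of_ne_zero hM.2.2 hm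
      (stalkMapₗ (biproduct.π fam i) (genericPoint ↥X) z)
    refine hz ((hex _ _).2 ⟨∑ j, a j • B j, (exists_stalk_biproduct fam _).1 (funext fun i => ?_)⟩)
    show stalkMapₗ (biproduct.π fam i) _ (stalkMapₗ Φ _ _) = stalkMapₗ (biproduct.π fam i) _ z
    rw [hπΦ]
    refine Eq.trans (LinearMap.congr_fun (hf i) _) ?_
    show B.repr (∑ j, a j • B j) i • m = _
    rw [B.repr_sum_self, ha]
  -- lengths in codimension one
  have hfun : ∀ y, δ y = k - 1 → Scheme.ord (ExtDet.dt B fun j => toGen F y (c y j)) y + r * E y =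
      ((Module.length (X.presheaf.stalk y) (C.presheaf.stalk y)).toNat : ℤ) := by
    intro y hyk
    have hy := RefK0.coheight_of_delta hδ hk hyk
    obtain ⟨a, φ, A, ha, ha0, hφ, hφ0, hφE, hA, hA0, hordA⟩ := hloc y hy
    have hfree : ∀ q q' : X.presheaf.stalk y, q • a = q' • a → q = q' := fun q q' e => by
      refine IsFractionRing.injective (X.presheaf.stalk y) X.functionField
        (smul_left_injective' hM.2.2 ha0 ?_)
      rw [← toGen_smul, ← toGen_smul, e]
    let L : (Fin r → X.presheaf.stalk y) →ₗ[X.presheaf.stalk y] (⨁ fam).presheaf.stalk y :=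
      ∑ i, (stalkMapₗ (biproduct.ι fam i) y).comp
        ((LinearMap.toSpanSingleton (X.presheaf.stalk y) (M.presheaf.stalk y) a).comp (LinearMap.proj i))
    have hL : ∀ q i, stalkMapₗ (biproduct.π fam i) y (L q) = q i • a := fun q i => by
      simp only [L, LinearMap.sum_apply, LinearMap.comp_apply, map_sum]
      rw [Finset.sum_eq_single i]
      · rw [← LinearMap.comp_apply, ← stalkMapₗ_comp, biproduct.ι_π_self, stalkMapₗ_id]; rfl
      · intro l _ hl
        rw [← LinearMap.comp_apply, ← stalkMapₗ_comp, biproduct.ι_π_ne fam hl, stalkMapₗ_zero]; rfl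
      · simp
    have hLs : Function.Surjective L := fun z => by
      choose q hq using fun i => Submodule.mem_span_singleton.1
        (show stalkMapₗ (biproduct.π fam i) y z ∈ Submodule.span (X.presheaf.stalk y) {a} by
          rw [ha]; trivial)
      exact ⟨q, (exists_stalk_biproduct fam y).1 (funext fun i => (hL q i).trans (hq i))⟩
    have hLi : Function.Injective L := fun q q' e => funext fun i =>
      hfree _ _ (by rw [← hL, ← hL, e])
    have hcol : ∀ (w : F.presheaf.stalk y) (q : Fin r → X.presheaf.stalk y), toGen F y w =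
        ∑ j, algebraMap (X.presheaf.stalk y) X.functionField (q j) • toGen F y (c y j) →
        stalkMapₗ Φ y w = L (A.mulVec q) := by
      intro w q hq
      refine (exists_stalk_biproduct fam y).1 (funext fun i => ?_)
      show stalkMapₗ (biproduct.π fam i) y (stalkMapₗ Φ y w) =
        stalkMapₗ (biproduct.π fam i) y (L (A.mulVec q))
      rw [hπΦ, hL]
      refine hinjM y ?_
      rw [hgenT, toGen_smul, hq, map_sum, Matrix.mulVec, dotProduct, map_sum, Finsupp.coe_finsetSum,
        Finset.sum_apply, Finset.sum_smul, Finset.sum_smul]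
      refine Finset.sum_congr rfl fun j _ => ?_
      rw [map_smul, Finsupp.smul_apply, map_mul, hA, ← hφ, smul_smul, smul_eq_mul]
      congr 1
      ring
    let p := (stalkMapₗ (cokernel.π Φ) y).comp L
    have hker : LinearMap.ker p = LinearMap.range A.mulVecLin := by
      ext q
      rw [LinearMap.mem_ker]
      refine (hex y (L q)).trans ⟨fun ⟨w, hw⟩ => ?_, fun ⟨q', hq'⟩ => ?_⟩
      · obtain ⟨q', hq'⟩ := hcg y hy w
        exact ⟨q', hLi ((hcol w q' hq').symm.trans hw)⟩
      · refine ⟨∑ j, q' j • c y j, ?_⟩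
        rw [hcol _ q' (by rw [map_sum]; simp only [toGen_smul]), ← hq']
        rfl
    have hlen : Module.length (X.presheaf.stalk y) (C.presheaf.stalk y) =
        Ring.ord (X.presheaf.stalk y) A.det := by
      rw [← H15.CokerDet.length_coker A (mem_nonZeroDivisors_of_ne_zero hA0)]
      exact ((LinearMap.quotKerEquivOfSurjective p ((hπ y).comp hLs)).symm.trans
        (Submodule.quotEquivOfEq _ _ hker)).length_eq
    rw [hlen, ← ord_algebraMap' hy hA0, hordA]
  -- the comparison with divisor sheaves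
  have hnE : ∀ n : ℕ, DivSheaf.IsDiv (fun y => (n : ℤ) * E y) := fun n U hU =>
    (hE U hU).subset fun y ⟨h1, h2, h3⟩ => ⟨h1, h2, right_ne_zero_of_mul h3⟩
  obtain ⟨o, ho, ho'⟩ := Group.one_section hX
  have hO := Group.isRef1_structure (X := X)
  have hpow : ∀ n : ℕ,
      _root_.Cyc.toK0CohQuot δ k (k - 2) (DivSheaf.divSh hX fun y => (n : ℤ) * E y) -
          _root_.Cyc.toK0CohQuot δ k (k - 2) (Coh.structureModule X) =
        (n : ℤ) • (_root_.Cyc.toK0CohQuot δ k (k - 2) M -
          _root_.Cyc.toK0CohQuot δ k (k - 2) (Coh.structureModule X)) := by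
    intro n
    induction n with
    | zero =>
      obtain ⟨g, hg, hg'⟩ := DivRef.exists_section hX (hnE 0)
      rw [RefK0.cl_sub_eq hδ hk hX hO (DivRef.isRef1 hX (hnE 0)) hO hO ho hg ho ho
        (fun y hy => by rw [ho' y hy, hg' y hy]; simp)
        (fun y hy => by rw [ho' y hy, hg' y hy]; simp), sub_self]
      simp
    | succ n ih =>
      obtain ⟨g, hg, hg'⟩ := DivRef.exists_section hX (hnE n)
      obtain ⟨g₁, hg₁, hg₁'⟩ := DivRef.exists_section hX (hnE (n + 1))
      have e := RefK0.cl_sub_eq hδ hk hX (DivRef.isRef1 hX (hnE n)) (DivRef.isRef1 hX (hnE (n + 1)))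
        hO hM hg hg₁ ho hm
        (fun y hy => by rw [hg' y hy, hg₁' y hy]; push_cast; linarith [hE0 y])
        (fun y hy => by rw [hg' y hy, hg₁' y hy, hm' y hy, ho' y hy]; push_cast; ring)
      push_cast at e ⊢
      rw [add_zsmul, one_zsmul, ← ih, ← e]
      abel
  obtain ⟨g, hg, hg'⟩ := DivRef.exists_section hX (hnE r)
  have hG := DivRef.isRef1 hX (hnE r)
  obtain ⟨ψ, hψ⟩ := exists_map hX hR hG hv hg fun y hy => by
    obtain ⟨a, φ, A, ha, ha0, hφ, hφ0, hφE, hA, hA0, hordA⟩ := hloc y hy
    rw [hg' y hy, hord y hy]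
    have h1 := (mem_range_iff hX hy (Generic.algebraMap_ne_zero hA0)).mp ⟨_, rfl⟩
    rw [hordA] at h1
    omega
  obtain ⟨C', hC', hfun', hcl'⟩ := RefK0.cl_sub hδ hk hX hR hG hv hg hψ
  have hff : _root_.Cyc.sheafFun δ (k - 1) C = _root_.Cyc.sheafFun δ (k - 1) C' := by
    rw [hfun']
    funext y
    simp only [_root_.Cyc.sheafFun]
    split_ifs with hy
    · have hy1 := RefK0.coheight_of_delta hδ hk hy
      rw [← hfun y hy, hg' y hy1, hord y hy1]
      ring
    · rfl
  have e : _root_.Cyc.toK0CohQuot δ (k - 1) (k - 1 - 1) C =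
      _root_.Cyc.toK0CohQuot δ (k - 1) (k - 1 - 1) C' := by
    rw [cl_eq_cycleSheaf (k - 1) hδ hCle, cl_eq_cycleSheaf (k - 1) hδ hC', hff]
  rw [show k - 1 - 1 = k - 2 by ring] at e
  have e' := congrArg (RefK0.incl δ (a' := k) (k - 2) (by omega)) e
  rw [RefK0.incl_cl δ _ _ hCle, RefK0.incl_cl δ _ _ hC'] at e'
  have hrel : _root_.Cyc.toK0CohQuot δ k (k - 2) (⨁ fam) =
      _root_.Cyc.toK0CohQuot δ k (k - 2) F + _root_.Cyc.toK0CohQuot δ k (k - 2) C :=
    mk_rel δ k (k - 2) (Cyc.Dev.Basic.shortExact_of_mono Φ) hFk hSk hCk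
  rw [cl_biproduct hMk r] at hrel
  have hGr := hpow r
  rw [hcl', ← e', zsmul_sub, hrel] at hGr
  generalize _root_.Cyc.toK0CohQuot δ k (k - 2) F = u₁ at hGr ⊢
  generalize _root_.Cyc.toK0CohQuot δ k (k - 2) C = u₂ at hGr
  generalize _root_.Cyc.toK0CohQuot δ k (k - 2) H = u₃ at hGr ⊢
  generalize (r : ℤ) • _root_.Cyc.toK0CohQuot δ k (k - 2) (Coh.structureModule X) = u₄ at hGr ⊢
  generalize _root_.Cyc.toK0CohQuot δ k (k - 2) (Coh.structureModule X) = u₅ at hGr ⊢
  have h0 := sub_eq_zero.mpr hGr
  rw [← neg_eq_zero, ← h0]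
  abel

theorem main (hδ : _root_.Cyc.IsDimFun X δ) (hk : δ (genericPoint ↥X) = k) (hX : Pi1.IsNormalScheme X)
    {r : ℕ} {F W : X.Modules} (hF : Coh.IsCoh F) (htf : TorSh.IsTorsionFree F)
    (hr : Module.finrank X.functionField (F.presheaf.stalk (genericPoint ↥X)) = r)
    (hW : ExtPow.IsExtPow r F W) :
    _root_.Cyc.toK0CohQuot δ k (k - 2) F - (r : ℤ) • _root_.Cyc.toK0CohQuot δ k (k - 2) (Coh.structureModule X) +
      (_root_.Cyc.toK0CohQuot δ k (k - 2) (Coh.structureModule X) -
        _root_.Cyc.toK0CohQuot δ k (k - 2) (RefHull.ddual W)) = 0 := by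
  classical
  haveI := hF.1
  haveI := Reflexive.finite_stalk hF (genericPoint ↥X)
  haveI : Module.Finite X.functionField (F.presheaf.stalk (genericPoint ↥X)) := this
  let B : Module.Basis (Fin r) X.functionField (F.presheaf.stalk (genericPoint ↥X)) :=
    Module.finBasisOfFinrankEq _ _ hr
  have hinjF : ∀ x, Function.Injective (toGen F x) := fun x =>
    toGen_injective x fun a v ha e => by
      haveI := htf x
      exact (smul_eq_zero.mp e).resolve_left ha
  obtain ⟨hR, v, hv, hord⟩ := ExtHull.exists_hull hX hF hW B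
  choose! c hc hcg using fun y (hy : Order.coheight y = 1) => ExtHull.exists_gens hX hF hr hy
  exact main_gen hδ hk hX hF hinjF B c hc hcg hR hv fun y hy => hord y hy (c y) (hc y hy) (hcg y hy)

end Groth.Agent.H18.DetK0
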