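import Groth.Prelude.Def_Found
import Mathlib.Algebra.DirectSum.Module
import Mathlib.LinearAlgebra.DFinsupp
import Mathlib.Order.SuccPred.Limit
import Mathlib.Data.Countable.Basic

/-!
# Direct sum dévissages
-/

universe u

namespace Groth.Agent.H18.Devissage

variable {R : Type u} [CommRing R] {M : Type u} [AddCommGroup M] [Module R M]
  {S : Type u} [LinearOrder S] [WellFoundedLT S] {Mf : S → Submodule R M}

/-- Complements at the successor steps form a direct decomposition. -/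
theorem isInternal (hmono : Monotone Mf)
    (hlim : ∀ s : S, Order.IsSuccPrelimit s → Mf s = ⨆ t : {t : S // t < s}, Mf t.1)
    (htop : (⨆ s, Mf s) = ⊤) (C : {p : S × S // p.1 ⋖ p.2} → Submodule R M)
    (hinf : ∀ p, Mf p.1.1 ⊓ C p = ⊥) (hsup : ∀ p, Mf p.1.1 ⊔ C p = Mf p.1.2)
    [DecidableEq {p : S × S // p.1 ⋖ p.2}] :
    DirectSum.IsInternal C := by
  have hle : ∀ p, C p ≤ Mf p.1.2 := fun p => le_sup_right.trans (hsup p).le
  refine DirectSum.isInternal_submodule_of_iSupIndep_of_iSup_eq_top ?_ ?_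
  · rw [iSupIndep_iff_finsetSum_eq_zero_imp_eq_zero]
    intro s v hv hsum i hi
    by_contra hne
    classical
    obtain ⟨q, hq, hmax⟩ := (s.filter fun j => v j ≠ 0).exists_max_image (fun j => j.1.2)
      ⟨i, Finset.mem_filter.2 ⟨hi, hne⟩⟩
    obtain ⟨hqs, hqne⟩ := Finset.mem_filter.1 hq
    have hrest : ∑ j ∈ s.erase q, v j ∈ Mf q.1.1 := by
      refine Submodule.sum_mem _ fun j hj => ?_
      by_cases hj0 : v j = 0
      · rw [hj0]; exact zero_mem _
      obtain ⟨hjq, hjs⟩ := Finset.mem_erase.1 hj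
      have hle' : j.1.2 ≤ q.1.2 := hmax j (Finset.mem_filter.2 ⟨hjs, hj0⟩)
      have hne' : j.1.2 ≠ q.1.2 := fun he => by
        refine hjq (Subtype.ext (Prod.ext ?_ he))
        have h1 : j.1.1 ⋖ q.1.2 := he ▸ j.2
        rcases lt_trichotomy j.1.1 q.1.1 with hlt | he' | hlt
        · exact absurd q.2.lt (h1.2 hlt)
        · exact he'
        · exact absurd h1.lt (q.2.2 hlt)
      have hlt : j.1.2 ≤ q.1.1 := le_of_not_gt fun h => q.2.2 h (lt_of_le_of_ne hle' hne')
      exact hmono hlt (hle j (hv j hjs))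
    rw [← Finset.add_sum_erase _ _ hqs, add_eq_zero_iff_eq_neg] at hsum
    have hmem : v q ∈ Mf q.1.1 ⊓ C q := ⟨hsum ▸ neg_mem hrest, hv q hqs⟩
    rw [hinf q] at hmem
    exact hqne ((Submodule.mem_bot R).1 hmem)
  · refine top_unique (htop ▸ iSup_le fun s => ?_)
    induction s using WellFoundedLT.induction with
    | _ s ih =>
      by_cases h : Order.IsSuccPrelimit s
      · rw [hlim s h]
        exact iSup_le fun t => ih t.1 t.2
      · obtain ⟨t, ht⟩ := Order.not_isSuccPrelimit_iff.1 h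
        rw [← hsup ⟨(t, s), ht⟩]
        exact sup_le (ih t ht.lt) (le_iSup C ⟨(t, s), ht⟩)

/-- A complement is the quotient. -/
theorem exists_equiv (A B C : Submodule R M) (hinf : A ⊓ C = ⊥) (hsup : A ⊔ C = B) :
    Nonempty (C ≃ₗ[R] ↥B ⧸ Submodule.comap B.subtype A) := by
  have hle : C ≤ B := le_sup_right.trans hsup.le
  refine ⟨LinearEquiv.ofBijective ((Submodule.comap B.subtype A).mkQ ∘ₗ Submodule.inclusion hle)
    ⟨(injective_iff_map_eq_zero _).2 fun c hc => Subtype.ext ?_, fun x => ?_⟩⟩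
  · have hA : (c : M) ∈ A := (Submodule.Quotient.mk_eq_zero (Submodule.comap B.subtype A) (x := Submodule.inclusion hle c)).1 hc
    exact (Submodule.mem_bot R).1 (hinf ▸ (⟨hA, c.2⟩ : (c : M) ∈ A ⊓ C))
  · obtain ⟨⟨b, hb⟩, rfl⟩ := Submodule.mkQ_surjective _ x
    obtain ⟨a, ha, c, hc, rfl⟩ := Submodule.mem_sup.1 (hsup.ge hb)
    refine ⟨⟨c, hc⟩, ((Submodule.Quotient.eq _).2 ?_)⟩
    show c - (a + c) ∈ A
    simpa using ha

theorem countablyGenerated_of_equiv {N N' : Type u} [AddCommGroup N] [Module R N] [AddCommGroup N'] [Module R N']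
    (e : N ≃ₗ[R] N') (h : CAlg.IsCountablyGenerated R N) : CAlg.IsCountablyGenerated R N' := by
  obtain ⟨s, hs, hspan⟩ := h
  refine ⟨e '' s, hs.image e, ?_⟩
  rw [show e '' s = e.toLinearMap '' s from rfl, Submodule.span_image, hspan, Submodule.map_top,
    LinearMap.range_eq_top.2 e.surjective]

end Groth.Agent.H18.Devissage
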