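import Groth.Agent.Lib.TopDim.DimFun
import Mathlib.Topology.NoetherianSpace

/-!
# A catenary Noetherian sober space has dimension functions locally
-/

namespace Groth.Agent.H18.DimFunLocal

open Set TopologicalSpace Topology Groth.Agent.Lib.TopDim.Catenary Groth.Agent.Lib.TopDim.DimFun

variable {X : Type*} [TopologicalSpace X] [QuasiSober X] [T0Space X]

lemma pt_le {x : X} {Z : IrreducibleCloseds X} (h : x ∈ Z) : pt x ≤ Z :=
  (closure_minimal (singleton_subset_iff.mpr h) Z.isClosed : closure ({x} : Set X) ⊆ (Z : Set X))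

lemma pt_le_pt {x y : X} (h : x ⤳ y) : pt y ≤ pt x :=
  pt_le (Z := pt x) h.mem_closure

lemma covBy_pt {x y : X} (h : PtTop.IsImmediateSpecialization x y) : pt y ⋖ pt x := by
  obtain ⟨hxy, hne, himm⟩ := h
  refine ⟨lt_of_le_of_ne (pt_le_pt hxy) fun he => hne ?_, fun c h₁ h₂ => ?_⟩
  · rw [← gen_pt x, ← he, gen_pt]
  · have hxc : x ⤳ gen c := by rw [← gen_pt x]; exact le_iff.mp h₂.le
    have hcy : gen c ⤳ y := by rw [← gen_pt y]; exact le_iff.mp h₁.le
    rcases himm (gen c) hxc hcy with h | h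
    · exact h₂.ne (by rw [← pt_gen c, h])
    · exact h₁.ne' (by rw [← pt_gen c, h])

/-- Near any point of a catenary Noetherian sober space there is a dimension function. -/
theorem exists_dimensionFunction [NoetherianSpace X] (hX : PtTop.IsCatenarySpace X) (s : X) :
    ∃ O : Opens X, s ∈ O ∧ ∃ δ : O → ℤ, PtTop.IsDimensionFunction δ := by
  classical
  obtain ⟨hfin, hadd⟩ := isCatOn_iff_additive.mp (isCatenarySpace_iff.mp hX)
  have hF : (irreducibleComponents X).Finite := NoetherianSpace.finite_irreducibleComponents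
  choose F hFf hFc hFi hFu using fun Z : irreducibleComponents X × irreducibleComponents X =>
    NoetherianSpace.exists_finite_set_isClosed_irreducible
      ((isClosed_of_mem_irreducibleComponents _ Z.1.2).inter
        (isClosed_of_mem_irreducibleComponents _ Z.2.2))
  have : Finite (irreducibleComponents X) := hF.to_subtype
  let G : Set (Set X) := {W ∈ ⋃ Z, F Z | s ∉ W}
  have hG : G.Finite := (Set.finite_iUnion hFf).subset fun W hW => hW.1
  let bad : Set X := ⋃ W ∈ G, W
  have hbad : IsClosed bad := hG.isClosed_biUnion fun W hW => by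
    obtain ⟨Z, hZ⟩ := mem_iUnion.mp hW.1
    exact hFc Z W hZ
  let O : Opens X := ⟨badᶜ, hbad.isOpen_compl⟩
  have hsO : s ∈ O := fun hc => by
    obtain ⟨W, hW, hs⟩ := mem_iUnion₂.mp hc
    exact hW.2 hs
  -- two components through a point of `O` share an irreducible subset through it and `s`
  have key : ∀ x ∈ O, ∀ Z Z' : irreducibleComponents X, x ∈ (Z : Set X) → x ∈ (Z' : Set X) →
      ∃ W : IrreducibleCloseds X, x ∈ W ∧ s ∈ W ∧ (W : Set X) ⊆ Z ∧ (W : Set X) ⊆ Z' := by
    intro x hx Z Z' hxZ hxZ'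
    have hu := hFu (Z, Z')
    have hxu : x ∈ ⋃₀ F (Z, Z') := hu ▸ ⟨hxZ, hxZ'⟩
    obtain ⟨W, hW, hxW⟩ := hxu
    have hsW : s ∈ W := by
      by_contra hc
      exact hx (mem_iUnion₂.mpr ⟨W, ⟨mem_iUnion.mpr ⟨_, hW⟩, hc⟩, hxW⟩)
    have hsub : W ⊆ (Z : Set X) ∩ Z' := hu ▸ subset_sUnion_of_mem hW
    exact ⟨⟨W, hFi _ W hW, hFc _ W hW⟩, hxW, hsW, hsub.trans inter_subset_left,
      hsub.trans inter_subset_right⟩
  let comp : irreducibleComponents X → IrreducibleCloseds X := fun Z =>
    ⟨Z, Z.2.1, isClosed_of_mem_irreducibleComponents _ Z.2⟩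
  let ev : X → irreducibleComponents X → ℤ := fun x Z =>
    ((cd (pt s) (comp Z)).toNat : ℤ) - (cd (pt x) (comp Z)).toNat
  have hindep : ∀ x ∈ O, ∀ Z Z' : irreducibleComponents X, x ∈ (Z : Set X) → x ∈ (Z' : Set X) →
      ev x Z = ev x Z' := by
    intro x hx Z Z' hxZ hxZ'
    obtain ⟨W, hxW, hsW, hWZ, hWZ'⟩ := key x hx Z Z' hxZ hxZ'
    have e : ∀ Y : irreducibleComponents X, (W : Set X) ⊆ Y →
        ev x Y = ((cd (pt s) W).toNat : ℤ) - (cd (pt x) W).toNat := by
      intro Y hY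
      have hWY : W ≤ comp Y := hY
      have h1 : (cd (pt s) (comp Y)).toNat = (cd (pt s) W).toNat + (cd W (comp Y)).toNat := by
        rw [hadd _ _ _ (pt_le hsW) hWY, ENat.toNat_add (hfin _ _ (pt_le hsW)) (hfin _ _ hWY)]
      have h2 : (cd (pt x) (comp Y)).toNat = (cd (pt x) W).toNat + (cd W (comp Y)).toNat := by
        rw [hadd _ _ _ (pt_le hxW) hWY, ENat.toNat_add (hfin _ _ (pt_le hxW)) (hfin _ _ hWY)]
      simp only [ev]
      omega
    rw [e Z hWZ, e Z' hWZ']
  let Zc : X → irreducibleComponents X := fun x =>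
    ⟨irreducibleComponent x, irreducibleComponent_mem_irreducibleComponents x⟩
  let δ : O → ℤ := fun x => ev x (Zc x)
  have hδ : ∀ x y : O, (x : X) ⤳ y →
      δ x = δ y + (cd (pt (y : X)) (pt (x : X))).toNat := by
    intro x y h
    have hxZ : (x : X) ∈ (Zc x : Set X) := mem_irreducibleComponent
    have hyZ : (y : X) ∈ (Zc x : Set X) :=
      h.mem_closed (isClosed_of_mem_irreducibleComponents _ (Zc x).2) hxZ
    have hy : δ y = ev y (Zc x) := hindep y y.2 _ _ mem_irreducibleComponent hyZ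
    have h1 : (cd (pt (y : X)) (comp (Zc x))).toNat =
        (cd (pt (y : X)) (pt (x : X))).toNat + (cd (pt (x : X)) (comp (Zc x))).toNat := by
      rw [hadd _ _ _ (pt_le_pt h) (pt_le hxZ),
        ENat.toNat_add (hfin _ _ (pt_le_pt h)) (hfin _ _ (pt_le hxZ))]
    rw [hy]
    simp only [δ, ev]
    omega
  refine ⟨O, hsO, δ, fun x y h hne => ?_, fun x y h => ?_⟩
  · have h' : (x : X) ⤳ y := h.map continuous_subtype_val
    have hlt : pt (y : X) < pt (x : X) := lt_of_le_of_ne (pt_le_pt h') fun he =>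
      hne (Subtype.ext (by rw [← gen_pt (x : X), ← he, gen_pt]))
    have h1 : (1 : ℕ∞) ≤ cd (pt (y : X)) (pt (x : X)) :=
      length_le_cd (s := (RelSeries.singleton _ (pt (y : X))).snoc (pt (x : X)) (by simpa using hlt))
        (by simp) (by simp)
    have h2 := ENat.toNat_le_toNat h1 (hfin _ _ hlt.le)
    simp only [ENat.toNat_one] at h2
    rw [hδ x y h']
    omega
  · have h' : (x : X) ⤳ y := h.1.map continuous_subtype_val
    have himm : PtTop.IsImmediateSpecialization (x : X) y := by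
      refine ⟨h', fun he => h.2.1 (Subtype.ext he), fun z hz₁ hz₂ => ?_⟩
      have hzO : z ∈ O := hz₂.mem_open O.2 y.2
      rcases h.2.2 ⟨z, hzO⟩ (IsInducing.subtypeVal.specializes_iff.mp hz₁)
          (IsInducing.subtypeVal.specializes_iff.mp hz₂) with e | e
      · exact Or.inl (congrArg Subtype.val e)
      · exact Or.inr (congrArg Subtype.val e)
    rw [hδ x y h', cd_eq_one_of_covBy (covBy_pt himm)]
    simp

/-- Dimension functions can be moved along open embeddings. -/
theorem exists_of_isOpenEmbedding {Y : Type*} [TopologicalSpace Y] (g : X → Y)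
    (hg : IsOpenEmbedding g) (O : Opens X) (δ : O → ℤ) (hδ : PtTop.IsDimensionFunction δ) :
    ∃ U : Opens Y, (U : Set Y) = g '' O ∧ ∃ δ' : U → ℤ, PtTop.IsDimensionFunction δ' := by
  let U : Opens Y := ⟨g '' O, hg.isOpenMap _ O.2⟩
  have hex : ∀ u : U, ∃ o : O, g o = u := fun u => by
    obtain ⟨o, ho, h⟩ := u.2
    exact ⟨⟨o, ho⟩, h⟩
  choose k hk using hex
  have hspec : ∀ a b : U, k a ⤳ k b ↔ a ⤳ b := fun a b => by
    rw [← IsInducing.subtypeVal.specializes_iff, ← hg.isInducing.specializes_iff, hk, hk,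
      IsInducing.subtypeVal.specializes_iff]
  have hinj : Function.Injective k := fun a b h => Subtype.ext (by rw [← hk a, ← hk b, h])
  have hsurj : Function.Surjective k := fun o => by
    refine ⟨⟨g o, o.1, o.2, rfl⟩, Subtype.ext (hg.injective ?_)⟩
    rw [hk]
  refine ⟨U, rfl, δ ∘ k, fun x y h hne => hδ.1 _ _ ((hspec _ _).mpr h) (hinj.ne hne), fun x y h => ?_⟩
  refine hδ.2 _ _ ⟨(hspec _ _).mpr h.1, hinj.ne h.2.1, fun z hz₁ hz₂ => ?_⟩
  obtain ⟨z, rfl⟩ := hsurj z
  rcases h.2.2 z ((hspec _ _).mp hz₁) ((hspec _ _).mp hz₂) with e | e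
  · exact Or.inl (congrArg k e)
  · exact Or.inr (congrArg k e)

end Groth.Agent.H18.DimFunLocal
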