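import Groth.Agent.Lib.Cyc.CH.DualPullback
import Mathlib.Algebra.Module.FinitePresentation
import Groth.Agent.Lib.RefHull.Reflexive

/-!
# Duals of coherent modules commute with flat pullback
-/

set_option autoImplicit false
set_option linter.style.haveILetI false
universe u

open CategoryTheory CategoryTheory.Limits AlgebraicGeometry Opposite
open scoped TensorProduct

noncomputable section

namespace Groth.Agent.H18.DualFlatPull

open Groth.Agent.Lib Groth.Agent.Lib.Cyc Groth.Agent.Lib.Cyc.CH Modules.StalkModule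
open Groth.Agent.Lib.TensorMod.Free (pairM pairM_comp)
open Groth.Agent.Lib.RefHull.SecHom (app germ_app)

/-- Flat base change of the linear dual of a finitely presented module. -/
theorem bijective_of_apply {A B : Type u} [CommRing A] [CommRing B] [Algebra A B] [Module.Flat A B]
    {M D : Type u} [AddCommGroup M] [Module A M] [Module.FinitePresentation A M]
    [AddCommGroup D] [Module A D]
    (ev : D →ₗ[A] (M →ₗ[A] A)) (hev : Function.Bijective ev) {w : B} (hw : IsUnit w)
    (Ψ : B ⊗[A] D →ₗ[B] (B ⊗[A] M →ₗ[B] B))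
    (h : ∀ θ v, Ψ (1 ⊗ₜ θ) (1 ⊗ₜ v) = algebraMap A B (ev θ v) * w) : Function.Bijective Ψ := by
  let e1 := (LinearEquiv.ofBijective ev hev).baseChange A B
  let e2 := (Module.FinitePresentation.isBaseChange_map A M A B).equiv
  let e3 := LinearEquiv.congrRight (M₂ := B ⊗[A] A) (M := B ⊗[A] M) (TensorProduct.AlgebraTensorModule.rid A B B)
  have key : Ψ = w • ((e1 ≪≫ₗ e2 ≪≫ₗ e3).toLinearMap) := by
    refine TensorProduct.AlgebraTensorModule.curry_injective (LinearMap.ext_ring (LinearMap.ext fun θ => ?_))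
    refine TensorProduct.AlgebraTensorModule.curry_injective (LinearMap.ext_ring (LinearMap.ext fun v => ?_))
    simp [e1, e2, e3, h, IsBaseChange.equiv_tmul, mul_comm]
    refine congrArg (w * ·) ?_
    show _ = TensorProduct.AlgebraTensorModule.rid A B B ((LinearMap.baseChange B (ev θ)) ((1 : B) ⊗ₜ[A] v))
    rw [LinearMap.baseChange_tmul, TensorProduct.AlgebraTensorModule.rid_tmul, Algebra.smul_def, mul_one]
  rw [key]
  obtain ⟨w, rfl⟩ := hw
  exact ((e1 ≪≫ₗ e2 ≪≫ₗ e3).trans (LinearEquiv.smulOfUnit w)).bijective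

/-- Duals of isomorphic modules are isomorphic. -/
def dualIso {X : Scheme.{u}} {A A' : X.Modules} (e : A ≅ A') : RefHull.dual A' ≅ RefHull.dual A where
  hom := dualMap e.hom
  inv := dualMap e.inv
  hom_inv_id := by
    refine Scheme.Modules.hom_ext _ _ fun U => ?_
    ext g
    refine Subtype.ext (funext fun x => LinearMap.ext fun v => ?_)
    show (g.1 x) (stalkMapₗ e.hom x.1 (stalkMapₗ e.inv x.1 v)) = g.1 x v
    rw [← LinearMap.comp_apply (stalkMapₗ e.hom x.1), ← stalkMapₗ_comp, e.inv_hom_id, stalkMapₗ_id]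
    rfl
  inv_hom_id := by
    refine Scheme.Modules.hom_ext _ _ fun U => ?_
    ext g
    refine Subtype.ext (funext fun x => LinearMap.ext fun v => ?_)
    show (g.1 x) (stalkMapₗ e.inv x.1 (stalkMapₗ e.hom x.1 v)) = g.1 x v
    rw [← LinearMap.comp_apply (stalkMapₗ e.inv x.1), ← stalkMapₗ_comp, e.hom_inv_id, stalkMapₗ_id]
    rfl

variable {X Y : Scheme.{u}} (g : Y ⟶ X)

/-- Pullback along a flat morphism commutes with duals of coherent modules. -/
theorem nonempty_pullback_dual_iso [IsLocallyNoetherian X] [IsLocallyNoetherian Y] {E : X.Modules}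
    (hE : Coh.IsCoh E) [Flat g] :
    Nonempty ((Scheme.Modules.pullback g).obj (RefHull.dual E) ≅
      RefHull.dual ((Scheme.Modules.pullback g).obj E)) := by
  classical
  obtain ⟨ψ, hψ⟩ := ZarCoh.Exchange.HomAdj.exists_uncurry (𝟙 (RefHull.dual E))
  let ι := (PicLoc.pullbackStructureIso g).hom
  let φ : CohB1.tensorMod ((Scheme.Modules.pullback g).obj E)
      ((Scheme.Modules.pullback g).obj (RefHull.dual E)) ⟶ Coh.structureModule Y :=
    (TensorMod.Pullback.pullbackTensorIso g E (RefHull.dual E)).inv ≫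
      (Scheme.Modules.pullback g).map ψ ≫ ι
  let c : (Scheme.Modules.pullback g).obj (RefHull.dual E) ⟶
      RefHull.dual ((Scheme.Modules.pullback g).obj E) := ZarCoh.Exchange.HomAdj.curry φ
  suffices IsIso c from ⟨asIso c⟩
  have hφ : ∀ (U : X.Opens) (e : Γ(E, U)) (t : Γ(RefHull.dual E, U)),
      pairM φ (TensorMod.Pullback.unitSec g E e) (TensorMod.Pullback.unitSec g (RefHull.dual E) t) =
        ι.app (g ⁻¹ᵁ U) (TensorMod.Pullback.unitSec g (Coh.structureModule X) (app t le_rfl e)) := by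
    intro U e t
    rw [← TensorMod.Pullback.pairM_delta_comp g φ e t,
      show TensorMod.Pullback.delta g E (RefHull.dual E) ≫ φ = (Scheme.Modules.pullback g).map ψ ≫ ι from
        (TensorMod.Pullback.pullbackTensorIso g E (RefHull.dual E)).hom_inv_id_assoc _,
      Adjunction.homEquiv_naturality_left, Adjunction.homEquiv_unit, pairM_comp, hψ]
    rfl
  have key : ∀ (y : Y) (θ : (RefHull.dual E).presheaf.stalk (g y)) (v : E.presheaf.stalk (g y)),
      RefHull.evalStalk ((Scheme.Modules.pullback g).obj E) (Coh.structureModule Y) y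
          (stalkMapₗ c y (ust g (RefHull.dual E) y θ)) (ust g E y v) =
        stalkMapₗ ι y (ust g (Coh.structureModule X) y
          (RefHull.evalStalk E (Coh.structureModule X) (g y) θ v)) := by
    intro y θ v
    obtain ⟨U₁, h₁, t, rfl⟩ := TopCat.Presheaf.exists_germ_eq (RefHull.dual E).presheaf θ
    obtain ⟨U₂, h₂, e, rfl⟩ := TopCat.Presheaf.exists_germ_eq E.presheaf v
    have hW : g y ∈ U₁ ⊓ U₂ := ⟨h₁, h₂⟩
    rw [← TopCat.Presheaf.germ_res_apply (RefHull.dual E).presheaf
        (homOfLE (inf_le_left : U₁ ⊓ U₂ ≤ U₁)) (g y) hW t,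
      ← TopCat.Presheaf.germ_res_apply E.presheaf (homOfLE (inf_le_right : U₁ ⊓ U₂ ≤ U₂)) (g y) hW e]
    generalize (RefHull.dual E).presheaf.map (homOfLE (inf_le_left : U₁ ⊓ U₂ ≤ U₁)).op t = t'
    generalize E.presheaf.map (homOfLE (inf_le_right : U₁ ⊓ U₂ ≤ U₂)).op e = e'
    rw [RefHull.evalStalk_germ, ← germ_app t' le_rfl e' (g y) hW, ust_germ g _ y hW, ust_germ g _ y hW, ust_germ g _ y hW,
      stalkMapₗ_germ c (U := g ⁻¹ᵁ (U₁ ⊓ U₂)) (show y ∈ g ⁻¹ᵁ (U₁ ⊓ U₂) from hW), stalkMapₗ_germ ι (U := g ⁻¹ᵁ (U₁ ⊓ U₂)) (show y ∈ g ⁻¹ᵁ (U₁ ⊓ U₂) from hW), RefHull.evalStalk_germ, ← hφ]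
    exact ZarCoh.Exchange.HomAdj.stalkPair_germ φ (U := g ⁻¹ᵁ (U₁ ⊓ U₂)) _ _ _
  rw [isIso_iff_stalkMapₗ_bijective]
  intro y
  letI : Algebra (X.presheaf.stalk (g y)) (Y.presheaf.stalk y) := (g.stalkMap y).hom.toAlgebra
  haveI : Module.Flat (X.presheaf.stalk (g y)) (Y.presheaf.stalk y) := Flat.stalkMap g y
  haveI : Module.Finite (X.presheaf.stalk (g y)) (E.presheaf.stalk (g y)) :=
    RefHull.Reflexive.finite_stalk hE (g y)
  haveI : Module.FinitePresentation (X.presheaf.stalk (g y)) (E.presheaf.stalk (g y)) :=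
    Module.finitePresentation_of_finite _ _
  have eX := RefHull.HomSh.evalStalk_bijective (G := Coh.structureModule X) hE (g y)
  have eY := RefHull.HomSh.evalStalk_bijective (G := Coh.structureModule Y)
    (FP.Stalk.isCoh_pullback g hE) y
  let eM : (Y.presheaf.stalk y ⊗[X.presheaf.stalk (g y)] E.presheaf.stalk (g y)) ≃ₗ[Y.presheaf.stalk y]
      ((Scheme.Modules.pullback g).obj E).presheaf.stalk y :=
    (asIso ((DerivedOX.PullbackStalk.comparison g y).app E)).toLinearEquiv
  let eD : (Y.presheaf.stalk y ⊗[X.presheaf.stalk (g y)] (RefHull.dual E).presheaf.stalk (g y)) ≃ₗ[Y.presheaf.stalk y]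
      ((Scheme.Modules.pullback g).obj (RefHull.dual E)).presheaf.stalk y :=
    (asIso ((DerivedOX.PullbackStalk.comparison g y).app (RefHull.dual E))).toLinearEquiv
  let o₁ := (RefHull.Reflexive.oEquiv (g y)).symm 1
  let w := RefHull.Reflexive.oEquiv y (stalkMapₗ ι y (ust g (Coh.structureModule X) y o₁))
  have ho : Submodule.span (X.presheaf.stalk (g y)) {o₁} = ⊤ :=
    eq_top_iff.2 fun v _ => Submodule.mem_span_singleton.2 ⟨RefHull.Reflexive.oEquiv (g y) v,
      (RefHull.Reflexive.oEquiv (g y)).injective (by rw [map_smul, LinearEquiv.apply_symm_apply, smul_eq_mul, mul_one])⟩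
  have hw : IsUnit w := by
    obtain ⟨w', hw'⟩ := ((isIso_iff_stalkMapₗ_bijective ι).1 inferInstance y).2
      ((RefHull.Reflexive.oEquiv y).symm 1)
    have hmem : w' ∈ Submodule.span (Y.presheaf.stalk y) {ust g (Coh.structureModule X) y o₁} := by
      rw [← Set.image_singleton, span_ust g _ y ho]
      exact Submodule.mem_top
    obtain ⟨a, rfl⟩ := Submodule.mem_span_singleton.1 hmem
    refine IsUnit.of_mul_eq_one_right a ?_
    show a * RefHull.Reflexive.oEquiv y _ = 1
    rw [← smul_eq_mul, ← map_smul, ← map_smul (stalkMapₗ ι y), hw', LinearEquiv.apply_symm_apply]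
  let cX := LinearEquiv.congrRight (M := E.presheaf.stalk (g y)) (RefHull.Reflexive.oEquiv (g y))
  let cY := eM.congrLeft (Y.presheaf.stalk y) (Y.presheaf.stalk y) |>.symm
  let eY' := (LinearEquiv.ofBijective (RefHull.evalStalk ((Scheme.Modules.pullback g).obj E)
    (Coh.structureModule Y) y) eY) ≪≫ₗ LinearEquiv.congrRight (RefHull.Reflexive.oEquiv y) ≪≫ₗ cY
  have hb := bijective_of_apply (B := Y.presheaf.stalk y)
    (cX.toLinearMap ∘ₗ RefHull.evalStalk E (Coh.structureModule X) (g y))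
    (cX.bijective.comp eX) hw (eY'.toLinearMap ∘ₗ stalkMapₗ c y ∘ₗ eD.toLinearMap) ?_
  · rw [LinearMap.coe_comp, LinearMap.coe_comp] at hb
    exact (Function.Bijective.of_comp_iff _ eD.bijective).1
      ((Function.Bijective.of_comp_iff' eY'.bijective _).1 hb)
  intro θ v
  have hD : eD ((1 : Y.presheaf.stalk y) ⊗ₜ θ) = ust g (RefHull.dual E) y θ :=
    DerivedOX.PullbackStalk.comparison_one_tmul g y _ θ
  have hM : eM ((1 : Y.presheaf.stalk y) ⊗ₜ v) = ust g E y v :=
    DerivedOX.PullbackStalk.comparison_one_tmul g y _ v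
  show RefHull.Reflexive.oEquiv y (RefHull.evalStalk _ _ y (stalkMapₗ c y (eD (1 ⊗ₜ θ))) (eM (1 ⊗ₜ v))) =
    (g.stalkMap y).hom (RefHull.Reflexive.oEquiv (g y) (RefHull.evalStalk E _ (g y) θ v)) * w
  rw [hD, hM, key]
  obtain ⟨a, ha⟩ := Submodule.mem_span_singleton.1
    (show RefHull.evalStalk E (Coh.structureModule X) (g y) θ v ∈
      Submodule.span (X.presheaf.stalk (g y)) {o₁} by rw [ho]; trivial)
  rw [← ha, map_smul, LinearEquiv.apply_symm_apply, smul_eq_mul, mul_one, ust_smul, map_smul, map_smul,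
    smul_eq_mul]

/-- Pullback along a flat morphism commutes with the reflexive hull. -/
theorem nonempty_pullback_ddual_iso [IsLocallyNoetherian X] [IsLocallyNoetherian Y] {E : X.Modules}
    (hE : Coh.IsCoh E) [Flat g] :
    Nonempty ((Scheme.Modules.pullback g).obj (RefHull.ddual E) ≅
      RefHull.ddual ((Scheme.Modules.pullback g).obj E)) := by
  obtain ⟨e₁⟩ := nonempty_pullback_dual_iso g hE
  obtain ⟨e₂⟩ := nonempty_pullback_dual_iso g (RefHull.Reflexive.isCoh_dual hE)
  exact ⟨e₂ ≪≫ (dualIso e₁).symm⟩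

end Groth.Agent.H18.DualFlatPull
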