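import Groth.Agent.H18.ExtIdeal
import Groth.Agent.Lib.ExtOne.Realize
import Mathlib.GroupTheory.CosetCover
import Groth.Agent.H18.Sec.Bridge
import Mathlib.Algebra.CharP.Basic

/-!
# Extension classes avoiding finitely many images; ideals above a reduced finite subscheme
-/

set_option linter.style.haveILetI false
set_option autoImplicit false

universe u

open CategoryTheory CategoryTheory.Limits AlgebraicGeometry TopologicalSpace Opposite
open Groth.Agent.Lib Pointwise

namespace Groth.Agent.H18.ExtCover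

/-- A divisible abelian group is not covered by finitely many proper subgroups. -/
theorem exists_notMem {G : Type*} [AddCommGroup G] (hdiv : ∀ n : ℕ, n ≠ 0 → ∀ x : G, ∃ y, n • y = x)
    {ι : Type*} (s : Finset ι) (H : ι → AddSubgroup G) (hH : ∀ i ∈ s, H i ≠ ⊤) :
    ∃ e : G, ∀ i ∈ s, e ∉ H i := by
  by_contra! hcon
  have hcov : ⋃ i ∈ s, (0 : G) +ᵥ (H i : Set G) = Set.univ := by
    refine Set.eq_univ_of_forall fun e => ?_
    obtain ⟨i, hi, he⟩ := hcon e
    exact Set.mem_biUnion hi (by rw [zero_vadd]; exact he)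
  obtain ⟨i, hi, hfi⟩ := AddSubgroup.exists_finiteIndex_of_leftCoset_cover hcov
  refine hH i hi ((AddSubgroup.eq_top_iff' _).2 fun x => ?_)
  obtain ⟨y, rfl⟩ := hdiv (H i).index hfi.index_ne_zero x
  exact AddSubgroup.nsmul_index_mem (H i) y

variable {X : Scheme.{u}}

/-- Natural numbers invertible on the scheme act invertibly on extension groups. -/
theorem exists_nsmul_eq [HasExt.{u} X.Modules] {A M : X.Modules} {d : ℕ} {n : ℕ}
    (hn : ∀ x : X, IsUnit (n : X.presheaf.stalk x)) (e : Abelian.Ext A M d) : ∃ y, n • y = e := by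
  have hst : ∀ x : X, Function.Bijective (RefHull.stalkMapₗ (n • 𝟙 M) x) := fun x => by
    have h : ∀ (m : ℕ) (v : M.presheaf.stalk x),
        RefHull.stalkMapₗ (m • 𝟙 M) x v = (m : X.presheaf.stalk x) • v := by
      intro m
      induction m with
      | zero =>
        intro v
        rw [zero_smul, Nat.cast_zero, zero_smul]
        exact LinearMap.congr_fun (Modules.StalkModule.stalkMapₗ_zero (M := M) (N := M) x) v
      | succ m ih =>
        intro v
        rw [succ_nsmul, Nat.cast_succ, add_smul, one_smul, ← ih v]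
        refine (LinearMap.congr_fun (Modules.StalkModule.stalkMapₗ_add (m • 𝟙 M) (𝟙 M) x) v).trans ?_
        refine congrArg (RefHull.stalkMapₗ (m • 𝟙 M) x v + ·) ?_
        exact LinearMap.congr_fun (Modules.StalkModule.stalkMapₗ_id (M := M) x) v
    rw [show (RefHull.stalkMapₗ (n • 𝟙 M) x : M.presheaf.stalk x → M.presheaf.stalk x) =
      fun v => (n : X.presheaf.stalk x) • v from funext (h n)]
    exact (hn x).smul_bijective
  haveI : Mono (n • 𝟙 M) := (Modules.StalkModule.mono_iff_stalkMapₗ_injective _).2 fun x => (hst x).1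
  haveI : Epi (n • 𝟙 M) := (Modules.StalkModule.epi_iff_stalkMapₗ_surjective _).2 fun x => (hst x).2
  haveI : IsIso (n • 𝟙 M) := isIso_of_mono_of_epi _
  refine ⟨e.comp (Abelian.Ext.mk₀ (inv (n • 𝟙 M))) (add_zero d), ?_⟩
  let P : Abelian.Ext A M d →+ Abelian.Ext A M d :=
    (Abelian.Ext.mk₀ (n • 𝟙 M)).postcomp A (add_zero d)
  have h2 : ∀ y : Abelian.Ext A M d, P y = n • y := fun y => by
    show y.comp (Abelian.Ext.mk₀ (n • 𝟙 M)) (add_zero d) = n • y
    rw [show Abelian.Ext.mk₀ (n • 𝟙 M) = n • Abelian.Ext.mk₀ (𝟙 M) from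
      map_nsmul (Abelian.Ext.addEquiv₀ (X := M) (Y := M)).symm n (𝟙 M)]
    have h3 := map_nsmul (Abelian.Ext.bilinearComp A M M d 0 d (add_zero d) y) n (Abelian.Ext.mk₀ (𝟙 M))
    exact h3.trans (congrArg (n • ·) (Abelian.Ext.comp_mk₀_id y))
  rw [← h2]
  show (e.comp (Abelian.Ext.mk₀ (inv (n • 𝟙 M))) (add_zero d)).comp (Abelian.Ext.mk₀ (n • 𝟙 M)) (add_zero d) = e
  rw [Abelian.Ext.comp_assoc_of_third_deg_zero, Abelian.Ext.mk₀_comp_mk₀, IsIso.inv_hom_id,
    Abelian.Ext.comp_mk₀_id]

/-- An ideal above the reduced ideal of a set of closed points is the reduced ideal of its support. -/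
theorem eq_vanishingIdeal [IsLocallyNoetherian X] (Z : Closeds X)
    (hZ : ∀ z ∈ (Z : Set X), IsClosed ({z} : Set X)) (I' : X.IdealSheafData)
    (h : Scheme.IdealSheafData.vanishingIdeal Z ≤ I') :
    I' = Scheme.IdealSheafData.vanishingIdeal I'.support := by
  rw [Scheme.IdealSheafData.vanishingIdeal_support]
  refine le_antisymm I'.le_radical fun U x hx => ?_
  change x ∈ (I'.ideal U).radical at hx
  obtain ⟨m, hm⟩ := hx
  set I₀ := (Scheme.IdealSheafData.vanishingIdeal Z).ideal U with hI₀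
  haveI : IsNoetherianRing Γ(X, U.1) := IsLocallyNoetherian.component_noetherian U
  have hrad : I₀.IsRadical := by
    rw [hI₀, Scheme.IdealSheafData.vanishingIdeal_ideal]
    exact PrimeSpectrum.isRadical_vanishingIdeal _
  haveI : _root_.IsReduced (Γ(X, U.1) ⧸ I₀) := (Ideal.isRadical_iff_quotient_reduced _).1 hrad
  haveI : Ring.KrullDimLE 0 (Γ(X, U.1) ⧸ I₀) := by
    refine Ring.krullDimLE_zero_iff.2 fun q hq => ?_
    let p : PrimeSpectrum Γ(X, U.1) := ⟨q.comap (Ideal.Quotient.mk I₀), Ideal.comap_isPrime _ _⟩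
    have hle : I₀ ≤ p.asIdeal := fun a ha => by
      show Ideal.Quotient.mk I₀ a ∈ q
      rw [Ideal.Quotient.eq_zero_iff_mem.2 ha]
      exact q.zero_mem
    have hpU : U.2.fromSpec p ∈ U.1 := H18.Sec.fromSpec_mem U.2 p
    have hpZ : U.2.fromSpec p ∈ (Z : Set X) := by
      rw [← Scheme.IdealSheafData.coe_support_vanishingIdeal (Z := Z)]
      refine (Scheme.IdealSheafData.mem_support_iff_of_mem hpU).2 ?_
      refine (Scheme.mem_zeroLocus_iff _ _ _).2 fun a ha hpa => ?_
      exact ((H18.Sec.mem_basicOpen_iff U.2 p a).1 hpa) (hle ha)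
    have hcl : IsClosed ({p} : Set (PrimeSpectrum Γ(X, U.1))) := by
      have h1 := (hZ _ hpZ).preimage U.2.fromSpec.continuous
      have h2 : U.2.fromSpec ⁻¹' {U.2.fromSpec p} = {p} :=
        Set.ext fun r => ⟨fun hr => U.2.isOpenImmersion_fromSpec.base_open.injective hr, fun hr => by rw [hr]; rfl⟩
      rwa [h2] at h1
    have hpm := (PrimeSpectrum.isClosed_singleton_iff_isMaximal p).1 hcl
    refine ⟨⟨hq.ne_top, fun J hJ => ?_⟩⟩
    by_contra hne
    have h3 := hpm.out.2 _ (lt_of_le_of_ne (Ideal.comap_mono hJ.le) fun he => hJ.ne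
      (Ideal.comap_injective_of_surjective _ Ideal.Quotient.mk_surjective he))
    exact hne (Ideal.comap_injective_of_surjective _ Ideal.Quotient.mk_surjective
      (h3.trans (Ideal.comap_top).symm))
  haveI : IsArtinianRing (Γ(X, U.1) ⧸ I₀) :=
    isArtinianRing_iff_isNoetherianRing_krullDimLE_zero.2 ⟨inferInstance, inferInstance⟩
  set a := Ideal.Quotient.mk I₀ x
  obtain ⟨n, b, hb⟩ := IsArtinian.exists_pow_succ_smul_dvd a (1 : Γ(X, U.1) ⧸ I₀)
  have hsq : a * (a * b - 1) = 0 := by
    refine IsReduced.eq_zero _ ⟨n + 1, ?_⟩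
    have h0 : a ^ n * (a * b - 1) = 0 := by
      rw [mul_sub, sub_eq_zero]
      simpa [smul_eq_mul, pow_succ, mul_assoc] using hb
    calc (a * (a * b - 1)) ^ (n + 1) = (a ^ n * (a * b - 1)) * (a * (a * b - 1) ^ n) := by
            rw [mul_pow, pow_succ, pow_succ]; ring
      _ = 0 := by rw [h0, zero_mul]
  have hpow : ∀ j : ℕ, a = a * (a * b) ^ j := by
    intro j
    induction j with
    | zero => simp
    | succ j ih =>
      calc a = a * (a * b) ^ j := ih
        _ = a * (a * b) ^ j + (a * b) ^ j * (a * (a * b - 1)) := by rw [hsq, mul_zero, add_zero]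
        _ = a * (a * b) ^ (j + 1) := by ring
  obtain ⟨c, rfl⟩ := Ideal.Quotient.mk_surjective b
  have hmem : x - x * (x * c) ^ m ∈ I₀ := by
    rw [← Ideal.Quotient.eq, map_mul, map_pow, map_mul]
    exact hpow m
  have := (I'.ideal U).add_mem (h U hmem)
    ((I'.ideal U).mul_mem_left x ((mul_pow x c m).symm ▸ (I'.ideal U).mul_mem_right _ hm))
  simpa using this

end Groth.Agent.H18.ExtCover
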