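import Groth.Agent.Lib.RefHull.RegNormal
import Groth.Agent.Lib.RefHull.DivTwist
import Groth.Agent.Lib.RefHull.Modif
import Groth.Agent.Lib.RefHull.Group
import Groth.Agent.Lib.RefHull.LocFree
import Groth.Agent.Lib.Modules.ZeroLocus
import Groth.Agent.Lib.ClSub.Sections
import Groth.Agent.Lib.Curves.IdealTwist
import Groth.Agent.Lib.QCoh.Closure
import Groth.Agent.Lib.CohBasics.Closure
import Groth.Prelude.Def_ClSub2

/-!
# Extensions of an ideal sheaf by an invertible module on a regular scheme of dimension two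
-/

set_option linter.style.haveILetI false
set_option autoImplicit false

universe u

open CategoryTheory CategoryTheory.Limits AlgebraicGeometry TopologicalSpace Opposite
open Groth.Agent.Lib Groth.Agent.Lib.RefHull Groth.Agent.Lib.RefHull.Generic

namespace Groth.Agent.H18.ExtIdeal

variable {X : Scheme.{u}}

/-- Extensions of coherent modules are coherent. -/
theorem isCoh_extension [IsLocallyNoetherian X] {S : ShortComplex X.Modules} (hS : S.ShortExact)
    (h₁ : Coh.IsCoh S.X₁) (h₃ : Coh.IsCoh S.X₃) : Coh.IsCoh S.X₂ := by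
  haveI := h₁.1
  haveI := h₃.1
  haveI := QCoh.Closure.isQCoh_of_extension hS
  refine CohBasics.Closure.isCoh_of_finite_sections fun U hU => ?_
  haveI := CohBasics.Closure.finite_sections h₁ hU
  haveI := CohBasics.Closure.finite_sections h₃ hU
  haveI := hS.mono_f
  exact Module.Finite.of_exact (M := Γ(S.X₁, U)) (N := Γ(S.X₂, U)) (P := Γ(S.X₃, U))
    (f := CohBasics.Affine.secₗ S.f U) (g := CohBasics.Affine.secₗ S.g U)
    (fun s => ⟨fun hs => QCoh.Closure.sections_exact hS.exact U s hs,
      fun ⟨t, ht⟩ => ht ▸ (by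
        show S.g.app U (S.f.app U t) = 0
        rw [← ConcreteCategory.comp_apply, ← Scheme.Modules.Hom.comp_app, S.zero,
          Scheme.Modules.Hom.zero_app]
        rfl)⟩)
    (QCoh.Closure.sections_surjective hS hU)

theorem isFinLocFree_structure [IsLocallyNoetherian X] : FlatMod.IsFinLocFree (Coh.structureModule X) :=
  LocFree.isFinLocFree Reflexive.isCoh_structure fun x => Module.Free.of_equiv (AssPt.Basic.unitStalkEquiv x)

theorem exact_of_stalks (S : ShortComplex X.Modules)
    (h : ∀ (x : X) (v : S.X₂.presheaf.stalk x), RefHull.stalkMapₗ S.g x v = 0 →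
      ∃ m, RefHull.stalkMapₗ S.f x m = v) : S.Exact :=
  (Modules.Stalk.exact_iff_stalk S).2 fun x => (ShortComplex.ab_exact_iff _).2 fun v hv => h x v hv

theorem exists_affine_germ {M : X.Modules} {x : X} (v : M.presheaf.stalk x) :
    ∃ (U : X.Opens) (_ : IsAffineOpen U) (hxU : x ∈ U) (s : Γ(M, U)), M.presheaf.germ U x hxU s = v := by
  obtain ⟨W, hxW, n, rfl⟩ := TopCat.Presheaf.exists_germ_eq M.presheaf v
  obtain ⟨U, hU, hxU, hUW⟩ := exists_isAffineOpen_mem_and_subset hxW
  exact ⟨U, hU, hxU, M.presheaf.map (homOfLE hUW).op n, TopCat.Presheaf.germ_res_apply _ _ _ _ _⟩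

theorem stalkMap_comp {A B C : X.Modules} (φ : A ⟶ B) (ψ : B ⟶ C) (x : X) (v : A.presheaf.stalk x) :
    RefHull.stalkMapₗ (φ ≫ ψ) x v = RefHull.stalkMapₗ ψ x (RefHull.stalkMapₗ φ x v) :=
  LinearMap.congr_fun (Modules.StalkModule.stalkMapₗ_comp φ ψ x) v

theorem stalkMap_injective {A B : X.Modules} (φ : A ⟶ B) [Mono φ] (x : X) :
    Function.Injective (RefHull.stalkMapₗ φ x) :=
  (Modules.StalkModule.mono_iff_stalkMapₗ_injective φ).1 ‹_› x

/-- The inclusion of an ideal is bijective on stalks off its support. -/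
theorem bijective_idealModι (I : X.IdealSheafData) {y : X} (hy : y ∉ (I.support : Set X)) :
    Function.Bijective (RefHull.stalkMapₗ (_root_.ClSub.idealModι I) y) := by
  haveI : Mono (_root_.ClSub.idealModι I) := inferInstanceAs (Mono (kernel.ι _))
  refine ⟨stalkMap_injective _ y, fun v => ?_⟩
  obtain ⟨U, hU, hyU, -⟩ := exists_isAffineOpen_mem_and_subset (X := X) (x := y) (U := ⊤) trivial
  have h := (Scheme.IdealSheafData.mem_support_iff_of_mem (I := I) (U := ⟨U, hU⟩) hyU).not.1 hy
  rw [Scheme.mem_zeroLocus_iff] at h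
  push Not at h
  obtain ⟨f, hf, hyf⟩ := h
  obtain ⟨m, hm⟩ := (ClSub.Sections.mem_range_idealModι_app_affine_iff I ⟨U, hU⟩ f).2 hf
  have hu : IsUnit (X.presheaf.germ U y hyU f) := (X.mem_basicOpen _ y hyU).1 hyf
  obtain ⟨c, rfl⟩ := (AssPt.Basic.unitStalkEquiv y).surjective v
  refine ⟨(c * (hu.unit⁻¹ : (X.presheaf.stalk y)ˣ)) • (_root_.ClSub.idealMod I).presheaf.germ U y hyU m, ?_⟩
  rw [map_smul, RefHull.stalkMapₗ_germ]
  refine (congrArg (fun s => _ • (Coh.structureModule X).presheaf.germ U y hyU s) hm).trans ?_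
  rw [← AssPt.Basic.unitStalk_germ_smul_one y hyU f, smul_smul, mul_assoc, IsUnit.val_inv_mul, mul_one]
  refine congrArg (c • ·) ?_
  refine (congrArg _ (map_one (X.presheaf.map (homOfLE (le_top : U ≤ ⊤)).op).hom).symm).trans ?_
  refine (TopCat.Presheaf.germ_res_apply (Coh.structureModule X).presheaf (homOfLE (le_top : U ≤ ⊤)) y hyU
    (1 : Γ(X, ⊤))).trans ?_
  rfl

variable [IsIntegral X] [IsLocallyNoetherian X]

omit [IsLocallyNoetherian X] in
/-- Submodules of a module with injective maps to the generic stalk have the same property. -/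
theorem toGen_injective_of_mono {A B : X.Modules} (φ : A ⟶ B) [Mono φ] (x : X)
    (hB : Function.Injective (toGen B x)) : Function.Injective (toGen A x) := fun a b h =>
  stalkMap_injective φ x (hB (by rw [toGen_stalkMap, toGen_stalkMap, h]))

omit [IsLocallyNoetherian X] in
/-- An extension of modules with injective maps to the generic stalk has the same property. -/
theorem toGen_injective_of_extension {A B C : X.Modules} (a : A ⟶ B) (b : B ⟶ C) (w : a ≫ b = 0)
    (hex : (ShortComplex.mk a b w).ShortExact) (x : X) (hA : Function.Injective (toGen A x))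
    (hC : Function.Injective (toGen C x)) : Function.Injective (toGen B x) := by
  haveI := hex.mono_f
  haveI := hex.epi_g
  rw [injective_iff_map_eq_zero]
  intro v hv
  have h1 : RefHull.stalkMapₗ b x v = 0 := hC (by rw [toGen_stalkMap, hv, map_zero, map_zero])
  obtain ⟨m, rfl⟩ := (Modif.exact_stalk a b w hex.exact inferInstance x).1 v h1
  rw [toGen_stalkMap] at hv
  rw [hA (show toGen A x m = toGen A x 0 from stalkMap_injective a _ (hv.trans (by rw [map_zero, map_zero]))),
    map_zero]

/-- `F` is not locally free iff the extension is pulled back from a strictly larger ideal. -/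
theorem main (hreg : ∀ x : X, IsRegularLocalRing (X.presheaf.stalk x))
    (hdim : ∀ x : X, ringKrullDim (X.presheaf.stalk x) ≤ 2)
    (M : X.Modules) (hM : PicF.IsInvertible M) (IZ : X.IdealSheafData)
    (hZ : ∀ y : X, ringKrullDim (X.presheaf.stalk y) ≤ 1 → y ∉ (IZ.support : Set X))
    (F : X.Modules) (a : M ⟶ F) (b : F ⟶ _root_.ClSub.idealMod IZ) (w : a ≫ b = 0)
    (hex : (ShortComplex.mk a b w).ShortExact) :
    ¬ FlatMod.IsFinLocFree F ↔
      ∃ (I' : X.IdealSheafData) (F' : X.Modules) (a' : M ⟶ F') (b' : F' ⟶ _root_.ClSub.idealMod I')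
        (w' : a' ≫ b' = 0) (φ : _root_.ClSub.idealMod IZ ⟶ _root_.ClSub.idealMod I') (g : F ⟶ F'),
        IZ < I' ∧ (ShortComplex.mk a' b' w').ShortExact ∧
          φ ≫ _root_.ClSub.idealModι I' = _root_.ClSub.idealModι IZ ∧
          a ≫ g = a' ∧ g ≫ b' = b ≫ φ := by
  have hX := ExtHull.isNormal hreg
  let η := genericPoint ↥X
  have hMr := DivTwist.isRef1_of_isInvertible hM
  have hO := Group.isRef1_structure (X := X)
  have hinjM := toGen_injective_of_isReflexive hMr.1 hMr.2.1
  have hinjO := toGen_injective_of_isReflexive hO.1 hO.2.1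
  have hinjI : ∀ (J : X.IdealSheafData) (x : X), Function.Injective (toGen (_root_.ClSub.idealMod J) x) :=
    fun J x => haveI : Mono (_root_.ClSub.idealModι J) := inferInstanceAs (Mono (kernel.ι _))
      toGen_injective_of_mono (_root_.ClSub.idealModι J) x (hinjO x)
  have hF : Coh.IsCoh F := isCoh_extension hex hMr.1 (Curves.IdealTwist.isCoh_ideal IZ)
  haveI := hF.1
  haveI := hMr.1.1
  haveI := hex.mono_f
  haveI := hex.epi_g
  have hFex := fun y => Modif.exact_stalk a b w hex.exact inferInstance y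
  have hinjF : ∀ x, Function.Injective (toGen F x) := fun x =>
    toGen_injective_of_extension a b w hex x (hinjM x) (hinjI IZ x)
  have hη0 : η ∉ (IZ.support : Set X) := hZ η (by
    rw [ringKrullDim_eq_zero_of_isField (Field.toIsField X.functionField)]; decide)
  constructor
  · intro hnf
    set F₂ := _root_.RefHull.ddual F with hF₂
    have hF₂c : Coh.IsCoh F₂ := Reflexive.isCoh_ddual hF
    have hF₂r : _root_.RefHull.IsReflexive F₂ := Reflexive.isReflexive_dual (Reflexive.isCoh_dual hF)
    have hinj₂ := toGen_injective_of_isReflexive hF₂c hF₂r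
    have hfree₂ : ∀ x, Module.Free (X.presheaf.stalk x) (F₂.presheaf.stalk x) := fun x => by
      by_contra hx
      exact absurd ((RegNormal.three_le_dim hreg hF₂c hF₂r x hx).trans (hdim x)) (by decide)
    haveI := hF₂c.1
    let β := _root_.RefHull.bidualMap F
    have hβη : Function.Bijective (RefHull.stalkMapₗ β η) := stalkMap_bidual_bijective_genericPoint hF
    let e := LinearEquiv.ofBijective (RefHull.stalkMapₗ β η) hβη
    have hT : ∀ (x : X) (v : F₂.presheaf.stalk x), ∃ c, toGen (Coh.structureModule X) x c =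
        ((RefHull.stalkMapₗ (b ≫ _root_.ClSub.idealModι IZ) η).comp e.symm.toLinearMap) (toGen F₂ x v) := by
      intro x v
      refine mem_range_toGen hX hO.1 ((Reflexive.isReflexive_iff_forall hO.1).mp hO.2.1 x) _
        fun y hyx hy => ?_
      obtain ⟨u, hu⟩ := stalkMap_bidual_surjective hX hF y hy.le ((F₂.presheaf.stalkSpecializes hyx).hom v)
      refine ⟨RefHull.stalkMapₗ (b ≫ _root_.ClSub.idealModι IZ) y u, ?_⟩
      have h1 : e.symm (toGen F₂ x v) = toGen F y u := by
        rw [LinearEquiv.symm_apply_eq]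
        show toGen F₂ x v = RefHull.stalkMapₗ β η (toGen F y u)
        rw [← toGen_stalkMap, hu, RankOne.toGen_spec]
      rw [LinearMap.comp_apply, toGen_stalkMap]
      exact congrArg _ h1.symm
    obtain ⟨b₀, hb₀⟩ := exists_hom hinjO _ hT
    have hβb : β ≫ b₀ = b ≫ _root_.ClSub.idealModι IZ := by
      refine hom_ext hinjO (LinearMap.ext fun v => ?_)
      rw [stalkMap_comp, hb₀, LinearMap.comp_apply]
      exact congrArg _ (e.symm_apply_apply v)
    haveI : (Coh.structureModule X).IsQuasicoherent := hO.1.1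
    let J := Modules.ZeroLocus.idealSheaf b₀ isFinLocFree_structure
    have hJrange : ∀ (U : X.affineOpens) (r : Γ(X, U.1)), r ∈ J.ideal U → ∃ s, b₀.app U.1 s = r := by
      intro U r hr
      haveI : (Coh.structureModule X).IsQuasicoherent := hO.1.1
      change r ∈ Ideal.span (Modules.ZeroLocus.vals b₀ U.1) at hr
      refine Submodule.span_induction (p := fun r _ => ∃ s, b₀.app U.1 s = r) ?_ ⟨0, map_zero _⟩ ?_ ?_ hr
      · rintro _ ⟨θ, s, rfl⟩
        refine ⟨θ (1 : Γ(X, U.1)) • s, ?_⟩
        rw [Scheme.Modules.Hom.app_smul]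
        refine Eq.trans ?_ (congrArg θ (mul_one (show Γ(X, U.1) from b₀.app U.1 s)))
        exact (mul_comm _ _).trans (map_smul θ (show Γ(X, U.1) from b₀.app U.1 s) (1 : Γ(X, U.1))).symm
      · rintro p q - - ⟨s, rfl⟩ ⟨t, rfl⟩
        exact ⟨s + t, map_add _ _ _⟩
      · rintro c p - ⟨s, rfl⟩
        exact ⟨c • s, Scheme.Modules.Hom.app_smul _ _ _⟩
    have hmemJ : ∀ (U : X.affineOpens) (s : Γ(F₂, U.1)), (show Γ(X, U.1) from b₀.app U.1 s) ∈ J.ideal U :=
      fun U s => Ideal.subset_span (show _ ∈ Modules.ZeroLocus.vals b₀ U.1 from ⟨LinearMap.id, s, rfl⟩)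
    have hb₀J : b₀ ≫ _root_.ClSub.toSubscheme J = 0 := by
      refine Modules.StalkModule.hom_ext_stalkMapₗ fun x => LinearMap.ext fun v => ?_
      obtain ⟨U, hU, hxU, s, rfl⟩ := exists_affine_germ v
      refine (Modules.StalkModule.stalkMapₗ_germ _ hxU s).trans ?_
      have hz : (b₀ ≫ _root_.ClSub.toSubscheme J).app U s = 0 := by
        show (_root_.ClSub.toSubscheme J).app U (b₀.app U s) = 0
        show (J.subschemeι.app U).hom (show Γ(X, U) from b₀.app U s) = 0
        rw [← RingHom.mem_ker]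
        erw [J.ker_subschemeι_app ⟨U, hU⟩]
        exact hmemJ ⟨U, hU⟩ s
      rw [hz, map_zero, Modules.StalkModule.stalkMapₗ_zero]
      rfl
    let b₁ : F₂ ⟶ _root_.ClSub.idealMod J := kernel.lift _ b₀ hb₀J
    have hb₁ : b₁ ≫ _root_.ClSub.idealModι J = b₀ := kernel.lift_ι _ _ _
    have hb₁s : ∀ x, Function.Surjective (RefHull.stalkMapₗ b₁ x) := by
      intro x v
      obtain ⟨U, hU, hxU, n, rfl⟩ := exists_affine_germ v
      obtain ⟨s, hs⟩ := hJrange ⟨U, hU⟩ _
        ((ClSub.Sections.mem_range_idealModι_app_affine_iff J ⟨U, hU⟩ _).1 ⟨n, rfl⟩)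
      refine ⟨F₂.presheaf.germ U x hxU s, ?_⟩
      rw [RefHull.stalkMapₗ_germ]
      refine congrArg _ (ClSub.Sections.idealModι_app_injective J U ?_)
      show (b₁ ≫ _root_.ClSub.idealModι J).app U s = _
      rw [hb₁]
      exact hs
    have hιz : _root_.ClSub.idealModι IZ ≫ _root_.ClSub.toSubscheme J = 0 := by
      rw [← cancel_epi b, ← Category.assoc, ← hβb, Category.assoc, hb₀J, comp_zero, comp_zero]
    let φ : _root_.ClSub.idealMod IZ ⟶ _root_.ClSub.idealMod J := kernel.lift _ _ hιz
    have hφ : φ ≫ _root_.ClSub.idealModι J = _root_.ClSub.idealModι IZ := kernel.lift_ι _ _ _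
    haveI : Mono (_root_.ClSub.idealModι J) := inferInstanceAs (Mono (kernel.ι _))
    have hgb : β ≫ b₁ = b ≫ φ := by
      rw [← cancel_mono (_root_.ClSub.idealModι J), Category.assoc, hb₁, hβb, Category.assoc, hφ]
    have w' : (a ≫ β) ≫ b₁ = 0 := by rw [Category.assoc, hgb, ← Category.assoc, w, zero_comp]
    haveI : Mono β := (Modules.StalkModule.mono_iff_stalkMapₗ_injective β).2 fun x p q hpq =>
      hinjF x (hβη.1 (by
        rw [← toGen_stalkMap, ← toGen_stalkMap]
        exact congrArg _ hpq))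
    have hker : ∀ (x : X) (v : F₂.presheaf.stalk x), RefHull.stalkMapₗ b₁ x v = 0 →
        ∃ m, RefHull.stalkMapₗ (a ≫ β) x m = v := by
      intro x v hv
      have hb0 : RefHull.stalkMapₗ (b ≫ _root_.ClSub.idealModι IZ) η (e.symm (toGen F₂ x v)) = 0 := by
        have h1 := congrArg (fun ψ => RefHull.stalkMapₗ ψ x v) hb₁
        simp only [stalkMap_comp, hv, map_zero] at h1
        have h2 := congrArg (toGen _ x) h1
        rw [map_zero, toGen_stalkMap, hb₀] at h2
        exact h2.symm
      obtain ⟨mη, hmη⟩ := (hFex η).1 (e.symm (toGen F₂ x v)) (by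
        haveI : Mono (_root_.ClSub.idealModι IZ) := inferInstanceAs (Mono (kernel.ι _))
        refine stalkMap_injective (_root_.ClSub.idealModι IZ) η ?_
        rw [map_zero, ← stalkMap_comp, hb0])
      have hmη' : RefHull.stalkMapₗ β η (RefHull.stalkMapₗ a η mη) = toGen F₂ x v := by
        rw [hmη]; exact e.apply_symm_apply _
      obtain ⟨m, hm⟩ := mem_range_toGen hX hMr.1 ((Reflexive.isReflexive_iff_forall hMr.1).mp hMr.2.1 x) mη
        fun y hyx hy => by
          obtain ⟨u, hu⟩ := stalkMap_bidual_surjective hX hF y hy.le ((F₂.presheaf.stalkSpecializes hyx).hom v)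
          have huη : toGen F y u = RefHull.stalkMapₗ a η mη := hβη.1 (by
            rw [hmη', ← toGen_stalkMap, hu, RankOne.toGen_spec])
          obtain ⟨my, hmy⟩ := (hFex y).1 u (hinjI IZ y (by
            rw [toGen_stalkMap, huη, ← stalkMap_comp, w, map_zero]
            exact LinearMap.congr_fun (Modules.StalkModule.stalkMapₗ_zero (M := M) η) mη))
          refine ⟨my, stalkMap_injective a η ?_⟩
          rw [← toGen_stalkMap, hmy, huη]
      refine ⟨m, hinj₂ x ?_⟩
      rw [stalkMap_comp, toGen_stalkMap, toGen_stalkMap, hm, hmη']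
    have hex' : (ShortComplex.mk (a ≫ β) b₁ w').ShortExact := by
      refine { exact := ?_, mono_f := mono_comp a β, epi_g := ?_ }
      · exact exact_of_stalks _ hker
      · exact (Modules.StalkModule.epi_iff_stalkMapₗ_surjective b₁).2 hb₁s
    refine ⟨J, F₂, a ≫ β, b₁, w', φ, β, lt_of_le_of_ne (fun U r hr => ?_) ?_, hex', hφ, rfl, hgb⟩
    · obtain ⟨m, hm⟩ := (ClSub.Sections.mem_range_idealModι_app_affine_iff IZ U r).2 hr
      refine (ClSub.Sections.mem_range_idealModι_app_affine_iff J U r).1 ⟨φ.app U.1 m, ?_⟩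
      show (φ ≫ _root_.ClSub.idealModι J).app U.1 m = r
      rw [hφ, hm]
    · intro hJ
      apply hnf
      have hsurjφ : ∀ x, Function.Surjective (RefHull.stalkMapₗ φ x) := fun x v => by
        obtain ⟨U, hU, hxU, n, rfl⟩ := exists_affine_germ v
        have hn := (ClSub.Sections.mem_range_idealModι_app_affine_iff J ⟨U, hU⟩ _).1 ⟨n, rfl⟩
        replace hn : _ ∈ IZ.ideal ⟨U, hU⟩ := (congrArg (fun K : X.IdealSheafData => K.ideal ⟨U, hU⟩) hJ).ge hn
        obtain ⟨m, hm⟩ := (ClSub.Sections.mem_range_idealModι_app_affine_iff IZ ⟨U, hU⟩ _).2 hn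
        refine ⟨(_root_.ClSub.idealMod IZ).presheaf.germ U x hxU m, ?_⟩
        rw [RefHull.stalkMapₗ_germ]
        refine congrArg _ (ClSub.Sections.idealModι_app_injective J U ?_)
        show (φ ≫ _root_.ClSub.idealModι J).app U m = _
        rw [hφ]
        exact hm
      refine LocFree.isFinLocFree hF fun x => ?_
      haveI := hfree₂ x
      refine Module.Free.of_equiv (LinearEquiv.ofBijective (RefHull.stalkMapₗ β x)
        ⟨stalkMap_injective β x, fun v => ?_⟩).symm
      obtain ⟨i, hi⟩ := hsurjφ x (RefHull.stalkMapₗ b₁ x v)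
      obtain ⟨u, rfl⟩ := (hFex x).2 i
      obtain ⟨m, hm⟩ := hker x (v - RefHull.stalkMapₗ β x u) (by
        rw [map_sub, ← hi, ← stalkMap_comp β b₁, hgb, stalkMap_comp, sub_self])
      refine ⟨u + RefHull.stalkMapₗ a x m, ?_⟩
      rw [map_add, ← stalkMap_comp a β, hm, add_sub_cancel]
  · rintro ⟨I', F', a', b', w', φ, g, hlt, hex', hφ, rfl, hg⟩ hfree
    haveI := hex'.mono_f
    haveI := hex'.epi_g
    have hF'ex := fun y => Modif.exact_stalk _ b' w' hex'.exact inferInstance y
    have hinjF' : ∀ x, Function.Injective (toGen F' x) := fun x =>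
      toGen_injective_of_extension (a ≫ g) b' w' hex' x (hinjM x) (hinjI I' x)
    haveI : Mono (_root_.ClSub.idealModι IZ) := inferInstanceAs (Mono (kernel.ι _))
    haveI : Mono (_root_.ClSub.idealModι I') := inferInstanceAs (Mono (kernel.ι _))
    haveI : Mono φ := mono_of_mono_fac hφ
    have hφy : ∀ y, y ∉ (IZ.support : Set X) → Function.Surjective (RefHull.stalkMapₗ φ y) := by
      intro y hy c
      obtain ⟨i, hi⟩ := (bijective_idealModι IZ hy).2 (RefHull.stalkMapₗ (_root_.ClSub.idealModι I') y c)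
      refine ⟨i, stalkMap_injective (_root_.ClSub.idealModι I') y ?_⟩
      rw [← stalkMap_comp, hφ, hi]
    have hgy : ∀ y, Function.Surjective (RefHull.stalkMapₗ φ y) →
        Function.Surjective (RefHull.stalkMapₗ g y) := by
      intro y hy c
      obtain ⟨i, hi⟩ := hy (RefHull.stalkMapₗ b' y c)
      obtain ⟨u, rfl⟩ := (hFex y).2 i
      obtain ⟨m, hm⟩ := (hF'ex y).1 (c - RefHull.stalkMapₗ g y u) (by
        rw [map_sub, ← hi, ← stalkMap_comp g b', hg, stalkMap_comp, sub_self])
      refine ⟨u + RefHull.stalkMapₗ a y m, ?_⟩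
      rw [map_add, ← stalkMap_comp a g, hm, add_sub_cancel]
    have hFr : ∀ x, _root_.RefHull.IsReflexiveAt F x := fun x => by
      haveI := LocFree.free_stalk hfree x
      haveI := LocFree.finite_stalk hF x
      exact (inferInstance : Module.IsReflexive (X.presheaf.stalk x) (F.presheaf.stalk x))
    have hgη : Function.Injective (RefHull.stalkMapₗ g η) := fun p q hpq => by
      refine sub_eq_zero.1 ?_
      have h0 : RefHull.stalkMapₗ g η (p - q) = 0 := by rw [map_sub, hpq, sub_self]
      obtain ⟨m, hm⟩ := (hFex η).1 (p - q) (stalkMap_injective φ η (by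
        rw [map_zero, ← stalkMap_comp, ← hg, stalkMap_comp, h0, map_zero]))
      rw [← hm, stalkMap_injective (a ≫ g) η (show RefHull.stalkMapₗ (a ≫ g) η m =
        RefHull.stalkMapₗ (a ≫ g) η 0 by rw [stalkMap_comp, hm, h0, map_zero]), map_zero]
    have hgs : ∀ x, Function.Surjective (RefHull.stalkMapₗ g x) := by
      intro x c
      obtain ⟨tη, htη⟩ := hgy η (hφy η hη0) (toGen F' x c)
      obtain ⟨t, ht⟩ := mem_range_toGen hX hF (hFr x) tη fun y hyx hy => by
        obtain ⟨u, hu⟩ := hgy y (hφy y (hZ y hy.le)) ((F'.presheaf.stalkSpecializes hyx).hom c)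
        exact ⟨u, hgη (by rw [← toGen_stalkMap, hu, RankOne.toGen_spec, htη])⟩
      exact ⟨t, hinjF' x (by rw [toGen_stalkMap, ht, htη])⟩
    have hφs : ∀ x, Function.Surjective (RefHull.stalkMapₗ φ x) := fun x c => by
      obtain ⟨f', rfl⟩ := (hF'ex x).2 c
      obtain ⟨f, rfl⟩ := hgs x f'
      exact ⟨RefHull.stalkMapₗ b x f, by rw [← stalkMap_comp, ← hg, stalkMap_comp]⟩
    haveI : Epi φ := (Modules.StalkModule.epi_iff_stalkMapₗ_surjective φ).2 hφs
    haveI : IsIso φ := isIso_of_mono_of_epi φ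
    refine hlt.not_ge fun U r hr => ?_
    obtain ⟨m, hm⟩ := (ClSub.Sections.mem_range_idealModι_app_affine_iff I' U r).2 hr
    refine (ClSub.Sections.mem_range_idealModι_app_affine_iff IZ U r).1 ⟨(inv φ).app U.1 m, ?_⟩
    show (inv φ ≫ _root_.ClSub.idealModι IZ).app U.1 m = r
    rw [← hφ, IsIso.inv_hom_id_assoc, hm]

end Groth.Agent.H18.ExtIdeal
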