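import Groth.Agent.H18.FrobRef
import Groth.Agent.Lib.RefHull.ExtHull

/-!
# Determinant divisors of reflexive Frobenius pull-backs
-/

set_option linter.style.haveILetI false
set_option autoImplicit false

universe u

open CategoryTheory CategoryTheory.Limits AlgebraicGeometry TopologicalSpace Opposite
open Groth.Agent.Lib Groth.Agent.Lib.RefHull Groth.Agent.Lib.RefHull.Generic
open Groth.Agent.Lib.RefHull.RankOne Groth.Agent.Lib.RefHull.Ord
open Groth.Agent.H18.FrobRef
open scoped TensorProduct

namespace Groth.Agent.H18.FrobDet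

variable {X : Scheme.{u}}

/-- Pull-back of a basis of a stalk. -/
theorem exists_unit_basis {ι : Type} (f : X ⟶ X) (M : X.Modules) (x : X)
    (b : Module.Basis ι (X.presheaf.stalk (f x)) (M.presheaf.stalk (f x))) :
    ∃ B' : Module.Basis ι (X.presheaf.stalk x) (((Scheme.Modules.pullback f).obj M).presheaf.stalk x),
      ∀ i, B' i = unit f x M (b i) := by
  letI : Algebra (X.presheaf.stalk (f x)) (X.presheaf.stalk x) := (f.stalkMap x).hom.toAlgebra
  let e : (X.presheaf.stalk x ⊗[X.presheaf.stalk (f x)] M.presheaf.stalk (f x)) ≃ₗ[X.presheaf.stalk x]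
      (((Scheme.Modules.pullback f).obj M).presheaf.stalk x) :=
    (asIso ((DerivedOX.PullbackStalk.comparison f x).app M)).toLinearEquiv
  refine ⟨(Algebra.TensorProduct.basis (X.presheaf.stalk x) b).map e, fun i => ?_⟩
  rw [Module.Basis.map_apply, Algebra.TensorProduct.basis_apply]
  exact DerivedOX.PullbackStalk.comparison_one_tmul f x M (b i)

/-- Pull-back of generators of a stalk. -/
theorem exists_sum_unit {r : ℕ} (f : X ⟶ X) (M : X.Modules) (x : X)
    (c : Fin r → M.presheaf.stalk (f x))
    (hc : ∀ v, ∃ a : Fin r → X.presheaf.stalk (f x), v = ∑ j, a j • c j)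
    (w : ((Scheme.Modules.pullback f).obj M).presheaf.stalk x) :
    ∃ a : Fin r → X.presheaf.stalk x, w = ∑ j, a j • unit f x M (c j) := by
  letI : Algebra (X.presheaf.stalk (f x)) (X.presheaf.stalk x) := (f.stalkMap x).hom.toAlgebra
  let e : (X.presheaf.stalk x ⊗[X.presheaf.stalk (f x)] M.presheaf.stalk (f x)) ≃ₗ[X.presheaf.stalk x]
      (((Scheme.Modules.pullback f).obj M).presheaf.stalk x) :=
    (asIso ((DerivedOX.PullbackStalk.comparison f x).app M)).toLinearEquiv
  have he : ∀ v, e ((1 : X.presheaf.stalk x) ⊗ₜ v) = unit f x M v := fun v =>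
    DerivedOX.PullbackStalk.comparison_one_tmul f x M v
  obtain ⟨z, rfl⟩ := e.surjective w
  induction z using TensorProduct.induction_on with
  | zero => exact ⟨0, by simp⟩
  | add p q hp hq =>
    obtain ⟨a, ha⟩ := hp
    obtain ⟨a', ha'⟩ := hq
    exact ⟨a + a', by simp only [map_add, ha, ha', Pi.add_apply, add_smul, Finset.sum_add_distrib]⟩
  | tmul q v =>
    obtain ⟨a, rfl⟩ := hc v
    refine ⟨fun j => q * (f.stalkMap x).hom (a j), ?_⟩
    rw [TensorProduct.tmul_sum, map_sum]
    refine Finset.sum_congr rfl fun j _ => ?_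
    rw [← mul_one q, ← smul_eq_mul, ← TensorProduct.smul_tmul', map_smul, he, unit_smul, smul_smul,
      smul_eq_mul, mul_one]

variable (p : ℕ) [Fact p.Prime] [FrobSch.IsCharP X p] [IsIntegral X] [IsLocallyNoetherian X]

/-- A basis at the generic point and lattices in codimension one with determinant divisor `D`. -/
def HasDet (F : X.Modules) (r : ℕ) (D : X → ℤ) : Prop :=
  ∃ (B : Module.Basis (Fin r) X.functionField (F.presheaf.stalk (genericPoint ↥X)))
    (c : (y : X) → Fin r → F.presheaf.stalk y), ∀ y, Order.coheight y = 1 →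
    LinearIndependent X.functionField (fun i => toGen F y (c y i)) ∧
      (∀ v, ∃ a : Fin r → X.presheaf.stalk y, toGen F y v =
        ∑ j, algebraMap (X.presheaf.stalk y) X.functionField (a j) • toGen F y (c y j)) ∧
      D y = - Scheme.ord (ExtDet.dt B fun i => toGen F y (c y i)) y

omit [Fact p.Prime] [FrobSch.IsCharP X p] in
theorem hasDet_iso {F G : X.Modules} (e : F ≅ G) {r : ℕ} {D : X → ℤ} (h : HasDet F r D) :
    HasDet G r D := by
  obtain ⟨B, c, hc⟩ := h
  let l : F.presheaf.stalk (genericPoint ↥X) ≃ₗ[X.functionField] G.presheaf.stalk (genericPoint ↥X) :=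
    Modules.StalkModule.stalkLinearEquiv e (genericPoint ↥X)
  refine ⟨B.map l, fun y i => Modules.StalkModule.stalkLinearEquiv e y (c y i), fun y hy => ?_⟩
  obtain ⟨h1, h2, h3⟩ := hc y hy
  have hl : ∀ v, toGen G y (Modules.StalkModule.stalkLinearEquiv e y v) = l (toGen F y v) := fun v =>
    toGen_stalkMap e.hom y v
  refine ⟨?_, fun v => ?_, h3.trans ?_⟩
  · simp only [hl]
    exact h1.map' l.toLinearMap l.ker
  · obtain ⟨w, rfl⟩ := (Modules.StalkModule.stalkLinearEquiv e y).surjective v
    obtain ⟨a, ha⟩ := h2 w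
    refine ⟨a, ?_⟩
    simp only [hl, ha, map_sum, map_smul]
  · simp only [hl, ExtDet.dt, Module.Basis.map_repr, LinearEquiv.trans_apply, l.symm_apply_apply]

theorem frob_det (hX : Pi1.IsNormalScheme X) {F : X.Modules} (hF : Coh.IsCoh F)
    (hR : RefHull.IsReflexive F) {r : ℕ} {D : X → ℤ} (h : HasDet F r D) :
    HasDet (RefHull.ddual ((Scheme.Modules.pullback (FrobSch.frob X p)).obj F)) r
      (fun y => (p : ℤ) * D y) := by
  obtain ⟨B, c, hc⟩ := h
  set φf := FrobSch.frob X p
  set P := (Scheme.Modules.pullback φf).obj F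
  set β := RefHull.stalkMapₗ (RefHull.bidualMap P) (genericPoint ↥X)
  have hP : Coh.IsCoh P := Cyc.FP.Stalk.isCoh_pullback φf hF
  have hb : Function.Bijective β := stalkMap_bidual_bijective_genericPoint hP
  have hinj := toGen_injective_of_isReflexive hF hR
  obtain ⟨BP, hBP⟩ := exists_unit_basis φf F (genericPoint ↥X) B
  let B' : Module.Basis (Fin r) X.functionField ((RefHull.ddual P).presheaf.stalk (genericPoint ↥X)) :=
    BP.map (LinearEquiv.ofBijective β hb)
  have hB' : ∀ i, B' i = β (unit φf (genericPoint ↥X) F (B i)) := fun i => by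
    show LinearEquiv.ofBijective β hb (BP i) = _
    rw [hBP]
    rfl
  refine ⟨B', fun y i => RefHull.stalkMapₗ (RefHull.bidualMap P) y (unit φf y F (c y i)),
    fun y hy => ?_⟩
  obtain ⟨hli, hgen, hD⟩ := hc y hy
  let A : Matrix (Fin r) (Fin r) X.functionField := Matrix.of fun i j => B.repr (toGen F y (c y i)) j
  let σ : X.functionField →+* X.functionField := (φf.stalkMap (genericPoint ↥X)).hom
  have hσ : ∀ a, σ a = a ^ p := frob_stalkMap p (genericPoint ↥X)
  have hexp : ∀ i, toGen (RefHull.ddual P) y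
      (RefHull.stalkMapₗ (RefHull.bidualMap P) y (unit φf y F (c y i))) = ∑ j, σ (A i j) • B' j := by
    intro i
    rw [toGen_stalkMap]
    have e1 : toGen P y (unit φf y F (c y i)) = unit φf (genericPoint ↥X) F (toGen F y (c y i)) :=
      unit_specializes φf F (spec y) (c y i)
    have e2 : unit φf (genericPoint ↥X) F (toGen F y (c y i)) =
        ∑ j, σ (A i j) • unit φf (genericPoint ↥X) F (B j) := by
      refine (congrArg _ (B.sum_repr (toGen F y (c y i))).symm).trans ?_
      refine (map_sum (unit φf (genericPoint ↥X) F) _ _).trans ?_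
      exact Finset.sum_congr rfl fun j _ => unit_smul φf (genericPoint ↥X) F _ _
    rw [e1, e2]
    refine (map_sum β _ _).trans (Finset.sum_congr rfl fun j _ => ?_)
    rw [hB']
    exact map_smul β _ _
  have hdt : ExtDet.dt B' (fun i => toGen (RefHull.ddual P) y
      (RefHull.stalkMapₗ (RefHull.bidualMap P) y (unit φf y F (c y i)))) =
      ExtDet.dt B (fun i => toGen F y (c y i)) ^ p := by
    have e : ExtDet.dt B' (fun i => ∑ j, σ (A i j) • B' j) = (A.map σ).det * ExtDet.dt B' B' :=
      ExtDet.dt_mul B' B' (A.map σ)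
    have e' : ExtDet.dt B' B' = 1 := by
      rw [ExtDet.dt, show (Matrix.of fun i j => B'.repr (B' i) j) = 1 from ?_, Matrix.det_one]
      ext i j
      simp [Matrix.one_apply, Finsupp.single_apply]
    rw [funext hexp, e, e', mul_one, ← RingHom.mapMatrix_apply, ← RingHom.map_det, hσ]
    rfl
  have hd0 := ExtDet.dt_ne_zero B hli
  have hd' : ExtDet.dt B' (fun i => toGen (RefHull.ddual P) y
      (RefHull.stalkMapₗ (RefHull.bidualMap P) y (unit φf y F (c y i)))) ≠ 0 := by
    rw [hdt]; exact pow_ne_zero p hd0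
  refine ⟨?_, fun v => ?_, ?_⟩
  · have hu := Matrix.linearIndependent_rows_of_det_ne_zero hd'
    exact LinearIndependent.of_comp B'.equivFun.toLinearMap hu
  · obtain ⟨w, rfl⟩ := stalkMap_bidual_surjective hX hP y (dim_of_coheight hy).le v
    obtain ⟨a, rfl⟩ := exists_sum_unit φf F y (c y) (fun u => by
      obtain ⟨a, ha⟩ := hgen u
      refine ⟨a, hinj y (ha.trans ?_)⟩
      refine Eq.trans ?_ (map_sum (toGen F y) _ _).symm
      exact Finset.sum_congr rfl fun j _ => (toGen_smul y (a j) (c y j)).symm) w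
    refine ⟨a, ?_⟩
    rw [map_sum, map_sum]
    exact Finset.sum_congr rfl fun j _ =>
      (congrArg (toGen (RefHull.ddual P) y) (map_smul _ (a j) _)).trans (toGen_smul y _ _)
  · show (p : ℤ) * D y = _
    rw [hdt, FrobRef.ord_pow hd0 y p, hD]
    ring

/-- The determinant divisor of iterated reflexive Frobenius pull-backs. -/
theorem iterate (hX : Pi1.IsNormalScheme X) {E : X.Modules} (hE : Coh.IsCoh E)
    (hEr : RefHull.IsReflexive E) {r : ℕ} {D : X → ℤ} (h : HasDet E r D) (G : ℕ → X.Modules)
    (hG0 : G 0 = E)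
    (hG : ∀ m, Nonempty (G (m + 1) ≅ RefHull.ddual ((Scheme.Modules.pullback (FrobSch.frob X p)).obj (G m))))
    (m : ℕ) : Coh.IsCoh (G m) ∧ RefHull.IsReflexive (G m) ∧ HasDet (G m) r (fun y => (p : ℤ) ^ m * D y) := by
  induction m with
  | zero =>
    subst hG0
    exact ⟨hE, hEr, by simpa using h⟩
  | succ m ih =>
    obtain ⟨hC, hR, hD⟩ := ih
    have hP := Cyc.FP.Stalk.isCoh_pullback (FrobSch.frob X p) hC
    have hH := Reflexive.isCoh_ddual hP
    have hHR := Reflexive.isReflexive_dual (Reflexive.isCoh_dual hP)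
    have e := (hG m).some.symm
    have hC' : Coh.IsCoh (G (m + 1)) := CohBasics.Closure.isCoh_of_iso e hH
    refine ⟨hC', (Reflexive.isReflexive_iff_forall hC').mpr fun x => ?_, ?_⟩
    · haveI : Module.IsReflexive (X.presheaf.stalk x) _ :=
        (Reflexive.isReflexive_iff_forall hH).mp hHR x
      exact Module.equiv (R := X.presheaf.stalk x) (Modules.StalkModule.stalkLinearEquiv e x)
    · have h' := hasDet_iso e (frob_det p hX hC hR hD)
      convert h' using 1
      funext y
      rw [pow_succ]
      ring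

end Groth.Agent.H18.FrobDet
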