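import Groth.Agent.Lib.RefHull.DivRef
import Groth.Agent.Lib.RefHull.Tensor
import Groth.Agent.Lib.RefHull.Group
import Groth.Agent.Lib.Cyc.Gys.Closed
import Groth.Agent.Lib.Cyc.FP.Stalk
import Groth.Prelude.Def_Frob
import Groth.Prelude.Def_RefPow
import Mathlib.RingTheory.TensorProduct.Free

/-!
# Reflexive Frobenius pull-backs of rank one reflexive modules
-/

set_option linter.style.haveILetI false
set_option autoImplicit false

universe u

open CategoryTheory CategoryTheory.Limits AlgebraicGeometry TopologicalSpace Opposite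
open Groth.Agent.Lib Groth.Agent.Lib.RefHull Groth.Agent.Lib.RefHull.Generic
open Groth.Agent.Lib.RefHull.RankOne Groth.Agent.Lib.RefHull.Ord
open scoped TensorProduct

namespace Groth.Agent.H18.FrobRef

variable {X : Scheme.{u}}

/-- `M_{f x} → (f^* M)_x` as an additive map. -/
noncomputable def unit (f : X ⟶ X) (x : X) (M : X.Modules) :
    M.presheaf.stalk (f x) →+ ((Scheme.Modules.pullback f).obj M).presheaf.stalk x where
  toFun a := DerivedOX.PullbackStalk.pushStalkMap f x _
    (Modules.StalkModule.stalkMapₗ ((Scheme.Modules.pullbackPushforwardAdjunction f).unit.app M) (f x) a)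
  map_zero' := by rw [map_zero, map_zero]
  map_add' a b := by rw [map_add, map_add]

theorem unit_smul (f : X ⟶ X) (x : X) (M : X.Modules) (c : X.presheaf.stalk (f x))
    (a : M.presheaf.stalk (f x)) : unit f x M (c • a) = (f.stalkMap x).hom c • unit f x M a :=
  (congrArg (DerivedOX.PullbackStalk.pushStalkMap f x _) (map_smul _ c a)).trans
    (DerivedOX.PullbackStalk.pushStalkMap_smul f x _ c _)

theorem unit_specializes (f : X ⟶ X) (M : X.Modules) {ζ x : X} (h : ζ ⤳ x)
    (a : M.presheaf.stalk (f x)) :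
    ((Scheme.Modules.pullback f).obj M).presheaf.stalkSpecializes h (unit f x M a) =
      unit f ζ M (M.presheaf.stalkSpecializes (h.map f.continuous) a) :=
  Cyc.Gys.Closed.unitStalk_specializes f M h a

theorem span_unit (f : X ⟶ X) (M : X.Modules) (x : X) (a : M.presheaf.stalk (f x))
    (ha : Submodule.span (X.presheaf.stalk (f x)) {a} = ⊤) :
    Submodule.span (X.presheaf.stalk x)
      ({unit f x M a} : Set (((Scheme.Modules.pullback f).obj M).presheaf.stalk x)) = ⊤ :=
  Cyc.Gys.Closed.exists_gen_pullback f M x a ha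

/-- A basis vector stays nonzero after pull-back. -/
theorem unit_ne_zero (f : X ⟶ X) (M : X.Modules) (x : X) {a : M.presheaf.stalk (f x)}
    (c : M.presheaf.stalk (f x) →ₗ[X.presheaf.stalk (f x)] X.presheaf.stalk (f x)) (hc : c a = 1)
    [Nontrivial (X.presheaf.stalk x)] : unit f x M a ≠ 0 := by
  letI : Algebra (X.presheaf.stalk (f x)) (X.presheaf.stalk x) := (f.stalkMap x).hom.toAlgebra
  let e : (X.presheaf.stalk x ⊗[X.presheaf.stalk (f x)] M.presheaf.stalk (f x)) ≃ₗ[X.presheaf.stalk x]
      (((Scheme.Modules.pullback f).obj M).presheaf.stalk x) :=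
    (asIso ((DerivedOX.PullbackStalk.comparison f x).app M)).toLinearEquiv
  intro h
  have h1 : e ((1 : X.presheaf.stalk x) ⊗ₜ a) = 0 :=
    (DerivedOX.PullbackStalk.comparison_one_tmul f x M a).trans h
  have h2 : (1 : X.presheaf.stalk x) ⊗ₜ[X.presheaf.stalk (f x)] a = 0 :=
    e.injective (h1.trans (map_zero e).symm)
  have h3 := congrArg (TensorProduct.AlgebraTensorModule.rid (X.presheaf.stalk (f x))
    (X.presheaf.stalk x) (X.presheaf.stalk x) ∘ c.baseChange (X.presheaf.stalk x)) h2
  simp only [Function.comp_apply, LinearMap.baseChange_tmul, hc, map_zero,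
    TensorProduct.AlgebraTensorModule.rid_tmul, one_smul] at h3
  exact one_ne_zero h3

variable (p : ℕ) [Fact p.Prime] [FrobSch.IsCharP X p]

theorem frob_stalkMap (x : X) (a : X.presheaf.stalk x) :
    ((FrobSch.frob X p).stalkMap x).hom a = a ^ p := by
  obtain ⟨U, hx, r, rfl⟩ := TopCat.Presheaf.exists_germ_eq X.presheaf a
  refine (Scheme.Hom.germ_stalkMap_apply (FrobSch.frob X p) U x hx r).trans ?_
  rw [FrobSch.frob_app]
  exact map_pow (X.presheaf.germ U x hx).hom r p

variable [IsIntegral X] [IsLocallyNoetherian X] (hX : Pi1.IsNormalScheme X)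

theorem ord_pow {a : X.functionField} (ha : a ≠ 0) (y : X) : ∀ n : ℕ,
    Scheme.ord (a ^ n) y = n * Scheme.ord a y
  | 0 => by rw [pow_zero, Ord.ord_one]; simp
  | n + 1 => by
    rw [pow_succ, Scheme.ord_mul (pow_ne_zero n ha) ha, ord_pow ha y n]
    push_cast
    ring

include hX in
/-- The reflexive Frobenius pull-back is of rank one and multiplies the divisor by `p`. -/
theorem frob_spec {F : X.Modules} (hF : RefHull.IsRef1 F)
    {s : F.presheaf.stalk (genericPoint ↥X)} (hs : s ≠ 0) :
    RefHull.IsRef1 (RefHull.ddual ((Scheme.Modules.pullback (FrobSch.frob X p)).obj F)) ∧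
      ∃ t : (RefHull.ddual ((Scheme.Modules.pullback (FrobSch.frob X p)).obj F)).presheaf.stalk
          (genericPoint ↥X), t ≠ 0 ∧
        ∀ y : X, Order.coheight y = 1 →
          secOrd (RefHull.ddual ((Scheme.Modules.pullback (FrobSch.frob X p)).obj F)) t y =
            (p : ℤ) * secOrd F s y := by
  set φf := FrobSch.frob X p
  set P := (Scheme.Modules.pullback φf).obj F
  set β := RefHull.stalkMapₗ (RefHull.bidualMap P) (genericPoint ↥X)
  have hP : Coh.IsCoh P := Cyc.FP.Stalk.isCoh_pullback φf hF.1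
  have hH : Coh.IsCoh (RefHull.ddual P) := Reflexive.isCoh_ddual hP
  have hR : RefHull.IsReflexive (RefHull.ddual P) := Reflexive.isReflexive_dual (Reflexive.isCoh_dual hP)
  have hb : Function.Bijective β := stalkMap_bidual_bijective_genericPoint hP
  choose c hc using span_of_ne_zero hF.2.2 hs
  have kc : ∀ w a, a • s = w → c w = a := fun w a h =>
    smul_left_injective' hF.2.2 hs ((hc w).trans h.symm)
  let cl : F.presheaf.stalk (genericPoint ↥X) →ₗ[X.presheaf.stalk (genericPoint ↥X)]
      X.presheaf.stalk (genericPoint ↥X) :=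
    { toFun := c
      map_add' := fun a b => kc _ _ (by rw [add_smul, hc, hc])
      map_smul' := fun r a => kc _ _ (by rw [RingHom.id_apply, smul_eq_mul, mul_smul, hc]) }
  have hu0 : unit φf (genericPoint ↥X) F s ≠ 0 :=
    unit_ne_zero φf F (genericPoint ↥X) cl (kc s 1 (one_smul _ _))
  have hspanη : Submodule.span (X.presheaf.stalk (genericPoint ↥X)) {s} = ⊤ :=
    eq_top_iff.mpr fun w _ => Submodule.mem_span_singleton.mpr ⟨c w, hc w⟩
  set t := β (unit φf (genericPoint ↥X) F s)
  have ht : t ≠ 0 := fun h => hu0 (hb.1 (h.trans (map_zero _).symm))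
  have hg : RefHull.GenInvertible (RefHull.ddual P) :=
    Tensor.genInvertible_of_basis hH (toGen_injective_of_isReflexive hH hR) ht fun v => by
      obtain ⟨v', rfl⟩ := hb.2 v
      obtain ⟨r, rfl⟩ := Submodule.mem_span_singleton.1
        (show v' ∈ Submodule.span (X.presheaf.stalk (genericPoint ↥X)) {unit φf (genericPoint ↥X) F s} by
          rw [span_unit φf F (genericPoint ↥X) s hspanη]; trivial)
      exact ⟨r, (map_smul β r _).symm⟩
  refine ⟨⟨hH, hR, hg⟩, t, ht, fun y hy => ?_⟩
  obtain ⟨a, ha, ha0⟩ := exists_generator hX hy hF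
  obtain ⟨φ, hφ⟩ := span_of_ne_zero hF.2.2 ha0 s
  have hφ0 : φ ≠ 0 := fun h => hs (by rw [← hφ, h, zero_smul])
  have hspan : Submodule.span (X.presheaf.stalk y)
      {RefHull.stalkMapₗ (RefHull.bidualMap P) y (unit φf y F a)} = ⊤ := by
    rw [← Set.image_singleton, Submodule.span_image, span_unit φf F y a ha, Submodule.map_top,
      LinearMap.range_eq_top]
    exact stalkMap_bidual_surjective hX hP y (dim_of_coheight hy).le
  rw [secOrd_eq hX hy hF.2.2 ha hs hφ, secOrd_eq hX hy hg hspan ht (φ := φ ^ p) ?_, ord_pow hφ0 y p]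
  rw [toGen_stalkMap]
  refine (map_smul β _ _).symm.trans ?_
  show β _ = β _
  congr 1
  refine Eq.trans ?_ (congrArg (unit φf (genericPoint ↥X) F) hφ)
  refine Eq.trans ?_ (unit_smul φf (genericPoint ↥X) F φ (toGen F y a)).symm
  exact (congrArg (fun z => φ ^ p • z) (unit_specializes φf F (spec y) a)).trans
    (congrArg (fun r => r • unit φf (genericPoint ↥X) F (toGen F y a))
      (frob_stalkMap p (genericPoint ↥X) φ).symm)

include hX in
/-- Rank one reflexive modules with their divisors are invariant under isomorphisms. -/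
theorem of_iso {F G : X.Modules} (e : F ≅ G) (hF : RefHull.IsRef1 F)
    {s : F.presheaf.stalk (genericPoint ↥X)} (hs : s ≠ 0) :
    RefHull.IsRef1 G ∧ ∃ t : G.presheaf.stalk (genericPoint ↥X), t ≠ 0 ∧
      ∀ y : X, Order.coheight y = 1 → secOrd G t y = secOrd F s y := by
  have hG : Coh.IsCoh G := CohBasics.Closure.isCoh_of_iso e hF.1
  have hR : RefHull.IsReflexive G := (Reflexive.isReflexive_iff_forall hG).mpr fun x => by
    haveI : Module.IsReflexive (X.presheaf.stalk x) (F.presheaf.stalk x) :=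
      (Reflexive.isReflexive_iff_forall hF.1).mp hF.2.1 x
    exact Module.equiv (R := X.presheaf.stalk x) (Modules.StalkModule.stalkLinearEquiv e x)
  let l := Modules.StalkModule.stalkLinearEquiv e (genericPoint ↥X)
  have ht : l s ≠ 0 := fun h => hs (l.injective (h.trans (map_zero l).symm))
  have hg : RefHull.GenInvertible G :=
    Tensor.genInvertible_of_basis hG (toGen_injective_of_isReflexive hG hR) ht fun v => by
      obtain ⟨r, hr⟩ := span_of_ne_zero hF.2.2 hs (l.symm v)
      exact ⟨r, by rw [show r • l s = l (r • s) from (map_smul l r s).symm, hr, l.apply_symm_apply]⟩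
  exact ⟨⟨hG, hR, hg⟩, l s, ht, fun y hy => Divisor.secOrd_iso hX hF ⟨hG, hR, hg⟩ e hy hs⟩

include hX in
/-- The divisor of a reflexive power. -/
theorem refPow_spec {F : X.Modules} (hF : RefHull.IsRef1 F)
    {s : F.presheaf.stalk (genericPoint ↥X)} (hs : s ≠ 0) : ∀ m : ℕ,
    RefHull.IsRef1 (RefPow.refPow F m) ∧ ∃ t : (RefPow.refPow F m).presheaf.stalk (genericPoint ↥X),
      t ≠ 0 ∧ ∀ y : X, Order.coheight y = 1 → secOrd (RefPow.refPow F m) t y = (m : ℤ) * secOrd F s y
  | 0 => by
    obtain ⟨o, ho, ho'⟩ := Group.one_section hX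
    exact ⟨Group.isRef1_structure, o, ho, fun y hy => by rw [Nat.cast_zero, zero_mul]; exact ho' y hy⟩
  | 1 => ⟨hF, s, hs, fun y _ => by rw [Nat.cast_one, one_mul]; rfl⟩
  | m + 2 => by
    obtain ⟨hT, t, ht, ht'⟩ := refPow_spec hF hs (m + 1)
    obtain ⟨hR, hw, hR'⟩ := DivRef.refTensor_spec hX hT hF ht hs
    refine ⟨hR, _, hw, fun y hy => (hR' y hy).trans ?_⟩
    rw [ht' y hy]
    push_cast
    ring

include hX in
/-- Iterated reflexive Frobenius pull-backs are reflexive powers. -/
theorem exists_iso_refPow {F : X.Modules} (hF : RefHull.IsRef1 F) (G : ℕ → X.Modules) (hG0 : G 0 = F)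
    (hG : ∀ m, Nonempty (G (m + 1) ≅ RefHull.ddual ((Scheme.Modules.pullback (FrobSch.frob X p)).obj (G m))))
    (m : ℕ) : Nonempty (G m ≅ RefPow.refPow F (p ^ m)) := by
  obtain ⟨s, hs, -⟩ := exists_basis_generic hF.2.2
  have key : ∀ m, RefHull.IsRef1 (G m) ∧ ∃ t : (G m).presheaf.stalk (genericPoint ↥X), t ≠ 0 ∧
      ∀ y : X, Order.coheight y = 1 → secOrd (G m) t y = (p : ℤ) ^ m * secOrd F s y := by
    intro m
    induction m with
    | zero =>
      subst hG0
      exact ⟨hF, s, hs, fun y _ => by rw [pow_zero, one_mul]⟩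
    | succ m ih =>
      obtain ⟨hm, t, ht, ht'⟩ := ih
      obtain ⟨hP, w, hw, hw'⟩ := frob_spec p hX hm ht
      obtain ⟨h1, v, hv, hv'⟩ := of_iso hX (hG m).some.symm hP hw
      refine ⟨h1, v, hv, fun y hy => ?_⟩
      rw [hv' y hy, hw' y hy, ht' y hy, pow_succ]
      ring
  obtain ⟨h1, t, ht, ht'⟩ := key m
  obtain ⟨h2, w, hw, hw'⟩ := refPow_spec hX hF hs (p ^ m)
  obtain ⟨e, -⟩ := Divisor.exists_iso hX h1 h2 ht hw fun y hy => by
    rw [ht' y hy, hw' y hy]
    push_cast
    rfl
  exact ⟨e⟩

end Groth.Agent.H18.FrobRef
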