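import Groth.Agent.H18.SerreCrit
import Groth.Agent.Lib.Depth.Ext

/-!
Associated primes under S₁; minimal primes components and depth.
-/

set_option autoImplicit false

universe u

open LocCoh IsLocalRing Pointwise RingTheory.Sequence
open Groth.Agent.Lib.Depth Groth.Agent.H18.SerreCrit

namespace Groth.Agent.H18.Hartshorne

variable {R : Type u} [CommRing R] [IsNoetherianRing R]

theorem height_eq_zero_of_associated (hS : HasSk 1 R R) {P : Ideal R}
    (hP : IsAssociatedPrime P R) : P ∈ minimalPrimes R := by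
  have := IsAssociatedPrime.isPrime hP
  have hassP := Module.associatedPrimes.mem_associatedPrimes_atPrime_of_mem_associatedPrimes hP
  have hdepth : depth (Localization.AtPrime P) (Localization.AtPrime P) = 0 := by
    rw [← depth_localized_self]
    have : Nontrivial (LocalizedModule P.primeCompl R) :=
      inferInstanceAs (Nontrivial (Localization.AtPrime P))
    exact (Assoc.depth_eq_zero_iff _).mpr hassP
  have hdim : ringKrullDim (Localization.AtPrime P) ≤ ((0 : ℕ) : WithBot ℕ∞) := by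
    by_contra hc
    have := (hasSk_iff 1 R).mp hS P inferInstance 1 le_rfl (succ_le_of_not_le 0 hc)
    rw [hdepth] at this
    simp at this
  rw [IsLocalization.AtPrime.ringKrullDim_eq_height P] at hdim
  exact Ideal.height_eq_zero_iff.mp (le_antisymm (WithBot.coe_le_coe.mp hdim) bot_le)

/-- Under `S₁` an element killed off each minimal prime vanishes. -/
theorem eq_zero_of_killed (hS : HasSk 1 R R) {x : R}
    (h : ∀ p ∈ minimalPrimes R, ∃ s : R, s ∉ p ∧ s * x = 0) : x = 0 := by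
  by_contra hx0
  obtain ⟨P, hP, hle⟩ := exists_le_isAssociatedPrime_of_isNoetherianRing R x hx0
  obtain ⟨s, hs, hsx⟩ := h P (height_eq_zero_of_associated hS hP)
  exact hs (hle (by simpa [Submodule.mem_colon_singleton] using hsx))

/-- An element of a minimal prime becomes nilpotent in the localization. -/
theorem exists_mul_pow_eq_zero {p : Ideal R} (hp : p ∈ minimalPrimes R) {x : R} (hx : x ∈ p) :
    ∃ s : R, s ∉ p ∧ ∃ n : ℕ, s * x ^ n = 0 := by
  have := hp.1.1
  let A := Localization.AtPrime p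
  have hn : IsNilpotent (algebraMap R A x) := by
    rw [← mem_nilradical, nilradical_eq_sInf, Ideal.mem_sInf]
    intro Q (hQ : Q.IsPrime)
    have hle : Q.comap (algebraMap R A) ≤ p := fun c hc => by
      by_contra hcp
      exact hQ.ne_top (Q.eq_top_of_isUnit_mem hc
        (IsLocalization.map_units A (⟨c, hcp⟩ : p.primeCompl)))
    exact hp.2 ⟨Ideal.IsPrime.comap _, bot_le⟩ hle hx
  obtain ⟨n, hn⟩ := hn
  rw [← map_pow] at hn
  obtain ⟨⟨s, hs⟩, hs0⟩ := (IsLocalization.map_eq_zero_iff p.primeCompl A _).mp hn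
  exact ⟨s, hs, n, hs0⟩

omit [IsNoetherianRing R] in
/-- Elements killed locally at given minimal primes, outside a prime not containing them. -/
theorem exists_mem_notMem (P2 : Finset (Ideal R)) (hP2 : ∀ p ∈ P2, ∀ x ∈ p, ∃ s : R, s ∉ p ∧ ∃ n : ℕ, s * x ^ n = 0)
    (Q : Ideal R) [Q.IsPrime] (h : ∀ p ∈ P2, ¬ p ≤ Q) :
    ∃ z : R, z ∉ Q ∧ ∀ p ∈ P2, ∃ s : R, s ∉ p ∧ s * z = 0 := by
  classical
  have : ∀ p ∈ P2, ∃ t : R, t ∈ p ∧ t ∉ Q := fun p hp => Set.not_subset.mp (h p hp)
  choose! t ht htQ using this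
  let T := ∏ p ∈ P2, t p
  have hTQ : T ∉ Q := fun hc => by
    obtain ⟨p, hp, hpQ⟩ := (Ideal.IsPrime.prod_mem_iff).mp hc
    exact htQ p hp hpQ
  have hTp : ∀ p ∈ P2, T ∈ p := fun p hp =>
    p.mem_of_dvd (Finset.dvd_prod_of_mem t hp) (ht p hp)
  choose! s hs n hn using fun p hp => hP2 p hp T (hTp p hp)
  refine ⟨T ^ (∑ p ∈ P2, n p), fun hc => hTQ (‹Q.IsPrime›.mem_of_pow_mem _ hc),
    fun p hp => ⟨s p, hs p hp, ?_⟩⟩
  obtain ⟨k, hk⟩ := Nat.exists_eq_add_of_le (Finset.single_le_sum (f := n) (fun _ _ => Nat.zero_le _) hp)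
  rw [hk, pow_add, ← mul_assoc, hn p hp, zero_mul]

/-- If two ideals with zero intersection are nonzero and sum to a primary ideal of the maximal one,
the depth is at most one. -/
theorem depth_le_one {A : Type u} [CommRing A] [IsLocalRing A] [IsNoetherianRing A] (a b : Ideal A)
    (hab : a ⊓ b = ⊥) (ha : a ≠ ⊥) (hb : b ≠ ⊥) (ha' : a ≠ ⊤) (hb' : b ≠ ⊤)
    (hrad : (a ⊔ b).radical = maximalIdeal A) : depth A A ≤ 1 := by
  by_contra hd
  have htop : (a ⊔ b) ≠ ⊤ := fun h => Ideal.IsPrime.ne_top' (I := maximalIdeal A)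
    (by rw [← hrad, h, Ideal.radical_top])
  have h2 : ((2 : ℕ) : ℕ∞) ≤ idealDepth (a ⊔ b) A := by
    rw [← Ext.idealDepth_radical_eq (I := a ⊔ b) (M := A) (J := maximalIdeal A)
      (by rw [hrad]; exact (maximalIdeal.isMaximal A).isPrime.radical)]
    change _ ≤ depth A A
    have h3 := ENat.add_one_le_iff (m := 1) ENat.one_ne_top |>.mpr (not_le.mp hd)
    simpa [one_add_one_eq_two] using h3
  obtain ⟨rs, hlen, hmem, hreg⟩ :=
    (Basic.le_idealDepth_iff_of_ne_top (Basic.smul_top_ne_top htop) 2).mp h2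
  match rs, hlen with
  | [f, g], _ =>
    rw [isWeaklyRegular_cons_iff, isWeaklyRegular_singleton_iff] at hreg
    obtain ⟨hf, hg⟩ := hreg
    have hmul : ∀ x ∈ a, ∀ y ∈ b, x * y = 0 := fun x hx y hy => by
      have : x * y ∈ a ⊓ b := ⟨a.mul_mem_right y hx, b.mul_mem_left x hy⟩
      rwa [hab] at this
    obtain ⟨a1, ha1, b1, hb1, hf'⟩ := Submodule.mem_sup.mp (hmem f (by simp))
    obtain ⟨a2, ha2, b2, hb2, hg'⟩ := Submodule.mem_sup.mp (hmem g (by simp))
    have hq : g • (Submodule.Quotient.mk a1 : QuotSMulTop f A) = g • 0 := by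
      rw [smul_zero, ← Submodule.Quotient.mk_smul, Submodule.Quotient.mk_eq_zero,
        Submodule.mem_smul_pointwise_iff_exists]
      refine ⟨a2, trivial, ?_⟩
      simp only [smul_eq_mul, ← hf', ← hg']
      linear_combination hmul a2 ha2 b1 hb1 - hmul a1 ha1 b2 hb2
    obtain ⟨c, -, hc⟩ := (Submodule.mem_smul_pointwise_iff_exists _ _ _).mp
      ((Submodule.Quotient.mk_eq_zero _).mp (hg hq))
    rw [smul_eq_mul, ← hf'] at hc
    have h0 : (1 - c) * a1 = 0 ∧ c * b1 = 0 := by
      have he : (1 - c) * a1 = c * b1 := by linear_combination -hc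
      have h1 : (1 - c) * a1 ∈ a ⊓ b := ⟨a.mul_mem_left _ ha1, he ▸ b.mul_mem_left _ hb1⟩
      rw [hab, Ideal.mem_bot] at h1
      exact ⟨h1, he ▸ h1⟩
    rcases IsLocalRing.isUnit_or_isUnit_one_sub_self c with hu | hu
    · obtain ⟨z, hz, hz0⟩ := (Submodule.ne_bot_iff b).mp hb
      refine hz0 (hf (show f * z = f * 0 from ?_))
      rw [mul_zero, ← hf', hu.mul_right_eq_zero.mp h0.2, add_zero, hmul a1 ha1 z hz]
    · obtain ⟨z, hz, hz0⟩ := (Submodule.ne_bot_iff a).mp ha
      refine hz0 (hf (show f * z = f * 0 from ?_))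
      rw [mul_zero, ← hf', hu.mul_right_eq_zero.mp h0.1, zero_add, mul_comm, hmul z hz b1 hb1]

end Groth.Agent.H18.Hartshorne
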