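import Groth.Agent.H18.RefK0
import Groth.Agent.Lib.Snapper.IntNum

/-!
# Iterated differences by invertible modules on `K₀(Coh_{≤ k})`
-/

set_option linter.style.haveILetI false
set_option autoImplicit false

universe u

open CategoryTheory CategoryTheory.Limits AlgebraicGeometry TopologicalSpace Opposite
open Groth.Agent.Lib Groth.Agent.Lib.TensorMod.Basic
open Groth.Agent.Lib.Cyc.K0.Cycles

namespace Groth.Agent.H18.K0Diff

variable {X : Scheme.{u}} {δ : X → ℤ} {k : ℤ}

local notation "K₀" => KZero.K0sub (_root_.Cyc.CohLe δ k)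
local notation "cl" => KZero.clSub (_root_.Cyc.CohLe δ k)

theorem cl_iso {F G : X.Modules} (e : F ≅ G) (hX : IsLocallyNoetherian X) :
    cl F = cl G := by
  classical
  have hiff : ∀ {F G : X.Modules}, (F ≅ G) → _root_.Cyc.CohLe δ k F → _root_.Cyc.CohLe δ k G :=
    fun {F G} e h => cohLe_of_epi e.hom (CohBasics.Closure.isCoh_of_iso e h.1) h
  by_cases hF : _root_.Cyc.CohLe δ k F
  · obtain ⟨Z, hZ⟩ : ∃ Z : X.Modules, IsZero Z := ⟨_, isZero_cokernel_of_epi (𝟙 F)⟩
    have hZ' : _root_.Cyc.CohLe δ k Z :=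
      ⟨KRes.CohP.isCoh_of_isZero X hZ, fun x hx => absurd hx (by
        rw [not_nontrivial_iff_subsingleton]
        exact AddCommGrpCat.subsingleton_of_isZero ((Modules.Stalk.stalkFunctor X x).map_isZero hZ))⟩
    have h := KRes.KSub.rel (P := _root_.Cyc.CohLe δ k) (KRes.KSub.shortExact_iso e hZ) hF (hiff e hF) hZ'
    dsimp only at h
    rw [KRes.KSub.clSub_zero hZ hZ', add_zero] at h
    exact h.symm
  · rw [KZero.clSub, KZero.clSub, dif_neg hF, dif_neg fun h => hF (hiff e.symm h)]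

/-- Classes of modules of dimension at most `j`. -/
noncomputable def filt (δ : X → ℤ) (k j : ℤ) : AddSubgroup (KZero.K0sub (_root_.Cyc.CohLe δ k)) :=
  AddSubgroup.closure {c | ∃ F : X.Modules, _root_.Cyc.CohLe δ j F ∧ c = KZero.clSub (_root_.Cyc.CohLe δ k) F}

theorem mem_filt {j : ℤ} {x : K₀} :
    x ∈ filt δ k j ↔
      (QuotientAddGroup.mk x : _root_.Cyc.K0CohQuot δ k j) = 0 :=
  (QuotientAddGroup.eq_zero_iff x).symm

variable [IsLocallyNoetherian X]

theorem cohLe_twist {M F : X.Modules} (hM : PicF.IsInvertible M) {j : ℤ}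
    (hF : _root_.Cyc.CohLe δ j F) : _root_.Cyc.CohLe δ j (CohB1.tensorMod M F) :=
  ⟨Snapper.Twist.isCoh_twist hM hF.1, fun x hx => hF.2 x (by
    have h : x ∈ CohB1.support (CohB1.tensorMod M F) := not_subsingleton_iff_nontrivial.2 hx
    rw [Snapper.Twist.support_twist hM] at h
    exact not_subsingleton_iff_nontrivial.1 h)⟩

/-- Tensoring by an invertible module. -/
noncomputable def twistHom (δ : X → ℤ) (k : ℤ) {M : X.Modules} (hM : PicF.IsInvertible M) :
    KZero.K0sub (_root_.Cyc.CohLe δ k) →+ KZero.K0sub (_root_.Cyc.CohLe δ k) :=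
  KRes.KSub.lift (fun F => KZero.clSub (_root_.Cyc.CohLe δ k) (CohB1.tensorMod M F)) fun _ hS h₁ h₂ h₃ =>
    KRes.KSub.rel (Snapper.Twist.twistSeq_shortExact hM hS) (cohLe_twist hM h₁) (cohLe_twist hM h₂)
      (cohLe_twist hM h₃)

theorem twistHom_cl {M F : X.Modules} (hM : PicF.IsInvertible M) (hF : _root_.Cyc.CohLe δ k F) :
    twistHom δ k hM (cl F) = cl (CohB1.tensorMod M F) := KRes.KSub.lift_cl _ _ hF

/-- The difference operator of an invertible module. -/
noncomputable def diff (δ : X → ℤ) (k : ℤ) {M : X.Modules} (hM : PicF.IsInvertible M) :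
    KZero.K0sub (_root_.Cyc.CohLe δ k) →+ KZero.K0sub (_root_.Cyc.CohLe δ k) :=
  AddMonoidHom.id _ - twistHom δ k hM

theorem diff_cl {M F : X.Modules} (hM : PicF.IsInvertible M) (hF : _root_.Cyc.CohLe δ k F) :
    diff δ k hM (cl F) = cl F - cl (CohB1.tensorMod M F) := by
  rw [diff, AddMonoidHom.sub_apply, AddMonoidHom.id_apply, twistHom_cl hM hF]

/-- A difference operator lowers the dimension by one. -/
theorem diff_mem (hδ : _root_.Cyc.IsDimFun X δ) {M : X.Modules} (hM : PicF.IsInvertible M) {j : ℤ}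
    (hj : j ≤ k) {x : K₀} (hx : x ∈ filt δ k j) : diff δ k hM x ∈ filt δ k (j - 1) := by
  refine (AddSubgroup.closure_le ((filt δ k (j - 1)).comap (diff δ k hM))).2 ?_ hx
  rintro c ⟨F, hF, rfl⟩
  have hFk : _root_.Cyc.CohLe δ k F := ⟨hF.1, fun y hy => (hF.2 y hy).trans hj⟩
  have hMF := cohLe_twist hM hF
  have hMFk : _root_.Cyc.CohLe δ k (CohB1.tensorMod M F) := cohLe_twist hM hFk
  rw [SetLike.mem_coe, AddSubgroup.mem_comap, diff_cl hM hFk, mem_filt, QuotientAddGroup.mk_sub, sub_eq_zero]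
  have hff : _root_.Cyc.sheafFun δ j (CohB1.tensorMod M F) = _root_.Cyc.sheafFun δ j F := by
    funext y
    simp only [_root_.Cyc.sheafFun, Snapper.Twist.length_twist hM]
  have e : _root_.Cyc.toK0CohQuot δ j (j - 1) F = _root_.Cyc.toK0CohQuot δ j (j - 1) (CohB1.tensorMod M F) := by
    rw [cl_eq_cycleSheaf j hδ hF, cl_eq_cycleSheaf j hδ hMF, hff]
  have e' := congrArg (RefK0.incl δ (a' := k) (j - 1) hj) e
  rwa [RefK0.incl_cl δ _ _ hF, RefK0.incl_cl δ _ _ hMF] at e'

/-- The alternating sum over the subfamilies of `M`. -/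
noncomputable def alt (δ : X → ℤ) (k : ℤ) {r : ℕ} (M : Fin r → X.Modules) (F : X.Modules) :
    KZero.K0sub (_root_.Cyc.CohLe δ k) :=
  ∑ I : Finset (Fin r), ((-1 : ℤ) ^ I.card) •
    KZero.clSub (_root_.Cyc.CohLe δ k) (CohB1.tensorMod (FGA.tensorList ((I.sort (· ≤ ·)).map M)) F)

theorem alt_eq_toList {r : ℕ} (M : Fin r → X.Modules) (F : X.Modules) :
    alt δ k M F = ∑ I : Finset (Fin r), ((-1 : ℤ) ^ I.card) •
      cl (CohB1.tensorMod (FGA.tensorList (I.toList.map M)) F) :=
  Finset.sum_congr rfl fun I _ => by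
    rw [cl_iso (tensorIso (Snapper.IntNum.tensorList_perm ((I.sort_perm_toList (· ≤ ·)).map M)).some
      (Iso.refl F)) ‹_›]

theorem alt_cons {r : ℕ} (M₀ : X.Modules) (M : Fin r → X.Modules) (F : X.Modules) :
    alt δ k (Fin.cons M₀ M : Fin (r + 1) → X.Modules) F =
      alt δ k M F - alt δ k M (CohB1.tensorMod M₀ F) := by
  classical
  simp only [alt_eq_toList]
  let f : Finset (Fin (r + 1)) → K₀ := fun I => ((-1 : ℤ) ^ I.card) •
    cl (CohB1.tensorMod
      (FGA.tensorList (I.toList.map (Fin.cons M₀ M : Fin (r + 1) → X.Modules))) F)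
  change ∑ I, f I = _
  let s : Finset (Fin (r + 1)) := Finset.univ.map (Fin.succEmb r)
  have h0 : (0 : Fin (r + 1)) ∉ s := by simp [s, Fin.succ_ne_zero]
  have hu : (Finset.univ : Finset (Fin (r + 1))) = insert 0 s := by
    ext i
    cases i using Fin.cases <;> simp [s]
  rw [show (Finset.univ : Finset (Finset (Fin (r + 1)))) = (insert 0 s).powerset by
    rw [← hu, Finset.powerset_univ], Finset.sum_powerset_insert h0]
  have himg : s.powerset = (Finset.univ : Finset (Finset (Fin r))).map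
      (Finset.mapEmbedding (Fin.succEmb r)).toEmbedding := by
    ext J
    simp only [Finset.mem_powerset, Finset.mem_map, Finset.mem_univ, true_and, s,
      Finset.subset_map_iff]
    constructor
    · rintro ⟨I, -, rfl⟩; exact ⟨I, rfl⟩
    · rintro ⟨I, rfl⟩; exact ⟨I, Finset.subset_univ _, rfl⟩
  rw [himg, Finset.sum_map, Finset.sum_map, ← Finset.sum_sub_distrib, ← Finset.sum_add_distrib]
  refine Finset.sum_congr rfl fun I _ => ?_
  simp only [RelEmbedding.coe_toEmbedding, Finset.mapEmbedding_apply, f]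
  have hni : (0 : Fin (r + 1)) ∉ I.map (Fin.succEmb r) := by simp [Fin.succ_ne_zero]
  have p₁ : (I.map (Fin.succEmb r)).toList.Perm (I.toList.map Fin.succ) :=
    (List.perm_ext_iff_of_nodup (Finset.nodup_toList _)
      (I.nodup_toList.map (Fin.succ_injective r))).2 fun i => by simp
  have p₂ : (insert 0 (I.map (Fin.succEmb r))).toList.Perm (0 :: I.toList.map Fin.succ) :=
    (Finset.toList_insert hni).trans (p₁.cons 0)
  have hcomp : (Fin.cons M₀ M : Fin (r + 1) → X.Modules) ∘ Fin.succ = M := by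
    funext i; simp
  have q₁ := Snapper.IntNum.tensorList_perm (p₁.map (Fin.cons M₀ M : Fin (r + 1) → X.Modules))
  have q₂ := Snapper.IntNum.tensorList_perm (p₂.map (Fin.cons M₀ M : Fin (r + 1) → X.Modules))
  rw [cl_iso (tensorIso q₁.some (Iso.refl F)) ‹_›, cl_iso (tensorIso q₂.some (Iso.refl F)) ‹_›,
    Finset.card_map, Finset.card_insert_of_notMem hni, Finset.card_map]
  simp only [List.map_cons, List.map_map, hcomp, Fin.cons_zero, FGA.tensorList]
  have e : CohB1.tensorMod (CohB1.tensorMod M₀ (FGA.tensorList (I.toList.map M))) F ≅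
      CohB1.tensorMod (FGA.tensorList (I.toList.map M)) (CohB1.tensorMod M₀ F) :=
    tensorIso (comm M₀ _) (Iso.refl F) ≪≫ assoc _ _ _
  rw [cl_iso e ‹_›, pow_succ, mul_neg_one, neg_smul, sub_eq_add_neg]

theorem alt_zero (M : Fin 0 → X.Modules) (F : X.Modules) : alt δ k M F = cl F := by
  unfold alt
  rw [Fintype.sum_eq_single (∅ : Finset (Fin 0)) fun I hI => absurd (Subsingleton.elim I ∅) hI]
  simp only [Finset.card_empty, pow_zero, one_smul, Finset.sort_empty, List.map_nil, FGA.tensorList]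
  exact cl_iso (leftUnit F) ‹_›

/-- The composite of the difference operators of a family. -/
noncomputable def diffs (δ : X → ℤ) (k : ℤ) : {r : ℕ} → (M : Fin r → X.Modules) →
    (∀ i, PicF.IsInvertible (M i)) →
    (KZero.K0sub (_root_.Cyc.CohLe δ k) →+ KZero.K0sub (_root_.Cyc.CohLe δ k))
  | 0, _, _ => AddMonoidHom.id _
  | _ + 1, M, hM => (diffs δ k (Fin.tail M) fun i => hM i.succ).comp (diff δ k (hM 0))

theorem alt_eq_diffs : ∀ {r : ℕ} (M : Fin r → X.Modules) (hM : ∀ i, PicF.IsInvertible (M i))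
    {F : X.Modules}, _root_.Cyc.CohLe δ k F → alt δ k M F = diffs δ k M hM (cl F)
  | 0, M, hM, F, hF => by rw [alt_zero]; rfl
  | r + 1, M, hM, F, hF => by
    conv_lhs => rw [← Fin.cons_self_tail M]
    rw [alt_cons, alt_eq_diffs (Fin.tail M) (fun i => hM i.succ) hF,
      alt_eq_diffs (Fin.tail M) (fun i => hM i.succ) (cohLe_twist (hM 0) hF), diffs,
      AddMonoidHom.comp_apply, diff_cl (hM 0) hF, map_sub]

theorem diffs_mem (hδ : _root_.Cyc.IsDimFun X δ) : ∀ {r : ℕ} (M : Fin r → X.Modules)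
    (hM : ∀ i, PicF.IsInvertible (M i)) {j : ℤ}, j ≤ k → ∀ {x : K₀}, x ∈ filt δ k j →
      diffs δ k M hM x ∈ filt δ k (j - r)
  | 0, M, hM, j, hj, x, hx => by simpa [diffs] using hx
  | r + 1, M, hM, j, hj, x, hx => by
    rw [diffs, AddMonoidHom.comp_apply]
    have h := diffs_mem hδ (Fin.tail M) (fun i => hM i.succ) (j := j - 1) (by omega)
      (diff_mem hδ (hM 0) hj hx)
    rw [show j - 1 - (r : ℤ) = j - ((r + 1 : ℕ) : ℤ) by push_cast; ring] at h
    exact h

omit [IsLocallyNoetherian X] in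
theorem eq_zero_of_mem_filt {j : ℤ} (h : ∀ x : X, j < δ x) {x : K₀} (hx : x ∈ filt δ k j) : x = 0 := by
  refine (AddSubgroup.closure_le (⊥ : AddSubgroup K₀)).2 ?_ hx
  rintro c ⟨F, hF, rfl⟩
  have hz : IsZero F := (Modules.Support.support_eq_empty_iff).1 <| Set.eq_empty_of_forall_notMem
    fun y hy => absurd (hF.2 y (not_subsingleton_iff_nontrivial.1 hy)) (not_le.2 (h y))
  show cl F = 0
  by_cases hF' : _root_.Cyc.CohLe δ k F
  · exact KRes.KSub.clSub_zero hz hF'
  · rw [KZero.clSub, dif_neg hF']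

theorem diff_tensor {A B C : X.Modules} (hA : PicF.IsInvertible A) (hB : PicF.IsInvertible B)
    (hC : PicF.IsInvertible C) (e : C ≅ CohB1.tensorMod A B) (x : K₀) :
    diff δ k hC x = diff δ k hA x + diff δ k hB x - diff δ k hA (diff δ k hB x) := by
  suffices diff δ k hC = diff δ k hA + diff δ k hB - (diff δ k hA).comp (diff δ k hB) by
    exact DFunLike.congr_fun this x
  refine KRes.KSub.hom_ext fun F hF => ?_
  rw [AddMonoidHom.sub_apply, AddMonoidHom.add_apply, AddMonoidHom.comp_apply, diff_cl hC hF,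
    diff_cl hA hF, diff_cl hB hF, map_sub, diff_cl hA hF, diff_cl hA (cohLe_twist hB hF),
    cl_iso (tensorIso e (Iso.refl F) ≪≫ assoc A B F) ‹_›]
  abel

theorem nonneg_of_setup [IrreducibleSpace X] (hδ : _root_.Cyc.IsDimFun X δ) {d : ℕ}
    (hd : topologicalKrullDim X ≤ d) (hη : δ (genericPoint X) = d) (x : X) : 0 ≤ δ x := by
  have h1 := Cyc.DimFun.ringKrullDim_stalk hδ x
  rw [ringKrullDim_stalk_eq_coheight, hη] at h1
  have h2 : (Order.coheight x : WithBot ℕ∞) ≤ Order.krullDim X := Order.coheight_le_krullDim x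
  have h3 : Order.krullDim X = topologicalKrullDim X :=
    (Order.krullDim_eq_of_orderIso (irreducibleSetEquivPoints (α := X))).symm
  have h4 := (h2.trans h3.le).trans hd
  rw [h1] at h4
  have h5 : ((d : ℤ) - δ x).toNat ≤ d := by exact_mod_cast h4
  have := Cyc.DimFun.le_of_specializes hδ (genericPoint_specializes x)
  omega

end Groth.Agent.H18.K0Diff
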