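import Groth.Prelude.Def_Found
import Mathlib.RingTheory.Localization.Integral
import Mathlib.RingTheory.Localization.FractionRing
import Mathlib.RingTheory.Localization.LocalizationLocalization

/-!
Elementary permanence properties of N-1 domains.
-/

set_option autoImplicit false

universe u

open scoped nonZeroDivisors

namespace Groth.Agent.H18.N1

/-- N-1 can be computed in any fraction field. -/
theorem finite_integralClosure_of_isN1 {R : Type u} [CommRing R] [IsDomain R] (h : CAlg.IsN1 R)
    (K : Type u) [Field K] [Algebra R K] [IsFractionRing R K] :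
    Module.Finite R (integralClosure R K) := by
  have : Module.Finite R (integralClosure R (FractionRing R)) := h
  exact Module.Finite.equiv (FractionRing.algEquiv R K).mapIntegralClosure.toLinearEquiv

theorem isN1_of_finite {R : Type u} [CommRing R] [IsDomain R] (K : Type u) [Field K] [Algebra R K]
    [IsFractionRing R K] (h : Module.Finite R (integralClosure R K)) : CAlg.IsN1 R :=
  Module.Finite.equiv (FractionRing.algEquiv R K).symm.mapIntegralClosure.toLinearEquiv

theorem isN1_of_isLocalization {R R' : Type u} [CommRing R] [CommRing R'] [IsDomain R] [IsDomain R']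
    [Algebra R R'] (M : Submonoid R) [IsLocalization M R'] (h : CAlg.IsN1 R) : CAlg.IsN1 R' := by
  let K := FractionRing R
  have hM : ∀ m : M, IsUnit (algebraMap R K m) := fun m => by
    refine IsUnit.mk0 _ ((map_ne_zero_iff _ (IsFractionRing.injective R K)).2 fun h0 => ?_)
    have := IsLocalization.map_units R' m
    simp [h0] at this
  let : Algebra R' K := (IsLocalization.lift hM).toAlgebra
  have : IsScalarTower R R' K := .of_algebraMap_eq fun r => (IsLocalization.lift_eq hM r).symm
  have : IsFractionRing R' K := IsFractionRing.isFractionRing_of_isDomain_of_isLocalization M R' K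
  refine isN1_of_finite K ?_
  obtain ⟨s, hs⟩ := (finite_integralClosure_of_isN1 h K).1
  classical
  let ι : integralClosure R K → integralClosure R' K := fun x => ⟨x.1, IsIntegral.tower_top x.2⟩
  let f : integralClosure R K →ₗ[R] integralClosure R' K :=
    { toFun := ι
      map_add' := fun _ _ => rfl
      map_smul' := fun r x => rfl }
  refine ⟨⟨s.image ι, ?_⟩⟩
  rw [eq_top_iff]
  rintro ⟨x, hx⟩ -
  obtain ⟨m, hm⟩ := IsIntegral.exists_multiple_integral_of_isLocalization M x hx
  have h1 : f ⟨m • x, hm⟩ ∈ Submodule.span R' ((s.image ι : Finset _) : Set (integralClosure R' K)) := by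
    rw [Finset.coe_image]
    refine Submodule.span_le_restrictScalars R R' _ ?_
    have := Submodule.mem_map_of_mem (f := f) (r := ⟨m • x, hm⟩) (hs ▸ Submodule.mem_top)
    rwa [Submodule.map_span] at this
  obtain ⟨u, hu⟩ := IsLocalization.map_units R' m
  convert Submodule.smul_mem _ (↑u⁻¹ : R') h1 using 1
  apply Subtype.ext
  change x = (↑u⁻¹ : R') • ((m : R) • x)
  rw [← IsScalarTower.algebraMap_smul R' (m : R) x, ← hu, smul_smul, Units.inv_mul, one_smul]

end Groth.Agent.H18.N1
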