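import Groth.Agent.H18.N1
import Groth.Agent.Lib.Excellent.Nagata
import Mathlib.RingTheory.Localization.Away.Basic
import Mathlib.RingTheory.Localization.BaseChange
import Mathlib.RingTheory.Ideal.Span
import Mathlib.RingTheory.FiniteType
import Mathlib.AlgebraicGeometry.Noetherian

/-!
N-1, N-2, Nagata and universally Japanese are local properties.
-/

set_option autoImplicit false

universe u

open scoped nonZeroDivisors

namespace Groth.Agent.H18.NagataLocal

variable {R : Type u} [CommRing R]

/-- Finiteness of integral closures glues over a cover by principal opens. -/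
theorem finite_of_cover {L : Type u} [Field L] [Algebra R L] {ι : Type u} [Finite ι] (f : ι → R)
    (hf : Ideal.span (Set.range f) = ⊤)
    (h : ∀ i, ∃ s : Finset (integralClosure R L), ∀ x, ∃ n : ℕ,
      f i ^ n • x ∈ Submodule.span R (s : Set (integralClosure R L))) :
    Module.Finite R (integralClosure R L) := by
  classical
  have := Fintype.ofFinite ι
  choose s hs using h
  refine ⟨⟨Finset.univ.biUnion s, eq_top_iff.2 fun x _ => ?_⟩⟩
  refine Submodule.mem_of_span_eq_top_of_smul_pow_mem _ (Set.range f) hf _ ?_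
  rintro ⟨_, i, rfl⟩
  obtain ⟨n, hn⟩ := hs i x
  refine ⟨n, Submodule.span_mono ?_ hn⟩
  exact fun y hy => Finset.mem_biUnion.2 ⟨i, Finset.mem_univ _, hy⟩

/-- A finitely generated integral closure over `R'` gives the local finiteness datum. -/
theorem exists_local_generators {R' : Type u} [CommRing R'] [Algebra R R'] (g : R)
    [IsLocalization.Away g R'] {L : Type u} [Field L] [Algebra R L] [Algebra R' L]
    [IsScalarTower R R' L] (h : Module.Finite R' (integralClosure R' L)) :
    ∃ s : Finset (integralClosure R L), ∀ x, ∃ n : ℕ,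
      g ^ n • x ∈ Submodule.span R (s : Set (integralClosure R L)) := by
  classical
  obtain ⟨t, ht⟩ := h.1
  choose k hk using fun y : integralClosure R' L =>
    IsIntegral.exists_multiple_integral_of_isLocalization (Submonoid.powers g) (y : L) y.2
  let z : integralClosure R' L → integralClosure R L := fun y => ⟨k y • (y : L), hk y⟩
  refine ⟨t.image z, fun x => ?_⟩
  have hmem : (⟨x.1, IsIntegral.tower_top x.2⟩ : integralClosure R' L) ∈
      Submodule.span R' (t : Set (integralClosure R' L)) := ht ▸ Submodule.mem_top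
  suffices H : ∀ w ∈ Submodule.span R' (t : Set (integralClosure R' L)),
      ∃ n : ℕ, g ^ n • (w : L) ∈ Submodule.span R (((↑) : integralClosure R L → L) '' ↑(t.image z)) by
    obtain ⟨n, hn⟩ := H _ hmem
    refine ⟨n, ?_⟩
    have hn' : g ^ n • (x : L) ∈ Submodule.map (integralClosure R L).val.toLinearMap
        (Submodule.span R ↑(t.image z)) := by
      rw [Submodule.map_span]; exact hn
    obtain ⟨w, hw, hwx⟩ := hn'
    rwa [show g ^ n • x = w from Subtype.ext hwx.symm]
  intro w hw
  induction hw using Submodule.span_induction with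
  | mem y hy =>
    obtain ⟨⟨n, hn⟩⟩ : Nonempty {n : ℕ // (k y : R) = g ^ n} := by
      obtain ⟨n, hn⟩ := (k y).2
      exact ⟨⟨n, hn.symm⟩⟩
    refine ⟨n, ?_⟩
    rw [← hn]
    exact Submodule.subset_span ⟨z y, Finset.mem_image_of_mem z hy, rfl⟩
  | zero => exact ⟨0, by simp⟩
  | add a b _ _ ha hb =>
    obtain ⟨n, hn⟩ := ha
    obtain ⟨m, hm⟩ := hb
    refine ⟨n + m, ?_⟩
    rw [show ((a + b : integralClosure R' L) : L) = (a : L) + (b : L) from rfl, smul_add]
    refine add_mem ?_ ?_
    · rw [pow_add, mul_comm, mul_smul]; exact Submodule.smul_mem _ _ hn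
    · rw [pow_add, mul_smul]; exact Submodule.smul_mem _ _ hm
  | smul c a _ ha =>
    obtain ⟨n, hn⟩ := ha
    obtain ⟨⟨r, ⟨_, m, rfl⟩⟩, hr⟩ := IsLocalization.surj (Submonoid.powers g) c
    refine ⟨m + n, ?_⟩
    have : g ^ (m + n) • ((c • a : integralClosure R' L) : L) = r • g ^ n • (a : L) := by
      rw [show ((c • a : integralClosure R' L) : L) = c • (a : L) from rfl,
        ← IsScalarTower.algebraMap_smul R' (g ^ (m + n)), ← IsScalarTower.algebraMap_smul R' r,
        ← IsScalarTower.algebraMap_smul R' (g ^ n), smul_smul, smul_smul, pow_add, map_mul, ← hr]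
      ring_nf
    rw [this]
    exact Submodule.smul_mem _ _ hn

theorem ne_zero_of_domain [IsDomain R] (g : R) (R' : Type u) [CommRing R'] [Nontrivial R']
    [Algebra R R'] [IsLocalization.Away g R'] : g ≠ 0 := fun h0 => by
  have := IsLocalization.Away.algebraMap_isUnit (S := R') g
  simp [h0] at this

theorem exists_fractionRing_algebra [IsDomain R] (g : R) (R' : Type u) [CommRing R'] [IsDomain R']
    [Algebra R R'] [IsLocalization.Away g R'] (K : Type u) [Field K] [Algebra R K] [IsFractionRing R K] :
    ∃ (a : Algebra R' K), IsScalarTower R R' K ∧ IsFractionRing R' K := by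
  have hg : IsUnit (algebraMap R K g) :=
    IsUnit.mk0 _ ((map_ne_zero_iff _ (IsFractionRing.injective R K)).2 (ne_zero_of_domain g R'))
  let a : Algebra R' K := (IsLocalization.Away.lift g hg).toAlgebra
  have : IsScalarTower R R' K :=
    .of_algebraMap_eq fun r => (IsLocalization.Away.lift_eq g hg r).symm
  exact ⟨a, this, IsFractionRing.isFractionRing_of_isDomain_of_isLocalization (Submonoid.powers g) R' K⟩

theorem isN1_of_cover [IsDomain R] {ι : Type u} [Finite ι] (f : ι → R)
    (hf : Ideal.span (Set.range f) = ⊤) (Rf : ι → Type u) [∀ i, CommRing (Rf i)]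
    [∀ i, IsDomain (Rf i)] [∀ i, Algebra R (Rf i)] [∀ i, IsLocalization.Away (f i) (Rf i)]
    (h : ∀ i, CAlg.IsN1 (Rf i)) : CAlg.IsN1 R := by
  refine finite_of_cover f hf fun i => ?_
  obtain ⟨a, ha, hK⟩ := exists_fractionRing_algebra (f i) (Rf i) (FractionRing R)
  exact exists_local_generators (f i)
    (Groth.Agent.H18.N1.finite_integralClosure_of_isN1 (h i) (FractionRing R))

theorem isN2_of_cover [IsDomain R] {ι : Type u} [Finite ι] (f : ι → R)
    (hf : Ideal.span (Set.range f) = ⊤) (Rf : ι → Type u) [∀ i, CommRing (Rf i)]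
    [∀ i, IsDomain (Rf i)] [∀ i, Algebra R (Rf i)] [∀ i, IsLocalization.Away (f i) (Rf i)]
    (h : ∀ i, CAlg.IsN2 (Rf i)) : CAlg.IsN2 R := by
  intro L _ _ _ _ _
  refine finite_of_cover f hf fun i => ?_
  obtain ⟨a, ha, hK⟩ := exists_fractionRing_algebra (f i) (Rf i) (FractionRing R)
  let : Algebra (Rf i) L := ((algebraMap (FractionRing R) L).comp (algebraMap (Rf i) (FractionRing R))).toAlgebra
  have : IsScalarTower (Rf i) (FractionRing R) L := .of_algebraMap_eq' rfl
  have : IsScalarTower R (Rf i) L := .of_algebraMap_eq fun r => by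
    rw [IsScalarTower.algebraMap_apply R (FractionRing R) L,
      IsScalarTower.algebraMap_apply R (Rf i) (FractionRing R),
      IsScalarTower.algebraMap_apply (Rf i) (FractionRing R) L]
  exact exists_local_generators (f i)
    (Groth.Agent.Lib.Excellent.Nagata.finite_integralClosure_of_isN2 (h i) (FractionRing R) L)

/-- Only the nonzero members of the cover matter. -/
theorem isN2_of_cover' [IsDomain R] {ι : Type u} [Finite ι] (f : ι → R)
    (hf : Ideal.span (Set.range f) = ⊤)
    (h : ∀ i, f i ≠ 0 → ∃ (R' : Type u) (_ : CommRing R') (_ : IsDomain R') (_ : Algebra R R'),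
      IsLocalization.Away (f i) R' ∧ CAlg.IsN2 R') : CAlg.IsN2 R := by
  choose Rf i1 i2 i3 i4 i5 using fun j : {i // f i ≠ 0} => h j.1 j.2
  refine isN2_of_cover (fun j : {i // f i ≠ 0} => f j.1) ?_ Rf i5
  rw [← top_le_iff, ← hf, Ideal.span_le]
  rintro _ ⟨i, rfl⟩
  by_cases hi : f i = 0
  · rw [hi]; exact zero_mem _
  · exact Ideal.subset_span ⟨⟨i, hi⟩, rfl⟩

theorem isNagata_of_cover {ι : Type u} [Finite ι] (f : ι → R) (hf : Ideal.span (Set.range f) = ⊤)
    (h : ∀ i, CAlg.IsNagata (Localization.Away (f i))) : CAlg.IsNagata R := by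
  classical
  have := Fintype.ofFinite ι
  refine ⟨?_, fun p hp => ?_⟩
  · refine AlgebraicGeometry.isNoetherianRing_of_away (Finset.univ.image f) (by simpa using hf) ?_
    rintro ⟨g, hg⟩
    obtain ⟨i, -, rfl⟩ := Finset.mem_image.1 hg
    exact (h i).1
  refine isN2_of_cover' (fun i => Ideal.Quotient.mk p (f i)) ?_ fun i hi => ?_
  · rw [show Set.range (fun i => Ideal.Quotient.mk p (f i)) = Ideal.Quotient.mk p '' Set.range f from
      (Set.range_comp _ _), ← Ideal.map_span, hf, Ideal.map_top]
  have hfi : f i ∉ p := fun h' => hi (Ideal.Quotient.eq_zero_iff_mem.2 h')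
  let S := Localization.Away (f i)
  have hP : (p.map (algebraMap R S)).IsPrime :=
    IsLocalization.isPrime_of_isPrime_disjoint (Submonoid.powers (f i)) S p hp <| by
      rw [Set.disjoint_left]
      rintro x ⟨n, rfl⟩ hx
      exact hfi (hp.mem_of_pow_mem n hx)
  refine ⟨S ⧸ p.map (algebraMap R S), inferInstance, Ideal.Quotient.isDomain _, inferInstance, ?_,
    (h i).2 _⟩
  have : IsLocalization (Algebra.algebraMapSubmonoid (R ⧸ p) (Submonoid.powers (f i)))
      (S ⧸ p.map (algebraMap R S)) := inferInstance
  rwa [Algebra.algebraMapSubmonoid_powers] at this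

theorem isUniversallyJapanese_of_cover {ι : Type u} [Finite ι] (f : ι → R)
    (hf : Ideal.span (Set.range f) = ⊤)
    (h : ∀ i, CAlg.IsUniversallyJapanese (Localization.Away (f i))) :
    CAlg.IsUniversallyJapanese R := by
  intro S _ _ _ hS
  refine isN2_of_cover' (fun i => algebraMap R S (f i)) ?_ fun i hi => ?_
  · rw [show Set.range (fun i => algebraMap R S (f i)) = algebraMap R S '' Set.range f from
      (Set.range_comp _ _), ← Ideal.map_span, hf, Ideal.map_top]
  let g := algebraMap R S (f i)
  let S' := Localization.Away g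
  have : IsDomain S' := IsLocalization.isDomain_localization
    (powers_le_nonZeroDivisors_of_noZeroDivisors hi)
  have hu : IsUnit (algebraMap R S' (f i)) := by
    rw [IsScalarTower.algebraMap_apply R S S']
    exact IsLocalization.Away.algebraMap_isUnit g
  let : Algebra (Localization.Away (f i)) S' := (IsLocalization.Away.lift (f i) hu).toAlgebra
  have : IsScalarTower R (Localization.Away (f i)) S' :=
    .of_algebraMap_eq fun r => (IsLocalization.Away.lift_eq (f i) hu r).symm
  have h1 : Algebra.FiniteType R S' :=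
    Algebra.FiniteType.trans (R := R) (S := S) (A := S') hS (IsLocalization.finiteType_of_monoid_fg (Submonoid.powers g) S')
  exact ⟨S', inferInstance, inferInstance, inferInstance, inferInstance,
    h i S' (Algebra.FiniteType.of_restrictScalars_finiteType R (Localization.Away (f i)) S')⟩

/-- If all finite type domains are N-1, they are N-2. -/
theorem isUniversallyJapanese_of_isN1
    (h : ∀ (S : Type u) [CommRing S] [IsDomain S] [Algebra R S], Algebra.FiniteType R S → CAlg.IsN1 S) :
    CAlg.IsUniversallyJapanese R := by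
  classical
  intro S _ _ _ hS L _ _ _ _ _
  let K := FractionRing S
  have : Algebra.IsAlgebraic K L := Algebra.IsAlgebraic.of_finite K L
  obtain ⟨b⟩ : Nonempty (Σ n : ℕ, Module.Basis (Fin n) K L) := ⟨⟨_, Module.finBasis K L⟩⟩
  obtain ⟨n, b⟩ := b
  have hx : ∀ i, ∃ d : S, d ≠ 0 ∧ IsIntegral S (d • b i) := fun i => by
    obtain ⟨⟨d, hd⟩, hd'⟩ := IsIntegral.exists_multiple_integral_of_isLocalization S⁰ (b i)
      (Algebra.IsIntegral.isIntegral (R := K) (b i))
    exact ⟨d, nonZeroDivisors.ne_zero hd, hd'⟩
  choose d hd0 hd using hx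
  let S' := Algebra.adjoin S (Set.range fun i => d i • b i)
  have hfin : Module.Finite S S' := by
    exact (Module.Finite.iff_fg (N := Subalgebra.toSubmodule S')).2
      (fg_adjoin_of_finite (Set.finite_range _) (by rintro _ ⟨i, rfl⟩; exact hd i))
  let : Algebra R L := ((algebraMap S L).comp (algebraMap R S)).toAlgebra
  have : IsScalarTower R S L := .of_algebraMap_eq' rfl
  have hft : Algebra.FiniteType R S' :=
    Algebra.FiniteType.trans (R := R) (S := S) (A := S') hS inferInstance
  have hinjSL : Function.Injective (algebraMap S L) := by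
    rw [IsScalarTower.algebraMap_eq S K L]
    exact (algebraMap K L).injective.comp (IsFractionRing.injective S K)
  have : IsFractionRing S' L := by
    refine IsFractionRing.of_field S' L fun z => ?_
    obtain ⟨⟨e, he0⟩, he⟩ := IsLocalization.exist_integer_multiples S⁰ (Finset.univ : Finset (Fin n))
      (fun i => b.repr z i / algebraMap S K (d i))
    choose c hc using fun i => he i (Finset.mem_univ i)
    refine ⟨∑ i, algebraMap S S' (c i) * ⟨d i • b i, Algebra.subset_adjoin ⟨i, rfl⟩⟩,
      algebraMap S S' e, ?_⟩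
    have he1 : algebraMap S L e ≠ 0 := (map_ne_zero_iff _ hinjSL).2 (nonZeroDivisors.ne_zero he0)
    rw [eq_comm, ← IsScalarTower.algebraMap_apply S S' L, div_eq_iff he1, map_sum]
    conv_rhs => rw [← b.sum_repr z, Finset.sum_mul]
    refine Finset.sum_congr rfl fun i _ => ?_
    rw [map_mul, ← IsScalarTower.algebraMap_apply S S' L]
    change algebraMap S L (c i) * (d i • b i) = b.repr z i • b i * algebraMap S L e
    have hdi : algebraMap S K (d i) ≠ 0 :=
      (map_ne_zero_iff _ (IsFractionRing.injective S K)).2 (hd0 i)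
    have hci : algebraMap S K (c i) = algebraMap S K e * (b.repr z i / algebraMap S K (d i)) := by
      rw [hc i, Algebra.smul_def]
    have hkey : algebraMap S L (c i) * algebraMap S L (d i)
        = algebraMap K L (b.repr z i) * algebraMap S L e := by
      rw [IsScalarTower.algebraMap_apply S K L (c i), IsScalarTower.algebraMap_apply S K L (d i),
        IsScalarTower.algebraMap_apply S K L e, ← map_mul (algebraMap K L), ← map_mul (algebraMap K L), hci]
      congr 1
      rw [mul_assoc, div_mul_cancel₀ _ hdi, mul_comm]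
    rw [Algebra.smul_def, Algebra.smul_def, ← mul_assoc, hkey]
    ring
  have hN1 : Module.Finite S' (integralClosure S' L) :=
    Groth.Agent.H18.N1.finite_integralClosure_of_isN1 (h S' hft) L
  have : Module.Finite S (integralClosure S' L) := Module.Finite.trans S' _
  have : Algebra.IsIntegral S S' := Algebra.IsIntegral.of_finite S S'
  let g : integralClosure S' L →ₗ[S] integralClosure S L :=
    { toFun := fun x => ⟨x.1, isIntegral_trans (R := S) x.1 x.2⟩
      map_add' := fun _ _ => rfl
      map_smul' := fun r x => rfl }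
  exact Module.Finite.of_surjective g fun x => ⟨⟨x.1, IsIntegral.tower_top x.2⟩, rfl⟩

end Groth.Agent.H18.NagataLocal
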