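import Mathlib.RingTheory.IntegralClosure.IntegrallyClosed
import Mathlib.RingTheory.Localization.Integral
import Mathlib.RingTheory.Localization.FractionRing
import Mathlib.RingTheory.Localization.AtPrime.Basic
import Mathlib.RingTheory.Ideal.MinimalPrime.Localization
import Mathlib.RingTheory.Nilpotent.Lemmas

/-!
# Reduced rings integrally closed in their total ring of fractions
-/

universe u

open Polynomial

namespace Groth.Agent.H18.NormalClosedIn

variable {R : Type u} [CommRing R] [IsReduced R]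

theorem eq_zero_of_forall {x : R} (h : ∀ P ∈ minimalPrimes R, x ∈ P) : x = 0 := by
  have : x ∈ nilradical R := by
    rw [nilradical, show Ideal.radical (0 : Ideal R) = Ideal.radical ⊥ from rfl,
      ← Ideal.sInf_minimalPrimes, Submodule.mem_sInf]
    exact h
  rwa [nilradical_eq_zero] at this

theorem mem_nonZeroDivisors_of_forall {c : R} (h : ∀ P ∈ minimalPrimes R, c ∉ P) :
    c ∈ nonZeroDivisors R :=
  mem_nonZeroDivisors_iff_right.mpr fun z hz => eq_zero_of_forall fun P hP =>
    (hP.1.1.mem_or_mem (hz ▸ P.zero_mem : z * c ∈ P)).resolve_right (h P hP)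

/-- The idempotent attached to a minimal prime. -/
theorem exists_idem (hfin : (minimalPrimes R).Finite) [IsIntegrallyClosedIn R (FractionRing R)]
    {P : Ideal R} (hP : P ∈ minimalPrimes R) :
    ∃ e : R, 1 - e ∈ P ∧ ∀ Q ∈ minimalPrimes R, Q ≠ P → e ∈ Q := by
  classical
  let S := hfin.toFinset.erase P
  have hS : ∀ Q, Q ∈ S ↔ Q ≠ P ∧ Q ∈ minimalPrimes R := fun Q => by simp [S]
  have hs : ∃ s, s ∉ P ∧ ∀ Q ∈ S, s ∈ Q := by
    have : ¬ S.inf id ≤ P := fun hle => by
      obtain ⟨Q, hQ, hQP⟩ := (Ideal.IsPrime.inf_le' hP.1.1).mp hle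
      obtain ⟨hne, hQm⟩ := (hS Q).mp hQ
      exact hne (le_antisymm hQP (hP.2 ⟨hQm.1.1, bot_le⟩ hQP))
    obtain ⟨s, hs, hsP⟩ := SetLike.not_le_iff_exists.mp this
    exact ⟨s, hsP, fun Q hQ => (Finset.inf_le (f := id) hQ : _ ≤ Q) hs⟩
  have hb : ∃ b ∈ P, ∀ Q ∈ S, b ∉ Q := by
    by_contra hc
    push Not at hc
    have hsub : (P : Set R) ⊆ ⋃ Q ∈ (S : Set (Ideal R)), (Q : Set R) := fun b hb => by
      obtain ⟨Q, hQ, hbQ⟩ := hc b hb
      exact Set.mem_iUnion₂_of_mem hQ hbQ
    obtain ⟨Q, hQ, hle⟩ := (Ideal.subset_union_prime_finite S.finite_toSet ⊥ ⊥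
      fun i hi _ _ => ((hS i).mp hi).2.1.1).mp hsub
    obtain ⟨hne, hQm⟩ := (hS Q).mp hQ
    exact hne (le_antisymm (hQm.2 ⟨hP.1.1, bot_le⟩ hle) hle)
  obtain ⟨s, hsP, hsQ⟩ := hs
  obtain ⟨b, hbP, hbQ⟩ := hb
  have hcase : ∀ Q ∈ minimalPrimes R, Q = P ∨ Q ∈ S := fun Q hQ => by
    by_cases h : Q = P
    · exact Or.inl h
    · exact Or.inr ((hS Q).mpr ⟨h, hQ⟩)
  have hsb : s * b = 0 := eq_zero_of_forall fun Q hQ => by
    rcases hcase Q hQ with rfl | h
    · exact Ideal.mul_mem_left _ _ hbP
    · exact Ideal.mul_mem_right _ _ (hsQ Q h)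
  have hc : s + b ∈ nonZeroDivisors R := mem_nonZeroDivisors_of_forall fun Q hQ h => by
    rcases hcase Q hQ with rfl | h'
    · exact hsP (by simpa using Q.sub_mem h hbP)
    · exact hbQ Q h' (by simpa using Q.sub_mem h (hsQ Q h'))
  let K := FractionRing R
  let c : nonZeroDivisors R := ⟨s + b, hc⟩
  let y : K := IsLocalization.mk' K s c
  have hy : y * y = y := by
    simp only [y, ← IsLocalization.mk'_mul]
    rw [IsLocalization.mk'_eq_iff_eq]
    congr 1
    simp only [Submonoid.coe_mul, c]
    linear_combination (exp := 1) (-s - b) * hsb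
  have hint : IsIntegral R y :=
    ⟨X * (X - 1), monic_X.mul (monic_X_sub_C (1 : R)), by simp [mul_sub, hy]⟩
  obtain ⟨e, he⟩ := IsIntegrallyClosedIn.algebraMap_eq_of_integral hint
  have hec : e * (s + b) = s := by
    apply IsFractionRing.injective R K
    rw [map_mul, he]
    exact IsLocalization.mk'_spec K s c
  refine ⟨e, ?_, fun Q hQ hne => ?_⟩
  · have h1 : (1 - e) * s ∈ P := by
      rw [show (1 - e) * s = e * b by linear_combination (exp := 1) -hec]
      exact Ideal.mul_mem_left _ _ hbP
    exact (hP.1.1.mem_or_mem h1).resolve_right hsP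
  · have hQS := (hS Q).mpr ⟨hne, hQ⟩
    have h1 : e * b ∈ Q := by
      rw [show e * b = s - e * s by linear_combination (exp := 1) hec]
      exact Q.sub_mem (hsQ Q hQS) (Ideal.mul_mem_left _ _ (hsQ Q hQS))
    exact (hQ.1.1.mem_or_mem h1).resolve_right (hbQ Q hQS)

/-- A reduced ring with finitely many minimal primes integrally closed in its total ring of fractions
is normal. -/
theorem isDomain_and_isIntegrallyClosed (hfin : (minimalPrimes R).Finite)
    [IsIntegrallyClosedIn R (FractionRing R)] (p : Ideal R) [p.IsPrime] :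
    IsDomain (Localization.AtPrime p) ∧ IsIntegrallyClosed (Localization.AtPrime p) := by
  classical
  obtain ⟨P, hP, hPp⟩ := Ideal.exists_minimalPrimes_le (bot_le : (⊥ : Ideal R) ≤ p)
  obtain ⟨e, he1, he⟩ := exists_idem hfin (P := P) hP
  have hep : e ∉ p := fun h => Ideal.IsPrime.one_notMem ‹_› (by simpa using p.add_mem (hPp he1) h)
  let A := Localization.AtPrime p
  have hker : ∀ r : R, algebraMap R A r = 0 ↔ r ∈ P := fun r => by
    rw [IsLocalization.map_eq_zero_iff p.primeCompl]
    constructor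
    · rintro ⟨⟨m, hm⟩, h⟩
      exact (hP.1.1.mem_or_mem (show m * r ∈ P by simp only at h; rw [h]; exact P.zero_mem)).resolve_left
        fun h' => hm (hPp h')
    · intro hr
      refine ⟨⟨e, hep⟩, eq_zero_of_forall fun Q hQ => ?_⟩
      by_cases hQP : Q = P
      · exact hQP ▸ Ideal.mul_mem_left _ _ hr
      · exact Ideal.mul_mem_right _ _ (he Q hQ hQP)
  have hdom : IsDomain A := by
    have : NoZeroDivisors A := ⟨fun {a b} hab => by
      obtain ⟨r, m, rfl⟩ := IsLocalization.exists_mk'_eq p.primeCompl a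
      obtain ⟨r', m', rfl⟩ := IsLocalization.exists_mk'_eq p.primeCompl b
      have h0 : algebraMap R A (r * r') = 0 := by
        rw [← IsLocalization.mk'_mul] at hab
        rw [← IsLocalization.mk'_spec A (r * r') (m * m'), hab, zero_mul]
      rcases hP.1.1.mem_or_mem ((hker _).mp h0) with h | h
      · exact Or.inl (by rw [IsLocalization.mk'_eq_mul_mk'_one, (hker r).mpr h, zero_mul])
      · exact Or.inr (by rw [IsLocalization.mk'_eq_mul_mk'_one, (hker r').mpr h, zero_mul])⟩
    exact NoZeroDivisors.to_isDomain _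
  refine ⟨hdom, ?_⟩
  let L := FractionRing A
  let g : R →+* L := (algebraMap A L).comp (algebraMap R A)
  have hgker : ∀ r : R, g r = 0 ↔ r ∈ P := fun r => by
    rw [← hker r]
    exact map_eq_zero_iff _ (IsFractionRing.injective A L)
  have hg : ∀ c : nonZeroDivisors R, IsUnit (g c) := fun c => isUnit_iff_ne_zero.mpr fun h =>
    (Ideal.disjoint_nonZeroDivisors_of_mem_minimalPrimes hP).le_bot ⟨(hgker _).mp h, c.2⟩
  let K := FractionRing R
  let φ : K →+* L := IsLocalization.lift hg
  have hφ : ∀ r, φ (algebraMap R K r) = g r := fun r => IsLocalization.lift_eq hg r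
  have hφker : ∀ z : K, φ z = 0 → algebraMap R K e * z = 0 := by
    intro z hz
    obtain ⟨r, c, rfl⟩ := IsLocalization.exists_mk'_eq (nonZeroDivisors R) z
    have hr : r ∈ P := (hgker r).mp (by
      rw [← hφ, ← IsLocalization.mk'_spec K r c, map_mul, hz, zero_mul])
    have : e * r = 0 := eq_zero_of_forall fun Q hQ => by
      by_cases hQP : Q = P
      · exact hQP ▸ Ideal.mul_mem_left _ _ hr
      · exact Ideal.mul_mem_right _ _ (he Q hQ hQP)
    rw [IsLocalization.mk'_eq_mul_mk'_one, ← mul_assoc, ← map_mul, this, map_zero, zero_mul]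
  have hge : g e = 1 := by
    have h := (hgker _).mpr he1
    rw [map_sub, map_one, sub_eq_zero] at h
    exact h.symm
  refine (isIntegrallyClosed_iff L).mpr fun {x} hx => ?_
  have hgL : algebraMap R L = g := IsScalarTower.algebraMap_eq R A L
  obtain ⟨m, hm⟩ := IsIntegral.exists_multiple_integral_of_isLocalization p.primeCompl (Rₘ := A) x hx
  obtain ⟨a, b, hb, hab⟩ := IsFractionRing.div_surjective A ((m : R) • x)
  obtain ⟨r, s, rfl⟩ := IsLocalization.exists_mk'_eq p.primeCompl a
  obtain ⟨r', s', rfl⟩ := IsLocalization.exists_mk'_eq p.primeCompl b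
  have hr' : r' ∉ P := fun h => nonZeroDivisors.ne_zero hb (by
    rw [IsLocalization.mk'_eq_mul_mk'_one, (hker r').mpr h, zero_mul])
  have hsP : ∀ u : p.primeCompl, (u : R) ∉ P := fun u h => u.2 (hPp h)
  -- a nonzerodivisor with the same image as the denominator
  let d : R := (r' * s) * e + (1 - e)
  have hd : d ∈ nonZeroDivisors R := mem_nonZeroDivisors_of_forall fun Q hQ h => by
    by_cases hQP : Q = P
    · subst hQP
      have h1 : (r' * s) * e ∈ Q := by simpa [d] using Q.sub_mem h he1
      rcases hQ.1.1.mem_or_mem h1 with h2 | h2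
      · exact (hQ.1.1.mem_or_mem h2).elim hr' (hsP s)
      · exact hep (hPp h2)
    · exact hQ.1.1.one_notMem (by
        have := Q.sub_mem h (Ideal.mul_mem_left Q (r' * s) (he Q hQ hQP))
        simp only [d, add_sub_cancel_left] at this
        simpa using Q.add_mem this (he Q hQ hQP))
  have hgd : g d = g r' * g s := by
    simp [d, map_sub, hge]
  let y : K := algebraMap R K e * IsLocalization.mk' K (r * s') ⟨d, hd⟩
  have hφy : φ y = (m : R) • x := by
    rw [← hab]
    have h1 : φ (IsLocalization.mk' K (r * s') ⟨d, hd⟩) * g d = g (r * s') := by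
      rw [← hφ d, ← map_mul, IsLocalization.mk'_spec, hφ]
    simp only [y, map_mul, hφ, hge, one_mul]
    have hgs : ∀ u : p.primeCompl, g u ≠ 0 := fun u h => hsP u ((hgker _).mp h)
    have hgr' : g r' ≠ 0 := fun h => hr' ((hgker _).mp h)
    have e1 : algebraMap A L (IsLocalization.mk' A r s) = g r / g s := by
      rw [eq_div_iff (hgs s), show g (s : R) = algebraMap A L (algebraMap R A s) from rfl, ← map_mul,
        IsLocalization.mk'_spec]
      rfl
    have e2 : algebraMap A L (IsLocalization.mk' A r' s') = g r' / g s' := by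
      rw [eq_div_iff (hgs s'), show g (s' : R) = algebraMap A L (algebraMap R A s') from rfl, ← map_mul,
        IsLocalization.mk'_spec]
      rfl
    rw [e1, e2, div_div_div_eq, eq_div_iff (mul_ne_zero (hgs s) hgr'), ← map_mul g r, ← h1, hgd]
    ring
  obtain ⟨f, hf, hfx⟩ := hm
  have hint : IsIntegral R y := by
    have hz : algebraMap R K e * f.eval₂ (algebraMap R K) y = 0 := hφker _ (by
      rw [Polynomial.hom_eval₂, hφy, show φ.comp (algebraMap R K) = algebraMap R L from
        hgL ▸ RingHom.ext hφ]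
      exact hfx)
    rcases Nat.eq_zero_or_pos f.natDegree with h0 | h0
    · have hK1 : algebraMap R K e = 0 := by
        simpa [hf.natDegree_eq_zero.mp h0] using hz
      simp only [y, hK1, zero_mul]
      exact isIntegral_zero
    have hee : algebraMap R K e * (1 - algebraMap R K e) = 0 := by
      rw [← map_one (algebraMap R K), ← map_sub, ← map_mul]
      rw [eq_zero_of_forall (x := e * (1 - e)) fun Q hQ => ?_, map_zero]
      by_cases hQP : Q = P
      · exact hQP ▸ Ideal.mul_mem_left _ _ he1
      · exact Ideal.mul_mem_right _ _ (he Q hQ hQP)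
    refine ⟨C e * f + C (1 - e) * X ^ f.natDegree, ?_, ?_⟩
    · rw [Monic, leadingCoeff]
      have hle : (C e * f + C (1 - e) * X ^ f.natDegree).natDegree ≤ f.natDegree := by
        refine natDegree_add_le_of_degree_le (natDegree_C_mul_le _ _) (natDegree_C_mul_X_pow_le _ _)
      have hco : (C e * f + C (1 - e) * X ^ f.natDegree).coeff f.natDegree = 1 := by
        rw [coeff_add, coeff_C_mul, hf.coeff_natDegree, coeff_C_mul_X_pow, if_pos rfl]
        ring
      rcases subsingleton_or_nontrivial R with h | h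
      · exact Subsingleton.elim _ _
      · rwa [le_antisymm hle (le_natDegree_of_ne_zero (by rw [hco]; exact one_ne_zero))]
    · simp only [eval₂_add, eval₂_mul, eval₂_C, eval₂_X_pow, map_sub, map_one, eval₂_sub, eval₂_one]
      rw [hz, zero_add]
      obtain ⟨n, hn⟩ := Nat.exists_eq_succ_of_ne_zero h0.ne'
      rw [hn, pow_succ']
      simp only [y]
      rw [← mul_assoc, ← mul_assoc, mul_comm (1 - algebraMap R K e), hee, zero_mul, zero_mul]
  obtain ⟨t, ht⟩ := IsIntegrallyClosedIn.algebraMap_eq_of_integral hint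
  refine ⟨IsLocalization.mk' A t m, ?_⟩
  have hu : g (m : R) ≠ 0 := fun h => hsP m ((hgker _).mp h)
  apply mul_left_cancel₀ hu
  rw [show g (m : R) = algebraMap A L (algebraMap R A m) from rfl, ← map_mul, IsLocalization.mk'_spec']
  change g t = _
  rw [← hφ t, ht, hφy, Algebra.smul_def, hgL]
  rfl

end Groth.Agent.H18.NormalClosedIn
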