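import Mathlib.RingTheory.KrullDimension.Polynomial
import Mathlib.RingTheory.AlgebraicIndependent.TranscendenceBasis
import Mathlib.RingTheory.AlgebraicIndependent.Transcendental
import Mathlib.RingTheory.Localization.FractionRing
import Mathlib.RingTheory.PrincipalIdealDomain

/-!
# Heights and transcendence degrees of primes of a polynomial ring in one variable
-/

universe u

open Polynomial

namespace Groth.Agent.H18.PolyHeight

attribute [local instance] Polynomial.algebra Polynomial.isLocalization

theorem height_eq_one_of_comap_bot {D : Type u} [CommRing D] [IsDomain D]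
    (Q : Ideal D[X]) [Q.IsPrime] (hne : Q ≠ ⊥) (hc : Q.comap (C : D →+* D[X]) = ⊥) :
    Q.height = 1 := by
  let K := FractionRing D
  have hd : Disjoint ((nonZeroDivisors D).map (C : D →+* D[X]) : Set D[X]) Q := by
    rw [Set.disjoint_left]
    rintro _ ⟨a, ha, rfl⟩ h
    have : a ∈ Q.comap (C : D →+* D[X]) := h
    rw [hc, Ideal.mem_bot] at this
    exact nonZeroDivisors.ne_zero ha this
  let Q' : Ideal K[X] := Q.map (algebraMap D[X] K[X])
  have : Q'.IsPrime := IsLocalization.isPrime_of_isPrime_disjoint _ K[X] Q ‹_› hd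
  have hinj : Function.Injective (algebraMap D[X] K[X]) := by
    change Function.Injective (Polynomial.map (algebraMap D K))
    exact Polynomial.map_injective _ (IsFractionRing.injective D K)
  have hne' : Q' ≠ ⊥ := fun h => hne ((Ideal.map_eq_bot_iff_of_injective hinj).mp h)
  have : Q'.IsMaximal := IsPrime.to_maximal_ideal hne'
  rw [← IsLocalization.height_map_of_disjoint (S := K[X]) ((nonZeroDivisors D).map (C : D →+* D[X])) _ hd]
  exact IsPrincipalIdealRing.height_eq_one_of_isMaximal Q' (Polynomial.not_isField K)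

variable {A : Type u} [CommRing A] [IsNoetherianRing A] (p : Ideal A) [p.IsPrime]

omit [IsNoetherianRing A] in
theorem comap_map_C : (p.map (C : A →+* A[X])).comap (C : A →+* A[X]) = p := by
  ext a
  rw [Ideal.mem_comap, Ideal.mem_map_C_iff]
  constructor
  · intro h; simpa using h 0
  · intro h n
    rcases eq_or_ne n 0 with rfl | hn
    · simpa using h
    · simp [coeff_C, hn]

theorem height_eq (q : Ideal A[X]) [q.IsPrime] [q.LiesOver p] :
    (p.map (C : A →+* A[X])).height = p.height ∧
      (q ≠ p.map (C : A →+* A[X]) → q.height = p.height + 1) := by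
  have hmap : p.map (algebraMap A A[X]) = p.map (C : A →+* A[X]) := rfl
  have : (p.map (C : A →+* A[X])).IsPrime := Ideal.isPrime_map_C_of_isPrime
  have : (p.map (C : A →+* A[X])).LiesOver p := ⟨(comap_map_C p).symm⟩
  have : (p.map (algebraMap A A[X])).IsPrime := ‹(p.map (C : A →+* A[X])).IsPrime›
  constructor
  · have h := Ideal.height_eq_height_add_of_liesOver_of_hasGoingDown p (p.map (C : A →+* A[X]))
    rw [hmap, Ideal.map_quotient_self] at h
    have : IsDomain (A[X] ⧸ p.map (C : A →+* A[X])) := Ideal.Quotient.isDomain _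
    rw [h, Ideal.height_bot, add_zero]
  · intro hne
    have h := Ideal.height_eq_height_add_of_liesOver_of_hasGoingDown p q
    rw [h]
    congr 1
    let e : (A ⧸ p)[X] ≃+* A[X] ⧸ p.map (algebraMap A A[X]) :=
      Ideal.polynomialQuotientEquivQuotientPolynomial p
    have hle : p.map (algebraMap A A[X]) ≤ q :=
      Ideal.map_le_iff_le_comap.mpr (Ideal.LiesOver.over (P := q) (p := p)).le
    let Q₁ := q.map (Ideal.Quotient.mk (p.map (algebraMap A A[X])))
    have hQ₁ : Q₁.IsPrime :=
      Ideal.map_isPrime_of_surjective Ideal.Quotient.mk_surjective (by rwa [Ideal.mk_ker])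
    let Q := Q₁.comap e.toRingHom
    have : Q.IsPrime := Ideal.IsPrime.comap _
    have hQh : Q.height = Q₁.height := e.height_comap Q₁
    rw [← hQh]
    refine height_eq_one_of_comap_bot Q (fun h0 => hne ?_) ?_
    · refine le_antisymm (fun x hx => ?_) (hmap ▸ hle)
      obtain ⟨y, hy⟩ := e.surjective (Ideal.Quotient.mk _ x)
      have : y ∈ Q := by
        change e y ∈ Q₁
        rw [hy]
        exact Ideal.mem_map_of_mem _ hx
      rw [h0, Ideal.mem_bot] at this
      rw [this, map_zero, eq_comm, Ideal.Quotient.eq_zero_iff_mem] at hy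
      exact hy
    · rw [eq_bot_iff]
      intro a ha
      obtain ⟨a, rfl⟩ := Ideal.Quotient.mk_surjective a
      have h1 : e (C (Ideal.Quotient.mk p a)) ∈ Q₁ := ha
      have h2 : e (C (Ideal.Quotient.mk p a)) = Ideal.Quotient.mk (p.map (algebraMap A A[X])) (C a) := by
        have := Ideal.polynomialQuotientEquivQuotientPolynomial_map_mk p (C a)
        rw [Polynomial.map_C] at this
        exact this
      rw [h2, Ideal.mem_quotient_iff_mem hle] at h1
      rw [Ideal.mem_bot, Ideal.Quotient.eq_zero_iff_mem, Ideal.LiesOver.over (P := q) (p := p)]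
      exact h1

theorem trdeg_formula (q : Ideal A[X]) [q.IsPrime] [q.LiesOver p] :
    (p.height : Cardinal.{u}) + 1 = (q.height : Cardinal.{u}) + Algebra.trdeg (A ⧸ p) (A[X] ⧸ q) := by
  obtain ⟨h1, h2⟩ := height_eq p q
  by_cases hq : q = p.map (C : A →+* A[X])
  · subst hq
    rw [h1]
    let e : (A ⧸ p)[X] ≃ₐ[A ⧸ p] A[X] ⧸ p.map (C : A →+* A[X]) :=
      AlgEquiv.ofRingEquiv (f := Ideal.polynomialQuotientEquivQuotientPolynomial p) (fun a => by
        obtain ⟨a, rfl⟩ := Ideal.Quotient.mk_surjective a
        have := Ideal.polynomialQuotientEquivQuotientPolynomial_map_mk p (C a)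
        rw [Polynomial.map_C] at this
        exact this)
    rw [← e.trdeg_eq, Polynomial.trdeg_of_isDomain]
  · rw [h2 hq]
    have halg : Algebra.IsAlgebraic (A ⧸ p) (A[X] ⧸ q) := by
      have hle : p.map (C : A →+* A[X]) ≤ q :=
        Ideal.map_le_iff_le_comap.mpr (Ideal.LiesOver.over (P := q) (p := p)).le
      obtain ⟨f, hfq, hfp⟩ := SetLike.exists_of_lt (lt_of_le_of_ne hle (Ne.symm hq))
      have hx : IsAlgebraic (A ⧸ p) (Ideal.Quotient.mk q X) := by
        refine ⟨f.map (Ideal.Quotient.mk p), fun h0 => hfp ?_, ?_⟩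
        · rw [Ideal.mem_map_C_iff]
          intro n
          have := congrArg (fun g => Polynomial.coeff g n) h0
          simpa [Ideal.Quotient.eq_zero_iff_mem] using this
        · rw [← Ideal.Quotient.algebraMap_eq p, Polynomial.aeval_map_algebraMap,
            ← Ideal.Quotient.mkₐ_eq_mk A q, Polynomial.aeval_algHom_apply, Polynomial.aeval_X_left_apply]
          exact Ideal.Quotient.eq_zero_iff_mem.mpr hfq
      refine ⟨fun z => ?_⟩
      obtain ⟨g, rfl⟩ := Ideal.Quotient.mk_surjective z
      induction g using Polynomial.induction_on' with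
      | add a b ha hb => rw [map_add]; exact ha.add hb
      | monomial n a =>
        rw [← Polynomial.C_mul_X_pow_eq_monomial, map_mul, map_pow]
        refine IsAlgebraic.mul ?_ (hx.pow n)
        exact (isAlgebraic_algebraMap (Ideal.Quotient.mk p a) :
          IsAlgebraic (A ⧸ p) (algebraMap (A ⧸ p) (A[X] ⧸ q) (Ideal.Quotient.mk p a)))
    rw [trdeg_eq_zero, add_zero, Cardinal.ofENat_add, Cardinal.ofENat_one]

end Groth.Agent.H18.PolyHeight
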