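import Groth.Agent.Lib.Cyc.K0.Cycles
import Groth.Agent.Lib.RefHull.Group
import Groth.Agent.Lib.RefHull.Modif
import Groth.Prelude.Def_RefPow

/-!
# Classes of rank one reflexive modules in `K₀(Coh_{≤ k})/Coh_{≤ k - 2}`
-/

set_option linter.style.haveILetI false
set_option autoImplicit false

universe u

open CategoryTheory CategoryTheory.Limits AlgebraicGeometry TopologicalSpace Opposite
open Groth.Agent.Lib Groth.Agent.Lib.RefHull Groth.Agent.Lib.RefHull.Generic
open Groth.Agent.Lib.RefHull.RankOne Groth.Agent.Lib.RefHull.Ord Groth.Agent.Lib.RefHull.Divisor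
open Groth.Agent.Lib.Modules.StalkModule Groth.Agent.Lib.Cyc.K0.Cycles

namespace Groth.Agent.H18.RefK0

variable {X : Scheme.{u}}

/-- The map `K₀(≤ a)/(≤ b) → K₀(≤ a')/(≤ b)` for `a ≤ a'`. -/
noncomputable def incl (δ : X → ℤ) {a a' : ℤ} (b : ℤ) (h : a ≤ a') :
    _root_.Cyc.K0CohQuot δ a b →+ _root_.Cyc.K0CohQuot δ a' b :=
  QuotientAddGroup.lift _
    (KRes.KSub.lift (fun A => _root_.Cyc.toK0CohQuot δ a' b A) fun _ hT h₁ h₂ h₃ =>
      mk_rel δ a' b hT ⟨h₁.1, fun x hx => (h₁.2 x hx).trans h⟩ ⟨h₂.1, fun x hx => (h₂.2 x hx).trans h⟩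
        ⟨h₃.1, fun x hx => (h₃.2 x hx).trans h⟩) <| by
    refine (AddSubgroup.closure_le _).2 ?_
    rintro c ⟨F, hF, rfl⟩
    show _ = _
    by_cases hFa : _root_.Cyc.CohLe δ a F
    · rw [KRes.KSub.lift_cl _ _ hFa, mk_eq_zero δ a' b hF]
    · rw [KZero.clSub, dif_neg hFa, map_zero]

theorem incl_cl (δ : X → ℤ) {a a' : ℤ} (b : ℤ) (h : a ≤ a') {F : X.Modules}
    (hF : _root_.Cyc.CohLe δ a F) :
    incl δ b h (_root_.Cyc.toK0CohQuot δ a b F) = _root_.Cyc.toK0CohQuot δ a' b F := by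
  rw [incl, _root_.Cyc.toK0CohQuot, QuotientAddGroup.lift_mk, KRes.KSub.lift_cl _ _ hF]

variable [IsIntegral X] [IsLocallyNoetherian X] {δ : X → ℤ} (hδ : _root_.Cyc.IsDimFun X δ)
  {k : ℤ} (hk : δ (genericPoint ↥X) = k)

include hδ hk in
theorem le_dim (x : X) : δ x ≤ k := hk ▸ Cyc.DimFun.le_of_specializes hδ (spec x)

include hδ hk in
theorem coheight_of_delta {y : X} (hy : δ y = k - 1) : Order.coheight y = 1 := by
  rw [← dim_eq_one_iff]
  refine (Cyc.DimFun.ringKrullDim_stalk hδ y).trans ?_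
  rw [hk, hy]
  norm_num

variable (hX : Pi1.IsNormalScheme X)

include hδ hk hX in
/-- A map of rank one reflexive modules matching two sections changes the class by a cycle. -/
theorem cl_sub {F G : X.Modules} (hF : RefHull.IsRef1 F) (hG : RefHull.IsRef1 G)
    {s : F.presheaf.stalk (genericPoint ↥X)} (hs : s ≠ 0)
    {t : G.presheaf.stalk (genericPoint ↥X)} (ht : t ≠ 0) {ψ : F ⟶ G}
    (hψ : RefHull.stalkMapₗ ψ (genericPoint ↥X) s = t) :
    ∃ C : X.Modules, _root_.Cyc.CohLe δ (k - 1) C ∧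
      _root_.Cyc.sheafFun δ (k - 1) C =
        (fun y => if δ y = k - 1 then secOrd G t y - secOrd F s y else 0) ∧
      _root_.Cyc.toK0CohQuot δ k (k - 2) G =
        _root_.Cyc.toK0CohQuot δ k (k - 2) F + _root_.Cyc.toK0CohQuot δ k (k - 2) C := by
  have hgen : Function.Injective (RefHull.stalkMapₗ ψ (genericPoint ↥X)) := by
    rw [injective_iff_map_eq_zero]
    intro w hw
    obtain ⟨a, rfl⟩ := span_of_ne_zero hF.2.2 hs w
    rw [map_smul, hψ] at hw
    rw [smul_left_injective' hG.2.2 ht (hw.trans (zero_smul _ t).symm), zero_smul]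
  haveI : Mono ψ := (mono_iff_stalkMapₗ_injective ψ).2 fun x a b h =>
    toGen_injective_of_isReflexive hF.1 hF.2.1 x (hgen (by
      rw [← toGen_stalkMap, ← toGen_stalkMap]; exact congrArg (toGen G x) h))
  have hC : Coh.IsCoh (cokernel ψ) := CohBasics.Closure.isCoh_cokernel ψ hF.1.1 hG.1
  have hπ : ∀ y, Function.Surjective (RefHull.stalkMapₗ (cokernel.π ψ) y) :=
    fun y => (epi_iff_stalkMapₗ_surjective (cokernel.π ψ)).1 inferInstance y
  have hex : ∀ y (v : G.presheaf.stalk y), RefHull.stalkMapₗ (cokernel.π ψ) y v = 0 ↔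
      ∃ m, RefHull.stalkMapₗ ψ y m = v := fun y v =>
    ⟨fun hv => (Modif.exact_stalk ψ (cokernel.π ψ) (cokernel.condition ψ)
      (Cyc.Dev.Basic.shortExact_of_mono ψ).exact inferInstance y).1 v hv,
     fun ⟨m, hm⟩ => by
      rw [← hm]
      have := LinearMap.congr_fun (stalkMapₗ_comp ψ (cokernel.π ψ) y) m
      rw [cokernel.condition, stalkMapₗ_zero] at this
      exact this.symm⟩
  have hCle : _root_.Cyc.CohLe δ (k - 1) (cokernel ψ) := by
    refine ⟨hC, fun y hy => ?_⟩
    by_contra hcon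
    have hyk : δ y = k := by have := le_dim hδ hk y; omega
    obtain rfl : genericPoint ↥X = y :=
      Cyc.DimFun.eq_of_specializes_of_le hδ (spec y) (by rw [hk, hyk])
    obtain ⟨v, hv⟩ := exists_ne (0 : (cokernel ψ).presheaf.stalk (genericPoint ↥X))
    obtain ⟨w, rfl⟩ := hπ _ v
    obtain ⟨a, rfl⟩ := span_of_ne_zero hG.2.2 ht w
    exact hv ((hex _ _).2 ⟨a • s, by rw [map_smul, hψ]⟩)
  refine ⟨cokernel ψ, hCle, funext fun y => ?_, ?_⟩
  · simp only [_root_.Cyc.sheafFun]
    split_ifs with hy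
    · have h1 := coheight_of_delta hδ hk hy
      obtain ⟨a, ha, ha0⟩ := exists_generator hX h1 hF
      obtain ⟨b, hb, hb0⟩ := exists_generator hX h1 hG
      obtain ⟨c, hc⟩ := Submodule.mem_span_singleton.1
        (show RefHull.stalkMapₗ ψ y a ∈ Submodule.span (X.presheaf.stalk y) {b} by rw [hb]; trivial)
      obtain ⟨φ, hφ⟩ := span_of_ne_zero hF.2.2 ha0 s
      have ht' : (φ * algebraMap (X.presheaf.stalk y) X.functionField c) • toGen G y b = t := by
        rw [mul_smul, ← toGen_smul, hc, toGen_stalkMap, ← map_smul, hφ, hψ]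
      have hc0 : c ≠ 0 := fun h => ha0 (hgen (by
        rw [map_zero, ← toGen_stalkMap, ← hc, h, zero_smul, map_zero]))
      have hφ0 : φ ≠ 0 := fun h => hs (by rw [← hφ, h, zero_smul])
      let f := (RefHull.stalkMapₗ (cokernel.π ψ) y).comp
        (LinearMap.toSpanSingleton (X.presheaf.stalk y) _ b)
      have hf : Function.Surjective f := fun v => by
        obtain ⟨w, rfl⟩ := hπ y v
        obtain ⟨r, rfl⟩ := Submodule.mem_span_singleton.1
          (show w ∈ Submodule.span (X.presheaf.stalk y) {b} by rw [hb]; trivial)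
        exact ⟨r, rfl⟩
      have hinj : Function.Injective fun r : X.presheaf.stalk y => r • b := fun r r' e => by
        refine IsFractionRing.injective (X.presheaf.stalk y) X.functionField
          (smul_left_injective' hG.2.2 hb0 ?_)
        rw [← toGen_smul, ← toGen_smul]
        exact congrArg (toGen G y) e
      have hker : LinearMap.ker f = Ideal.span {c} := by
        ext r
        rw [LinearMap.mem_ker, Ideal.mem_span_singleton']
        refine (hex y (r • b)).trans ⟨fun ⟨m, hm⟩ => ?_, fun ⟨r', hr'⟩ => ⟨r' • a, ?_⟩⟩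
        · obtain ⟨r', rfl⟩ := Submodule.mem_span_singleton.1
            (show m ∈ Submodule.span (X.presheaf.stalk y) {a} by rw [ha]; trivial)
          refine ⟨r', hinj ?_⟩
          show (r' * c) • b = r • b
          rw [mul_smul, hc, ← map_smul, hm]
        · rw [map_smul, ← hc, smul_smul, hr']
      have hlen : Module.length (X.presheaf.stalk y) ((cokernel ψ).presheaf.stalk y) =
          Ring.ord (X.presheaf.stalk y) c :=
        ((LinearMap.quotKerEquivOfSurjective f hf).symm.trans (Submodule.quotEquivOfEq _ _ hker)).length_eq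
      rw [hlen, secOrd_eq hX h1 hG.2.2 hb ht ht', secOrd_eq hX h1 hF.2.2 ha hs hφ,
        Scheme.ord_mul hφ0 (algebraMap_ne_zero hc0), ord_algebraMap' h1 hc0]
      ring
    · rfl
  · exact mk_rel δ k (k - 2) (Cyc.Dev.Basic.shortExact_of_mono ψ) ⟨hF.1, fun x _ => le_dim hδ hk x⟩
      ⟨hG.1, fun x _ => le_dim hδ hk x⟩ ⟨hC, fun x _ => le_dim hδ hk x⟩

include hδ hk hX in
/-- The change of class only depends on the difference of the divisors. -/
theorem cl_sub_eq {F G F' G' : X.Modules} (hF : RefHull.IsRef1 F) (hG : RefHull.IsRef1 G)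
    (hF' : RefHull.IsRef1 F') (hG' : RefHull.IsRef1 G')
    {s : F.presheaf.stalk (genericPoint ↥X)} (hs : s ≠ 0)
    {t : G.presheaf.stalk (genericPoint ↥X)} (ht : t ≠ 0)
    {s' : F'.presheaf.stalk (genericPoint ↥X)} (hs' : s' ≠ 0)
    {t' : G'.presheaf.stalk (genericPoint ↥X)} (ht' : t' ≠ 0)
    (hle : ∀ y : X, Order.coheight y = 1 → secOrd F s y ≤ secOrd G t y)
    (heq : ∀ y : X, Order.coheight y = 1 →
      secOrd G t y - secOrd F s y = secOrd G' t' y - secOrd F' s' y) :
    _root_.Cyc.toK0CohQuot δ k (k - 2) G - _root_.Cyc.toK0CohQuot δ k (k - 2) F =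
      _root_.Cyc.toK0CohQuot δ k (k - 2) G' - _root_.Cyc.toK0CohQuot δ k (k - 2) F' := by
  obtain ⟨ψ, hψ⟩ := exists_map hX hF hG hs ht hle
  obtain ⟨ψ', hψ'⟩ := exists_map hX hF' hG' hs' ht' fun y hy => by
    have := hle y hy
    have := heq y hy
    omega
  obtain ⟨C, hC, hfun, hcl⟩ := cl_sub hδ hk hX hF hG hs ht hψ
  obtain ⟨C', hC', hfun', hcl'⟩ := cl_sub hδ hk hX hF' hG' hs' ht' hψ'
  have hff : _root_.Cyc.sheafFun δ (k - 1) C = _root_.Cyc.sheafFun δ (k - 1) C' := by
    rw [hfun, hfun']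
    funext y
    split_ifs with hy
    · exact heq y (coheight_of_delta hδ hk hy)
    · rfl
  have e : _root_.Cyc.toK0CohQuot δ (k - 1) (k - 1 - 1) C =
      _root_.Cyc.toK0CohQuot δ (k - 1) (k - 1 - 1) C' := by
    rw [cl_eq_cycleSheaf (k - 1) hδ hC, cl_eq_cycleSheaf (k - 1) hδ hC', hff]
  rw [show k - 1 - 1 = k - 2 by ring] at e
  have e' := congrArg (incl δ (a' := k) (k - 2) (by omega)) e
  rw [incl_cl δ _ _ hC, incl_cl δ _ _ hC'] at e'
  rw [hcl, hcl', e', add_sub_cancel_left, add_sub_cancel_left]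

include hδ hk hX in
/-- The class is additive for the reflexive tensor product. -/
theorem cl_refTensor {A B : X.Modules} (hA : RefHull.IsRef1 A) (hB : RefHull.IsRef1 B) :
    _root_.Cyc.toK0CohQuot δ k (k - 2) (RefPow.refTensor A B) +
        _root_.Cyc.toK0CohQuot δ k (k - 2) (Coh.structureModule X) =
      _root_.Cyc.toK0CohQuot δ k (k - 2) A + _root_.Cyc.toK0CohQuot δ k (k - 2) B := by
  obtain ⟨s, hs, -⟩ := exists_basis_generic hA.2.2
  obtain ⟨t, ht, -⟩ := exists_basis_generic hB.2.2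
  obtain ⟨o, ho, ho'⟩ := Group.one_section hX
  have hD : DivSheaf.IsDiv (fun y => - |secOrd B t y|) := fun U hU =>
    (finite_support hX hB ht hU).subset fun y ⟨h1, h2, h3⟩ => ⟨h1, h2, fun h => h3 (by simp [h])⟩
  have hM : RefHull.IsRef1 (DivSheaf.divSh hX (fun y => - |secOrd B t y|)) := DivRef.isRef1 hX hD
  obtain ⟨m, hm, hm'⟩ := DivRef.exists_section hX hD
  obtain ⟨hT, hT0, hT'⟩ := DivRef.refTensor_spec hX hA hB hs ht
  obtain ⟨hP, hP0, hP'⟩ := DivRef.refTensor_spec hX hA hM hs hm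
  have hO := Group.isRef1_structure (X := X)
  have e1 := cl_sub_eq hδ hk hX hP hT hM hB hP0 hT0 hm ht
    (fun y hy => by
      rw [hP' y hy, hT' y hy, hm' y hy]
      linarith [neg_abs_le (secOrd B t y)])
    (fun y hy => by rw [hP' y hy, hT' y hy]; ring)
  have e2 := cl_sub_eq hδ hk hX hP hA hM hO hP0 hs hm ho
    (fun y hy => by
      rw [hP' y hy, hm' y hy]
      linarith [abs_nonneg (secOrd B t y)])
    (fun y hy => by rw [hP' y hy, ho' y hy]; ring)
  rw [sub_eq_iff_eq_add] at e1 e2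
  change _root_.Cyc.toK0CohQuot δ k (k - 2) (RefHull.ddual (CohB1.tensorMod A B)) + _ = _
  rw [e1, e2]
  abel

end Groth.Agent.H18.RefK0
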