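import Groth.Agent.H18.K0Diff
import Groth.Agent.Lib.Cyc.FieldDim
import Groth.Agent.Lib.Snapper.Finite
import Groth.Agent.Lib.Snapper.Poly
import Groth.Agent.Lib.ProjSpace.Basic
import Groth.Agent.Lib.RefHull.DivTwist
import Groth.Agent.Lib.TensorMod.TensorInv

/-!
# Intersection numbers through `K₀(Coh)` on normal projective varieties
-/

set_option linter.style.haveILetI false
set_option autoImplicit false

universe u

open CategoryTheory CategoryTheory.Limits AlgebraicGeometry TopologicalSpace Opposite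
open Groth.Agent.Lib Groth.Agent.Lib.TensorMod.Basic
open Groth.Agent.Lib.RefHull

namespace Groth.Agent.H18.RefPair

open K0Diff

variable {k : Type u} [Field k] {X : Scheme.{u}} [X.Over (Spec (CommRingCat.of k))]

theorem proper_noetherian
    (hproj : ∃ (N : ℕ) (ι : X ⟶ CohB1.ProjSpace N k), IsClosedImmersion ι ∧
      ι ≫ CohB1.ProjSpace.toSpec N k = X ↘ Spec (CommRingCat.of k)) :
    IsProper (X ↘ Spec (CommRingCat.of k)) ∧ IsNoetherian X := by
  obtain ⟨N, ι, hι, he⟩ := hproj
  haveI : IsProper (X ↘ Spec (CommRingCat.of k)) := by rw [← he]; infer_instance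
  haveI : IsLocallyNoetherian X :=
    LocallyOfFiniteType.isLocallyNoetherian (X ↘ Spec (CommRingCat.of k))
  haveI : CompactSpace X := QuasiCompact.compactSpace_of_compactSpace (X ↘ Spec (CommRingCat.of k))
  exact ⟨inferInstance, ⟨⟩⟩

theorem exists_delta [IsIntegral X] [IsProper (X ↘ Spec (CommRingCat.of k))] (d : ℕ) :
    ∃ δ : X → ℤ, _root_.Cyc.IsDimFun X δ ∧ δ (genericPoint ↥X) = d := by
  haveI : IsLocallyNoetherian X :=
    LocallyOfFiniteType.isLocallyNoetherian (X ↘ Spec (CommRingCat.of k))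
  let f : X → ℤ := Cyc.FieldDim.fdelta (X ↘ Spec (CommRingCat.of k))
  have hf : _root_.Cyc.IsDimFun X f := Cyc.FieldDim.isDimFun_fdelta _
  refine ⟨fun x => f x - f (genericPoint ↥X) + d, fun x y h hne => ?_, by ring⟩
  obtain ⟨h1, h2⟩ := hf x y h hne
  refine ⟨by simp only; omega, fun h3 => ?_⟩
  have := h2 h3
  simp only
  omega

variable [IsNoetherian X] {δ : X → ℤ} {d : ℕ}

/-- The Euler characteristic on `K₀(Coh_{≤ d})`. -/
noncomputable def chi (hfin : Snapper.Chi.CohFinite k X) (hd : topologicalKrullDim X ≤ d) :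
    KZero.K0sub (_root_.Cyc.CohLe δ d) →+ ℤ :=
  KRes.KSub.lift (fun F => FGA.eulerCharLE k X F d) fun _ hS h₁ h₂ h₃ =>
    Snapper.Chi.eulerCharLE_add hfin hd hS h₁.1 h₂.1 h₃.1

variable (hδ : _root_.Cyc.IsDimFun X δ) (hfin : Snapper.Chi.CohFinite k X)
  (hd : topologicalKrullDim X ≤ d) (hle : ∀ x : X, δ x ≤ (d : ℤ))

include hle in
theorem intNum_eq {r : ℕ} (M : Fin r → X.Modules) (hM : ∀ i, PicF.IsInvertible (M i))
    {F : X.Modules} (hF : Coh.IsCoh F) :
    FGA.intNum k X d M F =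
      chi hfin hd (diffs δ d M hM (KZero.clSub (_root_.Cyc.CohLe δ d) F)) := by
  have hF' : _root_.Cyc.CohLe δ d F := ⟨hF, fun x _ => hle x⟩
  rw [← alt_eq_diffs M hM hF', alt, map_sum]
  refine Finset.sum_congr rfl fun I _ => ?_
  have hT : PicF.IsInvertible (FGA.tensorList ((I.sort (· ≤ ·)).map M)) :=
    Snapper.Poly.tensorList_invertible fun N hN => by
      obtain ⟨i, -, rfl⟩ := List.mem_map.1 hN
      exact hM i
  rw [map_zsmul, smul_eq_mul, chi, KRes.KSub.lift_cl _ _ (cohLe_twist hT hF')]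

variable [IsIntegral X] (hX : Pi1.IsNormalScheme X) (hη : δ (genericPoint ↥X) = (d : ℤ))

include hX in
theorem isRef1_refPow {F : X.Modules} (hF : RefHull.IsRef1 F) : ∀ m : ℕ,
    RefHull.IsRef1 (RefPow.refPow F m)
  | 0 => Group.isRef1_structure
  | 1 => hF
  | m + 2 =>
    let ih := isRef1_refPow hF (m + 1)
    (DivRef.refTensor_spec hX ih hF (RankOne.exists_basis_generic ih.2.2).choose_spec.1
      (RankOne.exists_basis_generic hF.2.2).choose_spec.1).1

include hX hη hδ in
/-- Modulo codimension two the class of a reflexive power is linear in the exponent. -/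
theorem cl_refPow {F : X.Modules} (hF : RefHull.IsRef1 F) : ∀ m : ℕ,
    KZero.clSub (_root_.Cyc.CohLe δ d) (RefPow.refPow F m) -
        KZero.clSub (_root_.Cyc.CohLe δ d) (Coh.structureModule X) -
      (m : ℤ) • (KZero.clSub (_root_.Cyc.CohLe δ d) F -
        KZero.clSub (_root_.Cyc.CohLe δ d) (Coh.structureModule X)) ∈ filt δ (d : ℤ) ((d : ℤ) - 2)
  | 0 => by simp
  | 1 => by simp
  | m + 2 => by
    have ih := cl_refPow hF (m + 1)
    have h := RefK0.cl_refTensor hδ hη hX (isRef1_refPow hX hF (m + 1)) hF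
    have h' : KZero.clSub (_root_.Cyc.CohLe δ d) (RefPow.refPow F (m + 2)) +
          KZero.clSub (_root_.Cyc.CohLe δ d) (Coh.structureModule X) -
        (KZero.clSub (_root_.Cyc.CohLe δ d) (RefPow.refPow F (m + 1)) +
          KZero.clSub (_root_.Cyc.CohLe δ d) F) ∈ filt δ (d : ℤ) ((d : ℤ) - 2) := by
      rw [mem_filt, QuotientAddGroup.mk_sub, QuotientAddGroup.mk_add, QuotientAddGroup.mk_add, sub_eq_zero]
      exact h
    convert add_mem h' ih using 1
    push_cast
    rw [add_smul, add_smul, show (2 : ℤ) = 1 + 1 from rfl, add_smul, one_smul]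
    abel

include hδ hη hX in
theorem cl_sub_structure {F : X.Modules} (hF : RefHull.IsRef1 F) :
    KZero.clSub (_root_.Cyc.CohLe δ d) F -
      KZero.clSub (_root_.Cyc.CohLe δ d) (Coh.structureModule X) ∈ filt δ (d : ℤ) ((d : ℤ) - 1) := by
  rw [mem_filt, QuotientAddGroup.mk_sub, sub_eq_zero]
  have hle' := RefK0.le_dim hδ hη
  change _root_.Cyc.toK0CohQuot δ (d : ℤ) ((d : ℤ) - 1) F =
    _root_.Cyc.toK0CohQuot δ (d : ℤ) ((d : ℤ) - 1) (Coh.structureModule X)
  obtain ⟨s, hs, -⟩ := RankOne.exists_basis_generic hF.2.2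
  have hO : RefHull.IsRef1 (Coh.structureModule X) := Group.isRef1_structure
  have hfun : _root_.Cyc.sheafFun δ (d : ℤ) F = _root_.Cyc.sheafFun δ (d : ℤ) (Coh.structureModule X) := by
    funext y
    simp only [_root_.Cyc.sheafFun]
    split_ifs with hy
    · obtain rfl : genericPoint ↥X = y :=
        Cyc.DimFun.eq_of_specializes_of_le hδ (Generic.spec y) (by omega)
      haveI : IsSimpleModule (X.presheaf.stalk (genericPoint ↥X)) (X.presheaf.stalk (genericPoint ↥X)) :=
        inferInstanceAs (IsSimpleModule X.functionField X.functionField)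
      obtain ⟨o, ho, ho'⟩ := RankOne.exists_basis_generic hO.2.2
      obtain ⟨t, ht, ht'⟩ := RankOne.exists_basis_generic hF.2.2
      have hb : Function.Bijective (LinearMap.toSpanSingleton (X.presheaf.stalk (genericPoint ↥X)) _ t) :=
        ⟨fun a b e => RankOne.smul_left_injective' hF.2.2 ht e, ht'⟩
      have hb' : Function.Bijective (LinearMap.toSpanSingleton (X.presheaf.stalk (genericPoint ↥X)) _ o) :=
        ⟨fun a b e => RankOne.smul_left_injective' hO.2.2 ho e, ho'⟩
      rw [← (LinearEquiv.ofBijective _ hb).length_eq, ← (LinearEquiv.ofBijective _ hb').length_eq]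
    · rfl
  rw [Cyc.K0.Cycles.cl_eq_cycleSheaf (d : ℤ) hδ ⟨hF.1, fun x _ => hle' x⟩,
    Cyc.K0.Cycles.cl_eq_cycleSheaf (d : ℤ) hδ ⟨hO.1, fun x _ => hle' x⟩, hfun]

include hX in
/-- Reflexive powers of a twist by an invertible module. -/
theorem refPow_twist {A B : X.Modules} (hA : RefHull.IsRef1 A) (hB : PicF.IsInvertible B) (m : ℕ) :
    Nonempty (RefPow.refPow (RefPow.refTensor A B) m ≅
      RefPow.refTensor (RefPow.refPow A m) (CohB1.tensorPow B m)) := by
  obtain ⟨s, hs, -⟩ := RankOne.exists_basis_generic hA.2.2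
  obtain ⟨t, ht, -⟩ := RankOne.exists_basis_generic (DivTwist.isRef1_of_isInvertible hB).2.2
  obtain ⟨hAB, hAB0, hAB'⟩ := DivRef.refTensor_spec hX hA (DivTwist.isRef1_of_isInvertible hB) hs ht
  have key : ∀ (F : X.Modules) (hF : RefHull.IsRef1 F) (v : F.presheaf.stalk (genericPoint ↥X)),
      v ≠ 0 → ∀ n : ℕ, ∃ w : (RefPow.refPow F n).presheaf.stalk (genericPoint ↥X), w ≠ 0 ∧
        ∀ y : X, Order.coheight y = 1 →
          Ord.secOrd (RefPow.refPow F n) w y = (n : ℤ) * Ord.secOrd F v y := by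
    intro F hF v hv n
    match n with
    | 0 =>
      obtain ⟨o, ho, ho'⟩ := Group.one_section hX
      exact ⟨o, ho, fun y hy => by rw [Nat.cast_zero, zero_mul]; exact ho' y hy⟩
    | 1 => exact ⟨v, hv, fun y hy => by rw [Nat.cast_one, one_mul]; rfl⟩
    | n + 2 =>
      induction n with
      | zero =>
        obtain ⟨-, h2, h3⟩ := DivRef.refTensor_spec hX hF hF hv hv
        exact ⟨_, h2, fun y hy => by refine (h3 y hy).trans ?_; push_cast; ring⟩
      | succ n ih =>
        obtain ⟨w, hw, hw'⟩ := ih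
        obtain ⟨-, h2, h3⟩ := DivRef.refTensor_spec hX (isRef1_refPow hX hF (n + 2)) hF hw hv
        exact ⟨_, h2, fun y hy => by refine (h3 y hy).trans ?_; rw [hw' y hy]; push_cast; ring⟩
  obtain ⟨w, hw, hw'⟩ := key _ hAB _ hAB0 m
  obtain ⟨a, ha, ha'⟩ := key A hA s hs m
  obtain ⟨hBm, b, hb, hb'⟩ := DivTwist.tensorPow_spec hX hB ht m
  obtain ⟨hR, hR0, hR'⟩ := DivRef.refTensor_spec hX (isRef1_refPow hX hA m)
    (DivTwist.isRef1_of_isInvertible hBm) ha hb
  obtain ⟨e, -⟩ := Divisor.exists_iso hX (isRef1_refPow hX hAB m) hR hw hR0 fun y hy => by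
    rw [hw' y hy, hR' y hy, ha' y hy, hb' y hy, hAB' y hy]; ring
  exact ⟨e⟩

include hX in
/-- Reflexive powers of an invertible module. -/
theorem refPow_invertible {B : X.Modules} (hB : PicF.IsInvertible B) : ∀ m : ℕ,
    Nonempty (RefPow.refPow B m ≅ CohB1.tensorPow B m)
  | 0 => ⟨Iso.refl _⟩
  | 1 => ⟨(leftUnit B).symm⟩
  | m + 2 => by
    obtain ⟨e⟩ := refPow_invertible hB (m + 1)
    have h : PicF.IsInvertible (CohB1.tensorMod (RefPow.refPow B (m + 1)) B) :=
      TensorMod.Invertible.isInvertible_of_iso (tensorIso e (Iso.refl B)).symm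
        (TensorMod.Invertible.isInvertible_tensorPow hB (m + 2))
    haveI : IsIso (RefHull.bidualMap (CohB1.tensorMod (RefPow.refPow B (m + 1)) B)) :=
      (DivTwist.isRef1_of_isInvertible h).2.1
    exact ⟨(asIso (RefHull.bidualMap (CohB1.tensorMod (RefPow.refPow B (m + 1)) B))).symm ≪≫
      tensorIso e (Iso.refl B)⟩

include hX in
/-- Reflexive powers of a twist, without the double dual. -/
theorem refPow_twist' {A B : X.Modules} (hA : RefHull.IsRef1 A) (hB : PicF.IsInvertible B) (m : ℕ) :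
    Nonempty (RefPow.refPow (RefPow.refTensor A B) m ≅
      CohB1.tensorMod (CohB1.tensorPow B m) (RefPow.refPow A m)) := by
  obtain ⟨e⟩ := refPow_twist hX hA hB m
  have hP := isRef1_refPow hX hA m
  have hBm := TensorMod.Invertible.isInvertible_tensorPow hB m
  have hc : Coh.IsCoh (CohB1.tensorMod (RefPow.refPow A m) (CohB1.tensorPow B m)) :=
    CohBasics.Closure.isCoh_of_iso (comm _ _) (Snapper.Twist.isCoh_twist hBm hP.1)
  haveI : IsIso (RefHull.bidualMap (CohB1.tensorMod (RefPow.refPow A m) (CohB1.tensorPow B m))) :=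
    (Reflexive.isReflexive_iff_forall hc).mpr fun x => by
      obtain ⟨f⟩ := Snapper.Twist.exists_stalkEquiv_twist hBm (RefPow.refPow A m) x
      let g := Modules.StalkModule.stalkLinearEquiv (comm (RefPow.refPow A m) (CohB1.tensorPow B m)) x
      haveI : Module.IsReflexive (X.presheaf.stalk x) ((RefPow.refPow A m).presheaf.stalk x) :=
        (Reflexive.isReflexive_iff_forall hP.1).mp hP.2.1 x
      exact Module.equiv (g.trans f).symm
  exact ⟨e ≪≫ (asIso (RefHull.bidualMap
    (CohB1.tensorMod (RefPow.refPow A m) (CohB1.tensorPow B m)))).symm ≪≫ comm _ _⟩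

omit [X.Over (Spec (CommRingCat.of k))] [AlgebraicGeometry.IsIntegral X] [AlgebraicGeometry.IsNoetherian X] in
theorem mem_filt_top (x : KZero.K0sub (_root_.Cyc.CohLe δ d)) : x ∈ filt δ (d : ℤ) (d : ℤ) := by
  have h : filt δ (d : ℤ) (d : ℤ) = ⊤ :=
    KRes.KSub.closure_eq_top fun F hF => AddSubgroup.subset_closure ⟨F, hF, rfl⟩
  rw [h]
  trivial

omit [X.Over (Spec (CommRingCat.of k))] [IsIntegral X] in
theorem diffs_cons {r : ℕ} (C : X.Modules) (hC : PicF.IsInvertible C) (M : Fin r → X.Modules)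
    (hM : ∀ i, PicF.IsInvertible (M i))
    (h : ∀ i, PicF.IsInvertible ((Fin.cons C M : Fin (r + 1) → X.Modules) i))
    (x : KZero.K0sub (_root_.Cyc.CohLe δ d)) :
    diffs δ (d : ℤ) (Fin.cons C M : Fin (r + 1) → X.Modules) h x =
      diffs δ (d : ℤ) M hM (diff δ (d : ℤ) hC x) := rfl

omit [X.Over (Spec (CommRingCat.of k))] [IsIntegral X] in
theorem isInvertible_cons {r : ℕ} {C : X.Modules} (hC : PicF.IsInvertible C) {M : Fin r → X.Modules}
    (hM : ∀ i, PicF.IsInvertible (M i)) (i : Fin (r + 1)) :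
    PicF.IsInvertible ((Fin.cons C M : Fin (r + 1) → X.Modules) i) := by
  cases i using Fin.cases with
  | zero => simpa using hC
  | succ i => simpa using hM i

/-- The intersection functional of a family. -/
noncomputable def phi (hfin : Snapper.Chi.CohFinite k X) (hd : topologicalKrullDim X ≤ d) {r : ℕ}
    (M : Fin r → X.Modules) (hM : ∀ i, PicF.IsInvertible (M i)) :
    KZero.K0sub (_root_.Cyc.CohLe δ d) →+ ℤ :=
  (chi hfin hd).comp (diffs δ d M hM)

include hδ hη hd in
theorem phi_eq_zero {r : ℕ} (M : Fin r → X.Modules) (hM : ∀ i, PicF.IsInvertible (M i)) {j : ℤ}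
    (hj : j ≤ (d : ℤ)) (hjr : j < (r : ℤ)) {x : KZero.K0sub (_root_.Cyc.CohLe δ d)}
    (hx : x ∈ filt δ (d : ℤ) j) : phi hfin hd M hM x = 0 := by
  rw [phi, AddMonoidHom.comp_apply,
    eq_zero_of_mem_filt (fun y => ?_) (diffs_mem hδ M hM hj hx), map_zero]
  have := nonneg_of_setup hδ hd hη y
  omega

include hδ hη hd in
/-- The expansion of a twist by a power of an invertible module. -/
theorem phi_pow {r : ℕ} (hr : r + 2 = d) (M : Fin r → X.Modules) (hM : ∀ i, PicF.IsInvertible (M i))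
    {B C : X.Modules} (hB : PicF.IsInvertible B) (hC : PicF.IsInvertible C)
    (e : CohB1.tensorMod B C ≅ Coh.structureModule X)
    {F : X.Modules} (hF : Coh.IsCoh F) : ∀ m : ℕ,
    let φ := phi (δ := δ) hfin hd M hM
    let D := diff δ (d : ℤ) hC
    let x := KZero.clSub (_root_.Cyc.CohLe δ d) F
    let y := KZero.clSub (_root_.Cyc.CohLe δ d) (CohB1.tensorMod (CohB1.tensorPow B m) F)
    φ (D (D y)) = φ (D (D x)) ∧ φ (D y) = φ (D x) + m * φ (D (D x)) ∧
      2 * φ y = 2 * φ x + 2 * m * φ (D x) + m * (m + 1) * φ (D (D x))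
  | 0 => by
    dsimp only
    have h : KZero.clSub (_root_.Cyc.CohLe δ d) (CohB1.tensorMod (CohB1.tensorPow B 0) F) =
        KZero.clSub (_root_.Cyc.CohLe δ d) F := K0Diff.cl_iso (leftUnit F) inferInstance
    rw [h]
    simp
  | m + 1 => by
    have hle := RefK0.le_dim hδ hη
    obtain ⟨h2, h1, h0⟩ := phi_pow hr M hM hB hC e hF m
    dsimp only at h2 h1 h0 ⊢
    set D := diff δ (d : ℤ) hC with hD
    set φ := phi (δ := δ) hfin hd M hM with hφ
    set x := KZero.clSub (_root_.Cyc.CohLe δ d) F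
    set y := KZero.clSub (_root_.Cyc.CohLe δ d) (CohB1.tensorMod (CohB1.tensorPow B m) F) with hy
    set z := KZero.clSub (_root_.Cyc.CohLe δ d) (CohB1.tensorMod (CohB1.tensorPow B (m + 1)) F) with hz
    have hrec : D z = z - y := by
      have hc : _root_.Cyc.CohLe δ d (CohB1.tensorMod (CohB1.tensorPow B (m + 1)) F) :=
        ⟨Snapper.Twist.isCoh_twist (TensorMod.Invertible.isInvertible_tensorPow hB (m + 1)) hF,
          fun p _ => hle p⟩
      rw [hD, hz, diff_cl hC hc, hy]
      congr 1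
      refine K0Diff.cl_iso ((assoc C (CohB1.tensorPow B (m + 1)) F).symm ≪≫ tensorIso ?_ (Iso.refl F)) inferInstance
      exact (comm C (CohB1.tensorPow B (m + 1))) ≪≫ assoc (CohB1.tensorPow B m) B C ≪≫
        tensorIso (Iso.refl _) e ≪≫ comm _ _ ≪≫ leftUnit _
    have h3 : φ (D (D (D z))) = 0 :=
      phi_eq_zero hδ hfin hd hη M hM (j := (d : ℤ) - 1 - 1 - 1) (by omega) (by omega)
        (diff_mem hδ hC (by omega) (diff_mem hδ hC (by omega) (diff_mem hδ hC le_rfl (mem_filt_top z))))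
    have e2 : φ (D (D (D z))) = φ (D (D z)) - φ (D (D y)) :=
      (congrArg (fun v => φ (D (D v))) hrec).trans (by simp only [map_sub])
    have e1 : φ (D (D z)) = φ (D z) - φ (D y) :=
      (congrArg (fun v => φ (D v)) hrec).trans (by simp only [map_sub])
    have e0 : φ (D z) = φ z - φ y := by rw [hrec, map_sub]
    refine ⟨by linarith, by push_cast; linarith, ?_⟩
    push_cast
    linear_combination (-2) * e0 + (-2) * e1 + (-2) * e2 + 2 * h3 + h0 + 2 * h1 + 2 * h2

end Groth.Agent.H18.RefPair
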