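import Groth.Agent.Lib.QDepth.Sk
import Groth.Agent.Lib.Excellent.Transport
import Groth.Agent.Lib.Regular.UFD
import Mathlib.RingTheory.DiscreteValuationRing.TFAE
import Mathlib.RingTheory.KrullDimension.Zero
import Mathlib.RingTheory.LocalProperties.Reduced
import Groth.Agent.Lib.Regular.Quotient
import Mathlib.RingTheory.Ideal.KrullsHeightTheorem

/-!
Serre's criteria for reducedness and normality.
-/

set_option autoImplicit false

universe u

open LocCoh IsLocalRing Pointwise RingTheory.Sequence
open Groth.Agent.Lib.Depth Groth.Agent.Lib.Excellent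

namespace Groth.Agent.H18.SerreCrit

/-- The depth bound `S_k` at the closed point of a local ring. -/
def SkPt (k : ℕ) (A : Type u) [CommRing A] : Prop :=
  ∀ _ : IsLocalRing A, ∀ j : ℕ, j ≤ k → (j : WithBot ℕ∞) ≤ ringKrullDim A → (j : ℕ∞) ≤ depth A A

/-- The regularity bound `R_k` at the closed point of a local ring. -/
def RkPt (k : ℕ) (A : Type u) [CommRing A] : Prop :=
  ringKrullDim A ≤ (k : WithBot ℕ∞) → IsRegularLocalRing A

theorem isoInvariant_skPt (k : ℕ) : FormalFibre.IsoInvariant.{u} (fun A [CommRing A] => SkPt k A) := by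
  intro R S _ _ e h _ j hj hd
  have : IsLocalRing R := e.symm.isLocalRing
  rw [← ringKrullDim_eq_of_ringEquiv e] at hd
  have := h inferInstance j hj hd
  rw [depth, Transport.idealDepth_eq_of_ringEquiv e] at this
  rw [depth]
  convert! this using 2
  exact (IsLocalRing.map_ringEquiv_maximalIdeal e).symm

theorem isoInvariant_rkPt (k : ℕ) : FormalFibre.IsoInvariant.{u} (fun A [CommRing A] => RkPt k A) := by
  intro R S _ _ e h hd
  rw [← ringKrullDim_eq_of_ringEquiv e] at hd
  have := h hd
  exact IsRegularLocalRing.of_ringEquiv e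

theorem hasRk_iff (k : ℕ) (R : Type u) [CommRing R] :
    HasRk k R ↔ ∀ (p : Ideal R) [p.IsPrime], RkPt k (Localization.AtPrime p) := by
  refine forall_congr' fun p => forall_congr' fun hp => ?_
  unfold RkPt
  rw [IsLocalization.AtPrime.ringKrullDim_eq_height p]
  exact imp_congr_left WithBot.coe_le_coe.symm

theorem supportDim_localized_self (R : Type u) [CommRing R] (p : Ideal R) [p.IsPrime] :
    Module.supportDim (Localization.AtPrime p) (LocalizedModule p.primeCompl R) =
      ringKrullDim (Localization.AtPrime p) := by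
  rw [← Module.supportDim_self_eq_ringKrullDim]

theorem depth_localized_self (R : Type u) [CommRing R] (p : Ideal R) [p.IsPrime] :
    depth (Localization.AtPrime p) (LocalizedModule p.primeCompl R) =
      depth (Localization.AtPrime p) (Localization.AtPrime p) :=
  Basic.depth_congr (LinearEquiv.refl _ _)

theorem hasSk_iff (k : ℕ) (R : Type u) [CommRing R] [IsNoetherianRing R] :
    HasSk k R R ↔ ∀ (p : Ideal R) [p.IsPrime], SkPt k (Localization.AtPrime p) := by
  constructor
  · intro h p _ _ j hj hd
    exact (Groth.Agent.Lib.QDepth.le_depth_of_hasSk h p hj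
      (by rw [supportDim_localized_self]; exact_mod_cast hd)).trans (depth_localized_self R p).le
  · intro h
    refine Groth.Agent.Lib.QDepth.hasSk_of_forall fun p _ j hj hd => ?_
    rw [supportDim_localized_self] at hd
    exact (h p inferInstance j hj (by exact_mod_cast hd)).trans (depth_localized_self R p).ge

theorem succ_le_of_not_le {x : WithBot ℕ∞} (n : ℕ) (h : ¬ x ≤ (n : WithBot ℕ∞)) :
    ((n + 1 : ℕ) : WithBot ℕ∞) ≤ x := by
  cases x with
  | bot => exact absurd bot_le h
  | coe x =>
    change ((((n + 1 : ℕ)) : ℕ∞) : WithBot ℕ∞) ≤ x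
    change ¬ (x : WithBot ℕ∞) ≤ (((n : ℕ) : ℕ∞) : WithBot ℕ∞) at h
    rw [WithBot.coe_le_coe] at h ⊢
    rw [Nat.cast_succ, ENat.add_one_le_iff (ENat.natCast_ne_top n)]
    exact not_le.mp h

variable {R : Type u} [CommRing R] [IsNoetherianRing R]

theorem isRegularLocalRing_of_isField {A : Type u} [CommRing A] (h : IsField A) :
    IsRegularLocalRing A := by
  let := h.toField
  infer_instance

theorem isField_of_reduced_dim_zero {A : Type u} [CommRing A] [IsLocalRing A] [IsReduced A]
    (hd : ringKrullDim A ≤ 0) : IsField A := by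
  have : Ring.KrullDimLE 0 A := Ring.krullDimLE_iff.mpr (by simpa using hd)
  exact Ring.KrullDimLE.isField_of_isReduced

/-- A reduced local ring of positive dimension has positive depth. -/
theorem one_le_depth_of_reduced {A : Type u} [CommRing A] [IsLocalRing A] [IsNoetherianRing A]
    [IsReduced A] (hd : 1 ≤ ringKrullDim A) : 1 ≤ depth A A := by
  rw [Order.one_le_iff_ne_zero]
  intro h0
  obtain ⟨-, z, hz⟩ := (isAssociatedPrime_iff_exists_injective_linearMap _ _).mp
    ((Assoc.depth_eq_zero_iff (R := A) A).mp h0)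
  have hz0 : z 1 ≠ 0 := fun h => one_ne_zero (hz (by rw [h, map_zero]))
  have hann : ∀ r ∈ maximalIdeal A, r * z 1 = 0 := fun r hr => by
    rw [← smul_eq_mul, ← map_smul, Algebra.smul_def, mul_one, Ideal.Quotient.algebraMap_eq,
      Ideal.Quotient.eq_zero_iff_mem.mpr hr, map_zero]
  by_cases hu : IsUnit (z 1)
  · have hbot : maximalIdeal A = ⊥ := by
      rw [eq_bot_iff]
      intro r hr
      exact (hu.mul_left_eq_zero).mp (hann r hr)
    have : ringKrullDim A ≤ 0 := by
      rw [← maximalIdeal_height_eq_ringKrullDim, hbot]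
      have : (⊥ : Ideal A).IsPrime := hbot ▸ (maximalIdeal.isMaximal A).isPrime
      have h2 : (⊥ : Ideal A).height ≤ 0 :=
        le_of_eq (Ideal.height_eq_zero_iff.mpr
          ⟨⟨this, le_rfl⟩, fun _ _ _ => bot_le⟩)
      exact_mod_cast h2
    exact absurd (hd.trans this) (by norm_num)
  · exact hz0 (pow_eq_zero_iff (n := 2) (by omega) |>.mp (by rw [sq]; exact hann _ hu))

theorem isReduced_iff : IsReduced R ↔ HasRk 0 R ∧ HasSk 1 R R := by
  constructor
  · intro _
    refine ⟨(hasRk_iff 0 R).mpr fun p _ hd => isRegularLocalRing_of_isField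
      (isField_of_reduced_dim_zero (by simpa using hd)), (hasSk_iff 1 R).mpr fun p _ _ j hj hd => ?_⟩
    rcases Nat.le_one_iff_eq_zero_or_eq_one.mp hj with rfl | rfl
    · simp
    · simpa using one_le_depth_of_reduced (A := Localization.AtPrime p) (by simpa using hd)
  · rintro ⟨hR, hS⟩
    rw [hasRk_iff] at hR
    rw [hasSk_iff] at hS
    refine ⟨fun x hx => ?_⟩
    by_contra hx0
    obtain ⟨P, hP, hle⟩ := exists_le_isAssociatedPrime_of_isNoetherianRing R x hx0
    have := IsAssociatedPrime.isPrime hP
    have hassP := Module.associatedPrimes.mem_associatedPrimes_atPrime_of_mem_associatedPrimes hP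
    have hdepth : depth (Localization.AtPrime P) (Localization.AtPrime P) = 0 := by
      rw [← depth_localized_self]
      have : Nontrivial (LocalizedModule P.primeCompl R) :=
        inferInstanceAs (Nontrivial (Localization.AtPrime P))
      exact (Assoc.depth_eq_zero_iff _).mpr hassP
    have hdim : ringKrullDim (Localization.AtPrime P) ≤ ((0 : ℕ) : WithBot ℕ∞) := by
      by_contra hc
      have := hS P inferInstance 1 le_rfl (succ_le_of_not_le 0 hc)
      rw [hdepth] at this
      simp at this
    have := hR P hdim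
    have := Groth.Agent.Lib.Regular.Quotient.isDomain (Localization.AtPrime P)
    have h0 : algebraMap R (Localization.AtPrime P) x = 0 :=
      (hx.map (algebraMap R (Localization.AtPrime P))).eq_zero
    obtain ⟨⟨s, hs⟩, hs0⟩ := (IsLocalization.map_eq_zero_iff P.primeCompl _ _).mp h0
    exact hs (hle (by simpa [Submodule.mem_colon_singleton] using hs0))

/-- A normal local domain of dimension at most one is regular. -/
theorem isRegularLocalRing_of_normal {A : Type u} [CommRing A] [IsLocalRing A] [IsNoetherianRing A]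
    [IsDomain A] [IsIntegrallyClosed A] (hd : ringKrullDim A ≤ 1) : IsRegularLocalRing A := by
  have h4 : IsIntegrallyClosed A ∧ ∀ P : Ideal A, P ≠ ⊥ → P.IsPrime → P = maximalIdeal A := by
    refine ⟨inferInstance, fun P hP _ => ?_⟩
    by_contra hne
    have hlt : P < maximalIdeal A := lt_of_le_of_ne (le_maximalIdeal Ideal.IsPrime.ne_top') hne
    have h1 := Ideal.height_add_one_le_of_lt_of_isPrime hlt
    have h2 : (⊥ : Ideal A).height + 1 ≤ P.height :=
      Ideal.height_add_one_le_of_lt_of_isPrime (bot_lt_iff_ne_bot.mpr hP)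
    rw [← maximalIdeal_height_eq_ringKrullDim] at hd
    have h3 : (maximalIdeal A).height ≤ 1 := by exact_mod_cast hd
    have h5 : ((⊥ : Ideal A).height + 1) + 1 ≤ 1 :=
      ((add_le_add h2 le_rfl).trans h1).trans h3
    have h6 : (1 : ℕ∞) + 1 ≤ 1 := (add_le_add le_add_self le_rfl).trans h5
    exact absurd h6 (by norm_num)
  have : IsPrincipalIdealRing A :=
    ((tfae_of_isNoetherianRing_of_isLocalRing_of_isDomain A).out 3 0).mp h4
  infer_instance

/-- A normal local domain of dimension at least two has depth at least two. -/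
theorem two_le_depth_of_normal {A : Type u} [CommRing A] [IsLocalRing A] [IsNoetherianRing A]
    [IsDomain A] [IsIntegrallyClosed A] (hd : (2 : WithBot ℕ∞) ≤ ringKrullDim A) : 2 ≤ depth A A := by
  obtain ⟨a, ham, ha0⟩ : ∃ a ∈ maximalIdeal A, a ≠ (0 : A) := by
    by_contra! h
    have hbot : maximalIdeal A = ⊥ := eq_bot_iff.mpr fun x hx => h x hx
    have h1 : ringKrullDim A ≤ 0 := by
      rw [← maximalIdeal_height_eq_ringKrullDim, hbot, Ideal.height_bot]
      simp
    exact absurd (hd.trans h1) (by norm_num)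
  have hreg : IsSMulRegular A a := fun x y h => mul_left_cancel₀ ha0 h
  suffices h1 : 1 ≤ idealDepth (maximalIdeal A) (QuotSMulTop a A) by
    have := SES.idealDepth_quotSMulTop (maximalIdeal A) ham hreg
    change idealDepth (maximalIdeal A) (QuotSMulTop a A) + 1 = depth A A at this
    rw [← this, ← one_add_one_eq_two]
    exact add_le_add h1 le_rfl
  rw [Assoc.one_le_idealDepth_iff_forall]
  refine Or.inr fun P hP hle => ?_
  obtain rfl : P = maximalIdeal A :=
    ((maximalIdeal.isMaximal A).eq_of_le (IsAssociatedPrime.isPrime hP).ne_top hle).symm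
  obtain ⟨-, z, hz⟩ := (isAssociatedPrime_iff_exists_injective_linearMap _ _).mp hP
  obtain ⟨b, hb⟩ := Submodule.mkQ_surjective _ (z 1)
  have hz0 : z 1 ≠ 0 := fun h => one_ne_zero (hz (by rw [h, map_zero]))
  have hb2 : ∀ k : A, k * a ≠ b := by
    intro k hk
    refine hz0 (hb ▸ (Submodule.Quotient.mk_eq_zero _).mpr ?_)
    exact (Submodule.mem_smul_pointwise_iff_exists _ _ _).mpr ⟨k, trivial, by rw [smul_eq_mul, mul_comm, hk]⟩
  have hb3 : ∀ m ∈ maximalIdeal A, ∃ k : A, k * a = b * m := by
    intro m hm
    have h1 : m • z 1 = 0 := by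
      rw [← map_smul, Algebra.smul_def, mul_one, Ideal.Quotient.algebraMap_eq,
        Ideal.Quotient.eq_zero_iff_mem.mpr hm, map_zero]
    rw [← hb, ← map_smul, Submodule.mkQ_apply, Submodule.Quotient.mk_eq_zero,
      Submodule.mem_smul_pointwise_iff_exists] at h1
    obtain ⟨k, -, hk⟩ := h1
    exact ⟨k, by simpa [mul_comm] using hk⟩
  let K := FractionRing A
  let x : K := algebraMap A K b / algebraMap A K a
  have ha' : algebraMap A K a ≠ 0 := IsFractionRing.to_map_eq_zero_iff.not.mpr ha0
  have hxm : ∀ m k : A, k * a = b * m → x * algebraMap A K m = algebraMap A K k := by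
    intro m k hk
    rw [← mul_div_right_comm, ← map_mul, ← hk, map_mul, mul_div_cancel_right₀ _ ha']
  by_cases hmm : ∀ m ∈ maximalIdeal A, ∀ k : A, k * a = b * m → k ∈ maximalIdeal A
  · let M := Submodule.map (Algebra.linearMap A K) (maximalIdeal A)
    have hint : IsIntegral A x := isIntegral_of_smul_mem_submodule M
      ((Submodule.ne_bot_iff _).mpr ⟨_, ⟨a, ham, rfl⟩, ha'⟩)
      (Submodule.FG.map _ (IsNoetherian.noetherian _)) x (by
        rintro _ ⟨m, hm, rfl⟩
        obtain ⟨k, hk⟩ := hb3 m hm
        exact ⟨k, hmm m hm k hk, (hxm m k hk).symm⟩)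
    obtain ⟨y, e⟩ := IsIntegrallyClosed.algebraMap_eq_of_integral hint
    refine hb2 y (IsFractionRing.injective A K ?_)
    rw [map_mul, e, div_mul_cancel₀ _ ha']
  · push Not at hmm
    obtain ⟨r, hrm, k, hk, hku⟩ := hmm
    rw [IsLocalRing.notMem_maximalIdeal] at hku
    obtain ⟨u, rfl⟩ := hku
    have hprinc : maximalIdeal A ≤ Ideal.span {r} := by
      intro m hm
      obtain ⟨c, hc⟩ := hb3 m hm
      have h : (u : A) * m = c * r := by
        refine mul_right_cancel₀ ha0 ?_
        calc (u : A) * m * a = m * (↑u * a) := by ring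
          _ = r * (b * m) := by rw [hk]; ring
          _ = c * r * a := by rw [← hc]; ring
      exact Ideal.mem_span_singleton'.mpr ⟨↑u⁻¹ * c, by
        rw [mul_assoc, ← h, ← mul_assoc, Units.inv_mul, one_mul]⟩
    have hh := Ideal.height_le_one_of_isPrincipal_of_mem_minimalPrimes (Ideal.span {r})
      (maximalIdeal A) ⟨⟨inferInstance, (Ideal.span_singleton_le_iff_mem _).mpr hrm⟩,
        fun q hq _ => hprinc.trans hq.2⟩
    have h2 : ringKrullDim A ≤ 1 := by
      rw [← maximalIdeal_height_eq_ringKrullDim]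
      exact_mod_cast hh
    exact absurd (hd.trans h2) (by norm_num)

/-- Under `S₂`, divisibility by a non-zero-divisor is decided in codimension at most one. -/
theorem dvd_of_forall_height_le_one (hS : HasSk 2 R R) {a : R} (ha : IsSMulRegular R a) (b : R)
    (h : ∀ (P : Ideal R) [P.IsPrime], ringKrullDim (Localization.AtPrime P) ≤ 1 →
      algebraMap R (Localization.AtPrime P) a ∣ algebraMap R (Localization.AtPrime P) b) : a ∣ b := by
  rw [hasSk_iff] at hS
  by_contra hab
  have hb0 : (Submodule.Quotient.mk b : QuotSMulTop a R) ≠ 0 := by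
    rw [Ne, Submodule.Quotient.mk_eq_zero, Submodule.mem_smul_pointwise_iff_exists]
    rintro ⟨k, -, hk⟩
    exact hab ⟨k, hk.symm⟩
  obtain ⟨P, hP, hle⟩ :=
    exists_le_isAssociatedPrime_of_isNoetherianRing R (Submodule.Quotient.mk b : QuotSMulTop a R) hb0
  have := IsAssociatedPrime.isPrime hP
  have haP : a ∈ P := hle (by
    rw [Submodule.mem_colon_singleton, Submodule.mem_bot, ← Submodule.Quotient.mk_smul,
      Submodule.Quotient.mk_eq_zero]
    exact Submodule.smul_mem_pointwise_smul _ _ _ Submodule.mem_top)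
  let A := Localization.AtPrime P
  have hassP := Module.associatedPrimes.mem_associatedPrimes_atPrime_of_mem_associatedPrimes hP
  have haA : IsSMulRegular A (algebraMap R A a) := by
    have h2 := ((isWeaklyRegular_singleton_iff R a).mpr ha).of_isLocalizedModule A P.primeCompl
      (Algebra.linearMap R A)
    rwa [List.map_singleton, isWeaklyRegular_singleton_iff] at h2
  have haM : algebraMap R A a ∈ maximalIdeal A :=
    (IsLocalization.AtPrime.to_map_mem_maximal_iff A P a).mpr haP
  have hdepth : depth A A = 1 := by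
    have h1 := SES.idealDepth_quotSMulTop (maximalIdeal A) haM haA
    have h0 : idealDepth (maximalIdeal A) (QuotSMulTop (algebraMap R A a) A) = 0 := by
      refine (Basic.idealDepth_congr (maximalIdeal A) (CM.quotSMulTopLocalizedEquiv P R a)).symm.trans
        ((Assoc.idealDepth_eq_zero_iff _ _ ?_).mpr ⟨_, hassP, le_rfl⟩)
      have : Nontrivial (LocalizedModule P.primeCompl (QuotSMulTop a R)) :=
        not_subsingleton_iff_nontrivial.mp fun hs => by
          rw [associatedPrimes.eq_empty_of_subsingleton] at hassP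
          exact hassP
      exact Basic.smul_top_ne_top Ideal.IsPrime.ne_top'
    rw [h0, zero_add] at h1
    exact h1.symm
  have hdim : ringKrullDim A ≤ 1 := by
    by_contra hc
    have h2 : ((2 : ℕ) : WithBot ℕ∞) ≤ ringKrullDim A := succ_le_of_not_le 1 (by simpa using hc)
    have := hS P inferInstance 2 le_rfl h2
    rw [hdepth] at this
    norm_num at this
  obtain ⟨c, hc⟩ := h P hdim
  obtain ⟨c', s, rfl⟩ := IsLocalization.exists_mk'_eq P.primeCompl c
  have h3 : algebraMap R A (b * s) = algebraMap R A (a * c') := by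
    rw [map_mul, map_mul, hc, mul_assoc, IsLocalization.mk'_spec]
  obtain ⟨⟨t, ht⟩, ht'⟩ := (IsLocalization.eq_iff_exists P.primeCompl A).mp h3
  refine (P.primeCompl.mul_mem ht s.2) (hle ?_)
  rw [Submodule.mem_colon_singleton, Submodule.mem_bot, ← Submodule.Quotient.mk_smul,
    Submodule.Quotient.mk_eq_zero, Submodule.mem_smul_pointwise_iff_exists]
  exact ⟨t * c', trivial, by simp only [smul_eq_mul] at ht' ⊢; linear_combination ht'.symm⟩

/-- Divisibility in an integrally closed localization from integrality of the fraction. -/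
theorem dvd_atPrime_of_isIntegral {A : Type u} [CommRing A] [IsDomain A] (P : Ideal A) [P.IsPrime]
    (hP : IsIntegrallyClosed (Localization.AtPrime P)) {a b : A} (ha : a ≠ 0)
    (hx : IsIntegral A (algebraMap A (FractionRing A) b / algebraMap A (FractionRing A) a)) :
    algebraMap A (Localization.AtPrime P) a ∣ algebraMap A (Localization.AtPrime P) b := by
  obtain ⟨y, hy⟩ := (isIntegrallyClosed_iff (R := Localization.AtPrime P) (FractionRing A)).mp hP
    (hx.tower_top (A := Localization.AtPrime P))
  refine ⟨y, IsFractionRing.injective (Localization.AtPrime P) (FractionRing A) ?_⟩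
  rw [map_mul, hy, ← IsScalarTower.algebraMap_apply, ← IsScalarTower.algebraMap_apply,
    mul_div_cancel₀ _ (IsFractionRing.to_map_eq_zero_iff.not.mpr ha)]

/-- An `R₁ + S₂` Noetherian local ring is a normal domain. -/
theorem isDomain_isIntegrallyClosed (A : Type u) [CommRing A] [IsNoetherianRing A] [IsLocalRing A]
    (hR : HasRk 1 A) (hS : HasSk 2 A A) : IsDomain A ∧ IsIntegrallyClosed A := by
  have hred : IsReduced A := isReduced_iff.mpr ⟨fun p _ hp => hR p (hp.trans (by norm_num)),
    (hasSk_iff 1 A).mpr fun p _ hl j hj hd => (hasSk_iff 2 A).mp hS p hl j (by omega) hd⟩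
  have hreg : ∀ (P : Ideal A) [P.IsPrime], ringKrullDim (Localization.AtPrime P) ≤ 1 →
      IsRegularLocalRing (Localization.AtPrime P) :=
    fun P _ h => (hasRk_iff 1 A).mp hR P (by simpa using h)
  have hmem : ∀ {x : A}, (∀ P ∈ minimalPrimes A, x ∈ P) → x = 0 := by
    intro x hx
    have : x ∈ sInf (minimalPrimes A) := Ideal.mem_sInf.mpr fun {P} hP => hx P hP
    rw [minimalPrimes, Ideal.sInf_minimalPrimes] at this
    exact IsReduced.eq_zero x this
  have hdom : IsDomain A := by
    obtain ⟨P, hP⟩ := (Set.nonempty_coe_sort.mp (Ideal.nonempty_minimalPrimes (I := (⊥ : Ideal A)) bot_ne_top) : (minimalPrimes A).Nonempty)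
    have hPp : P.IsPrime := hP.1.1
    suffices hsing : ∀ Q ∈ minimalPrimes A, Q = P by
      have hbot : P = ⊥ := eq_bot_iff.mpr fun x hx => hmem fun Q hQ => hsing Q hQ ▸ hx
      have : (⊥ : Ideal A).IsPrime := hbot ▸ hPp
      exact IsDomain.of_bot_isPrime A
    by_contra! hne
    classical
    have hfin := minimalPrimes.finite_of_isNoetherianRing A
    let others : Finset (Ideal A) := hfin.toFinset.erase P
    obtain ⟨a, haP, hao⟩ : ∃ a ∈ P, ∀ Q ∈ others, a ∉ Q := by
      by_contra! hc
      have hsub : (P : Set A) ⊆ ⋃ Q ∈ (others : Set (Ideal A)), (Q : Set A) := fun x hx => by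
        obtain ⟨Q, hQ, hxQ⟩ := hc x hx
        exact Set.mem_iUnion₂_of_mem hQ hxQ
      obtain ⟨Q, hQ, hle⟩ := (Ideal.subset_union_prime ⊥ ⊥ fun i hi _ _ =>
        ((hfin.mem_toFinset.mp (Finset.mem_of_mem_erase hi)).1.1)).mp hsub
      exact Finset.ne_of_mem_erase hQ
        (le_antisymm ((hfin.mem_toFinset.mp (Finset.mem_of_mem_erase hQ)).2 hP.1 hle) hle)
    obtain ⟨b, hbJ, hbP⟩ : ∃ b ∈ others.inf id, b ∉ P := by
      by_contra! hc
      obtain ⟨Q, hQ, hle⟩ := (hPp.inf_le' (f := id)).mp hc
      exact Finset.ne_of_mem_erase hQ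
        (le_antisymm hle (hP.2 (hfin.mem_toFinset.mp (Finset.mem_of_mem_erase hQ)).1 hle))
    have hbQ : ∀ Q ∈ others, b ∈ Q := fun Q hQ => (Finset.inf_le (f := id) hQ) hbJ
    have hoth : ∀ Q ∈ minimalPrimes A, Q ≠ P → Q ∈ others := fun Q hQ hQP =>
      Finset.mem_erase.mpr ⟨hQP, hfin.mem_toFinset.mpr hQ⟩
    have hab : a * b = 0 := hmem fun Q hQ => by
      by_cases hQP : Q = P
      · exact Q.mul_mem_right b (hQP ▸ haP)
      · exact Q.mul_mem_left a (hbQ Q (hoth Q hQ hQP))
    have hs : IsSMulRegular A (a + b) := by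
      rw [isSMulRegular_iff_right_eq_zero_of_smul]
      intro y hy
      rw [smul_eq_mul] at hy
      refine hmem fun Q hQ => ((hQ.1.1.mem_or_mem (show (a + b) * y ∈ Q from hy ▸ Q.zero_mem))
        ).resolve_left fun hab' => ?_
      by_cases hQP : Q = P
      · subst hQP
        exact hbP ((Q.add_mem_iff_right haP).mp hab')
      · exact hao Q (hoth Q hQ hQP) ((Q.add_mem_iff_left (hbQ Q (hoth Q hQ hQP))).mp hab')
    obtain ⟨c, hc⟩ := dvd_of_forall_height_le_one hS hs a fun Q _ hQ => by
      have := hreg Q hQ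
      have := Groth.Agent.Lib.Regular.Quotient.isDomain (Localization.AtPrime Q)
      have h0 : algebraMap A (Localization.AtPrime Q) a * algebraMap A _ b = 0 := by
        rw [← map_mul, hab, map_zero]
      rcases mul_eq_zero.mp h0 with h0 | h0
      · rw [h0]; exact dvd_zero _
      · rw [map_add, h0, add_zero]
    have ha1c : a * (1 - c) = 0 := by
      refine IsReduced.eq_zero _ ⟨2, ?_⟩
      have h1 : a * (1 - c) = b * c := by linear_combination hc
      rw [sq]
      calc a * (1 - c) * (a * (1 - c)) = a * (1 - c) * (b * c) := by rw [← h1]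
        _ = (a * b) * ((1 - c) * c) := by ring
        _ = 0 := by rw [hab, zero_mul]
    have hcb : c * b = 0 := by linear_combination -hc + ha1c
    rcases IsLocalRing.isUnit_or_isUnit_one_sub_self c with hu | hu
    · exact hbP ((hu.mul_right_eq_zero.mp hcb) ▸ P.zero_mem)
    · have : a = 0 := hu.mul_left_eq_zero.mp ha1c
      obtain ⟨Q, hQ, hQP⟩ := hne
      exact hao Q (hoth Q hQ hQP) (this ▸ Q.zero_mem)
  refine ⟨hdom, (isIntegrallyClosed_iff (FractionRing A)).mpr fun {x} hx => ?_⟩
  obtain ⟨b, a, ha, rfl⟩ := IsFractionRing.div_surjective A x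
  have ha0 : a ≠ 0 := nonZeroDivisors.ne_zero ha
  obtain ⟨c, hc⟩ := dvd_of_forall_height_le_one hS (fun y z h => mul_left_cancel₀ ha0 h) b
    fun P _ hP => dvd_atPrime_of_isIntegral P
      (@Groth.Agent.Lib.Regular.UFD.isIntegrallyClosed _ _ (hreg P hP)) ha0 hx
  refine ⟨c, ?_⟩
  rw [hc, map_mul, mul_div_cancel_left₀ _ (IsFractionRing.to_map_eq_zero_iff.not.mpr ha0)]

theorem normal_iff : (∀ (p : Ideal R) [p.IsPrime], IsDomain (Localization.AtPrime p) ∧
      IsIntegrallyClosed (Localization.AtPrime p)) ↔ HasRk 1 R ∧ HasSk 2 R R := by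
  constructor
  · intro h
    refine ⟨(hasRk_iff 1 R).mpr fun p _ hd => ?_, (hasSk_iff 2 R).mpr fun p _ _ j hj hd => ?_⟩
    · obtain ⟨_, _⟩ := h p
      exact isRegularLocalRing_of_normal (by simpa using hd)
    · obtain ⟨_, _⟩ := h p
      interval_cases j
      · simp
      · simpa using one_le_depth_of_reduced (A := Localization.AtPrime p) (by simpa using hd)
      · simpa using two_le_depth_of_normal (A := Localization.AtPrime p) (by simpa using hd)
  · rintro ⟨hR, hS⟩ p _
    rw [hasRk_iff] at hR
    rw [hasSk_iff] at hS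
    exact isDomain_isIntegrallyClosed _
      ((hasRk_iff 1 _).mpr fun Q _ => (FormalFibre.forall_localization_iff p.primeCompl
        (isoInvariant_rkPt 1)).mpr (fun q _ _ => hR q) Q)
      ((hasSk_iff 2 _).mpr fun Q _ => (FormalFibre.forall_localization_iff p.primeCompl
        (isoInvariant_skPt 2)).mpr (fun q _ _ => hS q) Q)

end Groth.Agent.H18.SerreCrit
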